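import Cfsg.Agent.Lib.Fusion.LocalSaturation
import Cfsg.Agent.Lib.Fusion.Centric
import Cfsg.Agent.Lib.Fusion.Local
import Cfsg.Agent.Lib.FusionQuot.Joins
import Mathlib.Data.Finite.Prod
import Mathlib.Data.Finite.Sigma

/-!
# Local subsystems used in control theorems for fusion systems

`IsLocal F E`: `E` is a saturated subsystem of `F` in which every centric subgroup containing
`O_p(E)` is centric in `F`.  The class is closed under `N_E(X)` and under `T C_E(Y)`.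
-/

set_option autoImplicit false

namespace CfsgLib.FusionControl

open Cfsg Cfsg.FusionSystem CfsgLib.Fusion

variable {Ω : Type*} [Group Ω] {S T : Subgroup Ω} {F : Cfsg.FusionSystem S}
variable {E : Cfsg.FusionSystem T} {p : ℕ}

/-- Saturated subsystems whose centric subgroups above the largest normal one are centric in `F`. -/
def IsLocal (F : Cfsg.FusionSystem S) (p : ℕ) {T : Subgroup Ω} (E : Cfsg.FusionSystem T) : Prop :=
  E.IsSubsystemOf F ∧ E.IsSaturated p ∧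
    ∀ Q : Subgroup Ω, E.core ≤ Q → E.IsCentric Q → F.IsCentric Q

theorem IsLocal.le_S (h : IsLocal F p E) : T ≤ S :=
  dom_le (h.1 _ (subtype_mem E (le_refl T)))

theorem IsLocal.finite [Finite S] (h : IsLocal F p E) : Finite T := finite_of_le h.le_S

theorem IsLocal.isPGroup (hS : IsPGroup p S) (h : IsLocal F p E) : IsPGroup p T := hS.to_le h.le_S

theorem isLocal_self (hF : F.IsSaturated p) : IsLocal F p F :=
  ⟨fun _ => subset_rfl, hF, fun _ _ h => h⟩

theorem IsFIso.mono {E' : Cfsg.FusionSystem S} (hle : E.IsSubsystemOf E') {P Q : Subgroup Ω}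
    {e : P ≃* Q} (he : IsFIso E e) : IsFIso E' e := hle _ he

/-- The maps of `G` between subgroups of `T`. -/
def restrictSystem (G : Cfsg.FusionSystem S) {T : Subgroup Ω} (hTS : T ≤ S) :
    Cfsg.FusionSystem T where
  Hom P := {φ | φ ∈ G.Hom P ∧ P ≤ T ∧ ∀ x : P, φ x ∈ T}
  le_of_mem h := ⟨h.2.1, h.2.2⟩
  injective_of_mem h := G.injective_of_mem h.1
  conj_mem hP hg := ⟨G.conj_mem (hP.trans hTS) (hTS hg), hP,
    fun x => T.mul_mem (T.mul_mem hg (hP x.2)) (T.inv_mem hg)⟩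
  comp_mem hφ hψ h := ⟨G.comp_mem hφ.1 hψ.1 h, hφ.2.1, fun _ => hψ.2.2 _⟩
  inv_mem := by
    rintro P φ ⟨hφ, hP, hv⟩
    obtain ⟨ψ, hψ, hinv⟩ := G.inv_mem hφ
    refine ⟨ψ, ⟨hψ, ?_, ?_⟩, hinv⟩
    · rintro _ ⟨x, rfl⟩; exact hv x
    · rintro ⟨_, x, rfl⟩
      rw [hinv]; exact hP x.2

/-! ### A measure for induction -/

/-- The number of maps of a system. -/
noncomputable def size (E : Cfsg.FusionSystem T) : ℕ :=
  Set.ncard {x : Σ P : Subgroup Ω, P →* Ω | x.2 ∈ E.Hom x.1}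

theorem maps_finite [Finite T] (E : Cfsg.FusionSystem T) :
    {x : Σ P : Subgroup Ω, P →* Ω | x.2 ∈ E.Hom x.1}.Finite := by
  have hfin := CfsgLib.FusionQuot.finite_subgroups_le (S := T)
  have : Finite {P : Subgroup Ω // P ≤ T} := hfin.to_subtype
  have h2 : ∀ P : {P : Subgroup Ω // P ≤ T}, Finite {φ : (P : Subgroup Ω) →* Ω // φ ∈ E.Hom P} := by
    intro P
    have : Finite (P : Subgroup Ω) := finite_of_le P.2
    refine Finite.of_injective (fun φ => fun x : (P : Subgroup Ω) =>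
      (⟨φ.1 x, map_mem φ.2 x⟩ : T)) ?_
    intro a b h
    exact Subtype.ext (MonoidHom.ext fun x => congrArg Subtype.val (congrFun h x))
  refine Set.finite_coe_iff.1 (Finite.of_injective (β := Σ P : {P : Subgroup Ω // P ≤ T},
    {φ : (P : Subgroup Ω) →* Ω // φ ∈ E.Hom P})
    (fun x => ⟨⟨x.1.1, dom_le x.2⟩, ⟨x.1.2, x.2⟩⟩) ?_)
  rintro ⟨⟨P, φ⟩, hφ⟩ ⟨⟨P', φ'⟩, hφ'⟩ h
  simp only [Sigma.mk.injEq, Subtype.mk.injEq] at h
  obtain ⟨rfl, h⟩ := h
  simp only [heq_eq_eq, Subtype.mk.injEq] at h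
  subst h
  rfl

theorem size_lt [Finite T] {T' : Subgroup Ω} {E' : Cfsg.FusionSystem T'}
    (hle : E'.IsSubsystemOf E) {P : Subgroup Ω} {φ : P →* Ω} (h : φ ∈ E.Hom P) (h' : φ ∉ E'.Hom P) :
    size E' < size E := by
  refine Set.ncard_lt_ncard ⟨fun x hx => hle _ hx, fun hsub => h' ?_⟩ (maps_finite E)
  exact hsub (show (⟨P, φ⟩ : Σ P : Subgroup Ω, P →* Ω) ∈ _ from h)

/-! ### `T C_E(Y)` for a normal `Y` -/

theorem normal_conj_mem {Y : Subgroup Ω} (hY : E.IsNormal Y) {t y : Ω} (ht : t ∈ T) (hy : y ∈ Y) :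
    t * y * t⁻¹ ∈ Y :=
  conj_mem_of_mem_normalizer (stronglyClosed_le_normalizer (isNormal_stronglyClosed hY) ht) hy

/-- The maps of `E` acting on the normal subgroup `Y` like elements of `T`. -/
def tcSystem (E : Cfsg.FusionSystem T) (Y : Subgroup Ω) (hY : E.IsNormal Y) :
    Cfsg.FusionSystem T where
  Hom P := {φ | φ ∈ E.Hom P ∧ ∃ ψ ∈ E.Hom (P ⊔ Y),
    (∀ x : P, ψ (Subgroup.inclusion le_sup_left x) = φ x) ∧
      ∃ t ∈ T, ∀ y : Y, ψ (Subgroup.inclusion le_sup_right y) = t * (y : Ω) * t⁻¹}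
  le_of_mem h := E.le_of_mem h.1
  injective_of_mem h := E.injective_of_mem h.1
  conj_mem {P g} hP hg := ⟨E.conj_mem hP hg, conjHom (P ⊔ Y) g, E.conj_mem (sup_le hP hY.1) hg,
    fun _ => rfl, g, hg, fun _ => rfl⟩
  comp_mem := by
    rintro P R φ ψ ⟨hφ, φ', hφ', hag₁, t, ht, ht'⟩ ⟨hψ, ψ', hψ', hag₂, u, hu, hu'⟩ h
    have hmem : ∀ x, φ' x ∈ R ⊔ Y :=
      forall_mem_of_sup (fun x => by rw [hag₁]; exact le_sup_left (b := Y) (h x))
        (fun x => by rw [ht']; exact le_sup_right (a := R) (normal_conj_mem hY ht x.2))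
    refine ⟨E.comp_mem hφ hψ h, _, E.comp_mem hφ' hψ' hmem, fun x => ?_, u * t, T.mul_mem hu ht,
      fun y => ?_⟩
    · show ψ' ⟨φ' (Subgroup.inclusion le_sup_left x), _⟩ = ψ ⟨φ x, h x⟩
      rw [← hag₂]
      congr 1
      exact Subtype.ext (hag₁ x)
    · show ψ' ⟨φ' (Subgroup.inclusion le_sup_right y), _⟩ = _
      rw [show u * t * (y : Ω) * (u * t)⁻¹ = u * (t * y * t⁻¹) * u⁻¹ by simp [mul_assoc],
        ← hu' ⟨t * y * t⁻¹, normal_conj_mem hY ht y.2⟩]
      congr 1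
      exact Subtype.ext (ht' y)
  inv_mem := by
    rintro P φ ⟨hφ, φ', hφ', hag₁, t, ht, ht'⟩
    obtain ⟨ψ, hψ, hinv⟩ := E.inv_mem hφ
    obtain ⟨ψ', hψ', hinv'⟩ := E.inv_mem hφ'
    have hY' : ∀ y ∈ Y, t⁻¹ * y * t ∈ Y := fun y hy => by
      have := normal_conj_mem hY (T.inv_mem ht) hy
      rwa [inv_inv] at this
    have hle : φ.range ⊔ Y ≤ φ'.range := by
      refine sup_le ?_ fun y hy => ⟨Subgroup.inclusion le_sup_right ⟨_, hY' y hy⟩, ?_⟩
      · rintro _ ⟨x, rfl⟩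
        exact ⟨_, hag₁ x⟩
      · rw [ht']; simp [mul_assoc]
    refine ⟨ψ, ⟨hψ, _, restrict_mem hψ' hle, ?_, t⁻¹, T.inv_mem ht, fun y => ?_⟩, hinv⟩
    · rintro ⟨_, x, rfl⟩
      rw [hinv]
      have := hinv' (Subgroup.inclusion le_sup_left x)
      simp only [hag₁] at this
      exact this
    · have := hinv' (Subgroup.inclusion le_sup_right ⟨_, hY' y y.2⟩)
      simp only [ht'] at this
      rw [inv_inv]
      refine Eq.trans ?_ this
      simp only [MonoidHom.coe_comp, Function.comp_apply]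
      congr 1
      exact Subtype.ext (by simp [mul_assoc])

theorem tcSystem_le (Y : Subgroup Ω) (hY : E.IsNormal Y) : (tcSystem E Y hY).IsSubsystemOf E :=
  fun _ _ h => h.1

theorem kNormalizer_autInducedBy {Y : Subgroup Ω} (hY : E.IsNormal Y) :
    kNormalizer T Y (autInducedBy T Y) = T := by
  refine le_antisymm (kNormalizer_le_S _ _ _) fun t ht => mem_kNormalizer.2 ⟨ht, ?_, ?_⟩
  · exact stronglyClosed_le_normalizer (isNormal_stronglyClosed hY) ht
  · exact conjAut_mem_autInducedBy ht _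

theorem isFullyNormalized_of_le_normalizer [Finite T] {X : Subgroup Ω} (hX : X ≤ T)
    (hn : T ≤ Subgroup.normalizer (X : Set Ω)) : E.IsFullyNormalized X :=
  ⟨hX, fun _ _ => by
    rw [show normalizerIn T X = T from le_antisymm (normalizerIn_le T X) (le_inf le_rfl hn)]
    exact Nat.card_le_card_of_injective _ (Subgroup.inclusion_injective (normalizerIn_le T _))⟩

theorem isConj_normal_eq {Y Q : Subgroup Ω} (hY : E.IsNormal Y) (h : E.IsConj Y Q) [Finite T] :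
    Q = Y := by
  obtain ⟨φ, hφ, rfl⟩ := h
  have : Finite Y := finite_of_le hY.1
  exact range_eq_of_le (hom_inj hφ) fun x =>
    (isNormal_stronglyClosed hY).2 _ le_rfl φ hφ x

theorem tcSystem_isSaturated [Finite T] [Fact p.Prime] (hT : IsPGroup p T) (hE : E.IsSaturated p)
    {Y : Subgroup Ω} (hY : E.IsNormal Y) : (tcSystem E Y hY).IsSaturated p := by
  have hfn : E.IsFullyNormalized Y :=
    isFullyNormalized_of_le_normalizer hY.1 (stronglyClosed_le_normalizer (isNormal_stronglyClosed hY))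
  have hk : IsFullyKNormalized E Y (autInducedBy T Y) := by
    intro Q' e he
    obtain rfl := isConj_normal_eq hY he.isConj
    obtain ⟨θ, hθ, hθe⟩ := (isReceptive_of_isFullyNormalized hT hE hfn).2 _ _ he.symm
      (range_subtype_comp e.symm)
    refine ⟨_, θ, hθ, le_extender he.le_right fun x => map_mem he.symm x, fun g hg hgT h => ?_, 1,
      one_mem _, fun y hy => ?_⟩
    · exact (mem_extender_iff_congr e.symm (fun _ => rfl) hgT hg).2 h
    · refine (hθe _ (e y).2 hy).trans ?_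
      show ((e.symm (e y) : _) : Ω) = _
      rw [MulEquiv.symm_apply_apply]
      rfl
  have hkn := kNormalizer_autInducedBy hY
  refine (isSaturated_copyOver (tcSystem E Y hY) hkn.symm).1
    (isSaturated_kNormalizerSystem hT hE hY.1 hk fun P => ?_)
  show (tcSystem E Y hY).Hom P = _
  ext φ
  constructor
  · rintro ⟨hφ, ψ, hψ, hag, t, ht, ht'⟩
    refine ⟨hφ, hkn.symm ▸ dom_le hφ, fun x => by rw [hkn]; exact map_mem hφ x, ψ, hψ, hag,
      conjAut Y t (stronglyClosed_le_normalizer (isNormal_stronglyClosed hY) ht),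
      conjAut_mem_autInducedBy ht _, fun y => ?_⟩
    rw [ht', conjAut_apply]
  · rintro ⟨hφ, -, -, ψ, hψ, hag, k, hk', hky⟩
    obtain ⟨t, ht, ht'⟩ := mem_autInducedBy_iff.1 hk'
    exact ⟨hφ, ψ, hψ, hag, t, ht, fun y => by rw [hky, ht']⟩

/-! ### Normal subgroups of local subsystems -/

theorem isNormal_tcSystem {Y Z : Subgroup Ω} (hY : E.IsNormal Y) (hZ : E.IsNormal Z) :
    (tcSystem E Y hY).IsNormal Z := by
  refine ⟨hZ.1, fun P φ hφ => ?_⟩
  obtain ⟨hφE, ψ, hψ, hag, t, ht, ht'⟩ := hφ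
  obtain ⟨χ, hχ, hag', hZχ⟩ := hZ.2 _ ψ hψ
  have hle : P ⊔ Z ≤ P ⊔ Y ⊔ Z := sup_le_sup_right le_sup_left _
  have hle' : P ⊔ Z ⊔ Y ≤ P ⊔ Y ⊔ Z :=
    sup_le hle (le_sup_right.trans le_sup_left)
  refine ⟨χ.comp (Subgroup.inclusion hle),
    ⟨restrict_mem hχ hle, _, restrict_mem hχ hle', fun _ => rfl, t, ht, fun y => ?_⟩,
    fun x => ?_, ?_⟩
  · rw [← ht' y, ← hag' (Subgroup.inclusion le_sup_right y)]
    rfl
  · rw [← hag x, ← hag' (Subgroup.inclusion le_sup_left x)]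
    rfl
  · ext z
    rw [mem_map_subgroupOf]
    constructor
    · rintro ⟨x, hx, hxZ, rfl⟩
      exact hZχ.le ⟨⟨x, hle hx⟩, hxZ, rfl⟩
    · intro hz
      obtain ⟨x, hx, hxZ, hxz⟩ := mem_map_subgroupOf.1 (hZχ.ge hz)
      exact ⟨x, le_sup_right (a := P) hxZ, hxZ, hxz⟩

theorem isNormal_normalizer_self {X : Subgroup Ω} (hX : X ≤ T) :
    (normalizerSystem E X hX).IsNormal X := by
  refine ⟨le_normalizerIn hX, fun P φ hφ => ?_⟩
  obtain ⟨hφE, hP, hv, ψ, hψ, hag, hXψ⟩ := hφ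
  refine ⟨ψ, ⟨hψ, sup_le hP (le_normalizerIn hX), ?_, ψ.comp (Subgroup.inclusion ?_),
    restrict_mem hψ ?_, fun _ => rfl, ?_⟩, hag, hXψ⟩
  · exact forall_mem_of_sup (fun x => by rw [hag]; exact hv x) fun x =>
      le_normalizerIn hX (mem_of_map_subgroupOf_sup_eq hXψ x)
  · exact sup_le le_rfl le_sup_right
  · exact sup_le le_rfl le_sup_right
  · ext z
    rw [mem_map_subgroupOf]
    constructor
    · rintro ⟨x, hx, hxX, rfl⟩
      exact hXψ.le ⟨⟨x, (sup_le le_rfl le_sup_right : P ⊔ X ⊔ X ≤ P ⊔ X) hx⟩, hxX, rfl⟩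
    · intro hz
      obtain ⟨x, hx, hxX, hxz⟩ := mem_map_subgroupOf.1 (hXψ.ge hz)
      exact ⟨x, le_sup_left (b := X) hx, hxX, hxz⟩

theorem isNormal_normalizerSystem {X Z : Subgroup Ω} (hX : X ≤ T) (hZ : E.IsNormal Z)
    (hZX : Z ≤ normalizerIn T X) : (normalizerSystem E X hX).IsNormal Z := by
  refine ⟨hZX, fun P φ hφ => ?_⟩
  obtain ⟨hφE, hP, hv, ψ, hψ, hag, hXψ⟩ := hφ
  obtain ⟨χ, hχ, hag', hZχ⟩ := hZ.2 _ ψ hψ
  have hle : P ⊔ Z ≤ P ⊔ X ⊔ Z := sup_le_sup_right le_sup_left _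
  have hle' : P ⊔ Z ⊔ X ≤ P ⊔ X ⊔ Z :=
    sup_le hle (le_sup_right.trans le_sup_left)
  have hZ' : ((Z.subgroupOf (P ⊔ Z)).map (χ.comp (Subgroup.inclusion hle))) = Z := by
    ext z
    rw [mem_map_subgroupOf]
    constructor
    · rintro ⟨x, hx, hxZ, rfl⟩
      exact hZχ.le ⟨⟨x, hle hx⟩, hxZ, rfl⟩
    · intro hz
      obtain ⟨x, hx, hxZ, hxz⟩ := mem_map_subgroupOf.1 (hZχ.ge hz)
      exact ⟨x, le_sup_right (a := P) hxZ, hxZ, hxz⟩
  refine ⟨χ.comp (Subgroup.inclusion hle),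
    ⟨restrict_mem hχ hle, sup_le hP hZX, ?_, _, restrict_mem hχ hle', fun _ => rfl, ?_⟩,
    fun x => ?_, hZ'⟩
  · exact forall_mem_of_sup
      (fun x => by
        show χ (Subgroup.inclusion le_sup_left (Subgroup.inclusion le_sup_left x)) ∈ _
        rw [hag', hag]; exact hv x)
      fun x => hZX (mem_of_map_subgroupOf_sup_eq hZ' x)
  · ext z
    rw [mem_map_subgroupOf]
    constructor
    · rintro ⟨x, hx, hxX, rfl⟩
      show χ (Subgroup.inclusion le_sup_left ⟨x, le_sup_right (a := P) hxX⟩) ∈ X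
      rw [hag']
      exact hXψ.le ⟨_, hxX, rfl⟩
    · intro hz
      obtain ⟨x, hx, hxX, hxz⟩ := mem_map_subgroupOf.1 (hXψ.ge hz)
      exact ⟨x, le_sup_right (a := P ⊔ Z) hxX, hxX, by rw [← hxz, ← hag']; rfl⟩
  · rw [← hag x, ← hag' (Subgroup.inclusion le_sup_left x)]
    rfl

theorem normalizerSystem_le {X : Subgroup Ω} (hX : X ≤ T) :
    (normalizerSystem E X hX).IsSubsystemOf E := fun _ _ h => h.1

/-- A subgroup centric for a subsystem is centric, if centralizers of its conjugates can be moved. -/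
theorem isCentric_of_move {T' : Subgroup Ω} {E' : Cfsg.FusionSystem T'} {Q : Subgroup Ω}
    (hQT : Q ≤ T) (hQ : E'.IsCentric Q)
    (h : ∀ Q', E.IsConj Q Q' → ∃ (D : Subgroup Ω) (θ : D →* Ω), θ ∈ E.Hom D ∧
      Q' ≤ D ∧ centralizerIn T Q' ≤ D ∧ E'.IsConj Q ((Q'.subgroupOf D).map θ) ∧
      ∀ x : D, (x : Ω) ∈ centralizerIn T Q' → θ x ∈ T') :
    E.IsCentric Q := by
  refine ⟨hQT, fun Q' hQ' => ?_⟩
  obtain ⟨D, θ, hθ, hQD, hCD, hconj, hv⟩ := h Q' hQ'
  intro c hc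
  have hmem : θ ⟨c, hCD hc⟩ ∈ (Q'.subgroupOf D).map θ := by
    refine hQ.2 _ hconj ⟨hv _ hc, Subgroup.mem_centralizer_iff.2 ?_⟩
    rintro _ ⟨⟨y, hy⟩, hyQ, rfl⟩
    rw [← map_mul, ← map_mul]
    exact congrArg θ (Subtype.ext (Subgroup.mem_centralizer_iff.1 hc.2 y hyQ))
  obtain ⟨⟨y, hy⟩, hyQ, hyc⟩ := hmem
  have h2 : y = c := congrArg Subtype.val (hom_inj hθ hyc)
  exact h2 ▸ hyQ

/-- `N_E(X)` is local when `X` is fully normalized and `O_p(E)` normalizes `X`. -/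
theorem isLocal_normalizerSystem [Finite S] [Fact p.Prime] (hS : IsPGroup p S) (hE : IsLocal F p E)
    {X : Subgroup Ω} (hX : E.IsFullyNormalized X) (hA : E.core ≤ normalizerIn T X) :
    IsLocal F p (normalizerSystem E X hX.1) := by
  have hT := hE.isPGroup hS
  have := hE.finite
  have hsat := isSaturated_normalizerSystem hT hE.2.1 hX
    (isNormalizerSystem_normalizerSystem E X hX.1)
  refine ⟨fun P φ h => hE.1 P h.1, hsat, fun Q hQA hQ => ?_⟩
  have hfin : Finite (normalizerIn T X) := finite_of_le (normalizerIn_le T X)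
  have hAQ : E.core ≤ Q := (CfsgLib.FusionQuot.le_core _ (isNormal_normalizerSystem hX.1
    (CfsgLib.FusionQuot.isNormal_core E) hA)).trans hQA
  have hXQ : X ≤ Q := (CfsgLib.FusionQuot.le_core _ (isNormal_normalizer_self hX.1)).trans hQA
  have hQT : Q ≤ T := hQ.1.trans (normalizerIn_le T X)
  refine hE.2.2 Q hAQ (isCentric_of_move hQT hQ fun Q' hQ' => ?_)
  obtain ⟨f, hf⟩ := exists_iso_of_isConj hQ'
  set X' := (X.subgroupOf Q).map (Q'.subtype.comp f.toMonoidHom) with hX'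
  have hXX' : E.IsConj X X' := ⟨_, restrict_mem (P := X) hf hXQ, range_comp_inclusion hXQ⟩
  obtain ⟨e, he, θ, hθ, hθv, hag⟩ := exists_normalizer_map hT hE.2.1 hX (isConj_symm hXX')
  have hX'Q' : X' ≤ Q' := by rintro _ ⟨x, -, rfl⟩; exact (f x).2
  have hQ'N : Q' ≤ normalizerIn T X' := by
    intro q hq
    refine ⟨hf.le_right hq, mem_normalizer_of_forall (α := MulAut.congr
      (isoOfInjective (φ := (Q'.subtype.comp f.toMonoidHom).comp (Subgroup.inclusion hXQ))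
        (hom_inj (restrict_mem (P := X) hf hXQ)) (range_comp_inclusion hXQ))
      (conjAut X ((f.symm ⟨q, hq⟩ : Q) : Ω) (hQ.1 (f.symm ⟨q, hq⟩).2).2)) fun y => ?_⟩
    set g := isoOfInjective (φ := (Q'.subtype.comp f.toMonoidHom).comp (Subgroup.inclusion hXQ))
        (hom_inj (restrict_mem (P := X) hf hXQ)) (range_comp_inclusion hXQ) with hg
    have hval : ∀ x : X, ((g x : _) : Ω) = f (Subgroup.inclusion hXQ x) := fun x => rfl
    rw [congr_apply, hval]
    have e1 : Subgroup.inclusion hXQ (conjAut X ((f.symm ⟨q, hq⟩ : Q) : Ω) (hQ.1 (f.symm ⟨q, hq⟩).2).2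
        (g.symm y)) = f.symm ⟨q, hq⟩ * Subgroup.inclusion hXQ (g.symm y) * (f.symm ⟨q, hq⟩)⁻¹ :=
      Subtype.ext rfl
    rw [e1, map_mul, map_mul, map_inv, MulEquiv.apply_symm_apply]
    have e2 := hval (g.symm y)
    rw [MulEquiv.apply_symm_apply] at e2
    simp only [Subgroup.coe_mul, Subgroup.coe_inv, ← e2]
  set χ := (θ.comp (Subgroup.inclusion hQ'N)).comp f.toMonoidHom with hχdef
  have hχ : χ ∈ E.Hom Q := mem_of_comp hf hθ (fun x => hQ'N (f x).2) _ fun x => rfl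
  have hθX : ∀ x (hx : x ∈ normalizerIn T X'), x ∈ X' → θ ⟨x, hx⟩ ∈ X := fun x hx hxX => by
    rw [show θ ⟨x, hx⟩ = e ⟨x, hxX⟩ from hag ⟨x, hxX⟩]; exact (e _).2
  have : Finite X := finite_of_le hX.1
  refine ⟨normalizerIn T X', θ, hθ, hQ'N,
    le_inf (centralizerIn_le T Q')
      (((Subgroup.centralizer_le hX'Q').trans (centralizer_le_normalizer X')).trans' inf_le_right),
    ⟨χ, ⟨hχ, hQ.1, fun x => hθv _, χ.comp (Subgroup.inclusion (sup_le le_rfl hXQ)),
      restrict_mem hχ _, fun x => rfl, ?_⟩, ?_⟩, fun x _ => hθv x⟩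
  · rw [← range_comp_inclusion le_sup_right]
    refine range_eq_of_le ?_ fun x => hθX _ (hQ'N (f _).2) ⟨⟨x, hXQ x.2⟩, x.2, rfl⟩
    exact ((hom_inj hθ).comp ((Subgroup.inclusion_injective _).comp f.injective)).comp
      ((Subgroup.inclusion_injective _).comp (Subgroup.inclusion_injective _))
  · rw [← range_comp_inclusion hQ'N]
    ext y
    constructor
    · rintro ⟨x, rfl⟩; exact ⟨f x, rfl⟩
    · rintro ⟨x, rfl⟩
      exact ⟨f.symm x, by
        show θ (Subgroup.inclusion hQ'N (f (f.symm x))) = _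
        rw [MulEquiv.apply_symm_apply]; rfl⟩

/-- `T C_E(Y)` is local. -/
theorem isLocal_tcSystem [Finite S] [Fact p.Prime] (hS : IsPGroup p S) (hE : IsLocal F p E)
    {Y : Subgroup Ω} (hY : E.IsNormal Y) : IsLocal F p (tcSystem E Y hY) := by
  have hT := hE.isPGroup hS
  have := hE.finite
  refine ⟨fun P φ h => hE.1 P h.1, tcSystem_isSaturated hT hE.2.1 hY, fun Q hQA hQ => ?_⟩
  have hAQ : E.core ≤ Q := (CfsgLib.FusionQuot.le_core _
    (isNormal_tcSystem hY (CfsgLib.FusionQuot.isNormal_core E))).trans hQA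
  have hYQ : Y ≤ Q := (CfsgLib.FusionQuot.le_core _ (isNormal_tcSystem hY hY)).trans hQA
  refine hE.2.2 Q hAQ (isCentric_of_move hQ.1 hQ fun Q' hQ' => ?_)
  obtain ⟨f, hf⟩ := exists_iso_of_isConj hQ'
  have : Finite Y := finite_of_le hY.1
  obtain ⟨a, ha, haf⟩ := exists_aut (restrict_mem (P := Y) hf hYQ) (range_eq_of_le
    (hom_inj (restrict_mem (P := Y) hf hYQ))
    fun x => (isNormal_stronglyClosed hY).2 _ le_rfl _ (restrict_mem (P := Y) hf hYQ) x)
  have hfn : E.IsFullyNormalized Y :=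
    isFullyNormalized_of_le_normalizer hY.1 (stronglyClosed_le_normalizer (isNormal_stronglyClosed hY))
  have hai : IsFIso E (a : Y ≃* Y).symm := IsFIso.symm ((mem_autGroup_iff hY.1).1 ha)
  obtain ⟨θ, hθ, hθa⟩ := (isReceptive_of_isFullyNormalized hT hE.2.1 hfn).2 _ _ hai
    (range_subtype_comp _)
  have hTY : T ≤ Subgroup.normalizer (Y : Set Ω) :=
    stronglyClosed_le_normalizer (isNormal_stronglyClosed hY)
  have hYQ' : ∀ y : Y, (a y : Ω) ∈ Q' := fun y => by rw [haf]; exact (f _).2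
  have hQ'D : Q' ≤ extender T Y (Y.subtype.comp (a : Y ≃* Y).symm.toMonoidHom) := by
    intro g hg
    refine (mem_extender_iff_congr (a : Y ≃* Y).symm (fun _ => rfl) (hf.le_right hg)
      (hTY (hf.le_right hg))).2 (mem_autInducedBy_iff.2
        ⟨(f.symm ⟨g, hg⟩ : Q), hQ.1 (f.symm ⟨g, hg⟩).2, fun y => ?_⟩)
    set w : Y := conjAut Y ((f.symm ⟨g, hg⟩ : Q) : Ω) (hTY (hQ.1 (f.symm ⟨g, hg⟩).2)) y
    have hw : (a w : Ω) = g * (a y : Ω) * g⁻¹ := by
      rw [haf, haf]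
      show ((f (Subgroup.inclusion hYQ w) : Q') : Ω) = g * ((f (Subgroup.inclusion hYQ y) : Q') : Ω) * g⁻¹
      rw [show Subgroup.inclusion hYQ w = f.symm ⟨g, hg⟩ * Subgroup.inclusion hYQ y *
        (f.symm ⟨g, hg⟩)⁻¹ from Subtype.ext rfl]
      simp
    show ((MulAut.congr (a : Y ≃* Y).symm (conjAut Y g _) y : Y) : Ω) = (w : Ω)
    rw [congr_apply, MulEquiv.symm_symm]
    refine congrArg Subtype.val ((a : Y ≃* Y).symm_apply_eq.2 (Subtype.ext ?_))
    rw [hw, conjAut_apply]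
  have hCD : centralizerIn T Q' ≤ extender T Y (Y.subtype.comp (a : Y ≃* Y).symm.toMonoidHom) := by
    intro c hc
    refine (mem_extender_iff_congr (a : Y ≃* Y).symm (fun _ => rfl) hc.1 (hTY hc.1)).2 ?_
    rw [(conjAut_eq_one_iff (hTY hc.1)).2 (Subgroup.mem_centralizer_iff.2 fun y hy => by
      refine Subgroup.mem_centralizer_iff.1 hc.2 y ?_
      have := hYQ' ((a : Y ≃* Y).symm ⟨y, hy⟩)
      rwa [MulEquiv.apply_symm_apply] at this), map_one]
    exact one_mem _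
  have hχE : (θ.comp (Subgroup.inclusion hQ'D)).comp f.toMonoidHom ∈ E.Hom Q :=
    mem_of_comp hf hθ (fun x => hQ'D (f x).2) _ fun x => rfl
  refine ⟨_, θ, hθ, hQ'D, hCD,
    ⟨_, ⟨hχE, _, restrict_mem hχE (sup_le le_rfl hYQ), fun _ => rfl, 1, T.one_mem, fun y => ?_⟩, ?_⟩,
    fun x _ => map_mem hθ x⟩
  · show θ (Subgroup.inclusion hQ'D (f (Subgroup.inclusion hYQ y))) = _
    rw [one_mul, inv_one, mul_one]
    have h1 : ((f (Subgroup.inclusion hYQ y) : Q') : Ω) = (a y : Ω) := (haf y).symm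
    have hmem : ((f (Subgroup.inclusion hYQ y) : Q') : Ω) ∈ Y := by rw [h1]; exact (a y).2
    refine (hθa _ hmem (hQ'D (f _).2)).trans ?_
    rw [show (⟨_, hmem⟩ : Y) = a y from Subtype.ext h1]
    show (((a : Y ≃* Y).symm ((a : Y ≃* Y) y) : Y) : Ω) = y
    rw [MulEquiv.symm_apply_apply]
  · rw [← range_comp_inclusion hQ'D]
    ext y
    constructor
    · rintro ⟨x, rfl⟩; exact ⟨f x, rfl⟩
    · rintro ⟨x, rfl⟩
      exact ⟨f.symm x, by
        show θ (Subgroup.inclusion hQ'D (f (f.symm x))) = _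
        rw [MulEquiv.apply_symm_apply]; rfl⟩

end CfsgLib.FusionControl
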