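import Cfsg.Agent.Lib.FusionControl.CenterStep
import Cfsg.Agent.Lib.Solvable.Core

/-!
# Control by the centralizer of a central subgroup

`control_centralizer`: a system containing the centralizer system of a central subgroup `A` and the
normalizer systems of the chosen subgroups contains `F`, provided that in every model either a
chosen subgroup is normal or a normal subgroup outside the core centralizes `A`.
-/

set_option autoImplicit false

namespace CfsgLib.FusionControl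

open Cfsg Cfsg.FusionSystem CfsgLib.Fusion

universe u
variable {Ω : Type u} [Group Ω] {S T : Subgroup Ω} {F G : Cfsg.FusionSystem S}
variable {E : Cfsg.FusionSystem T} {p : ℕ}

/-- A Sylow subgroup meets a normal subgroup in a Sylow subgroup of it. -/
theorem exists_sylow_inf {H : Type*} [Group H] [Finite H] [Fact p.Prime] (P : Sylow p H)
    (K : Subgroup H) [K.Normal] :
    ∃ Q : Sylow p K, (Q : Subgroup K).map K.subtype = (P : Subgroup H) ⊓ K := by
  have hPK : IsPGroup p ((P : Subgroup H).subgroupOf K) :=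
    IsPGroup.comap_subtype P.isPGroup'
  obtain ⟨Q, hQ⟩ := hPK.exists_le_sylow
  obtain ⟨P', hP'⟩ := Q.exists_comap_subtype_eq
  obtain ⟨g, rfl⟩ := MulAction.exists_smul_eq H P P'
  have h1 : ((g • P : Sylow p H) : Subgroup H) ⊓ K =
      ((P : Subgroup H) ⊓ K).map (MulAut.conj g).toMonoidHom := by
    rw [Subgroup.map_inf _ _ _ (MulAut.conj g).injective,
      map_conj_of_mem_normalizer (H := K) (by rw [Subgroup.normalizer_eq_top]; exact Subgroup.mem_top g)]
    rfl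
  have hQmap : (Q : Subgroup K).map K.subtype = ((g • P : Sylow p H) : Subgroup H) ⊓ K := by
    rw [← hP']
    exact Subgroup.subgroupOf_map_subtype _ _
  refine ⟨Q, (Subgroup.eq_of_le_of_card_ge ?_ ?_).symm⟩
  · rw [← Subgroup.subgroupOf_map_subtype]
    exact Subgroup.map_mono hQ
  · rw [hQmap, h1, Subgroup.card_map_of_injective (MulAut.conj g).injective]

/-- Frattini factorization of an element conjugating a subgroup of a Sylow subgroup into it. -/
theorem exists_frattini_factor {H : Type*} [Group H] [Finite H] [Fact p.Prime] (P : Sylow p H)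
    (K : Subgroup H) [K.Normal] {D : Subgroup H} (hD : D ≤ (P : Subgroup H)) {g : H}
    (hg : ∀ x ∈ D, g * x * g⁻¹ ∈ (P : Subgroup H)) :
    ∃ k ∈ K, ∃ n ∈ Subgroup.normalizer (((P : Subgroup H) ⊓ K : Subgroup H) : Set H),
      g = k * n ∧ ∀ x ∈ D, n * x * n⁻¹ ∈ (P : Subgroup H) := by
  set X := (P : Subgroup H) ⊓ K
  set N := Subgroup.normalizer (X : Set H)
  obtain ⟨Q, hQ⟩ := exists_sylow_inf P K
  have htop : N ⊔ K = ⊤ := by
    have := Sylow.normalizer_sup_eq_top Q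
    rwa [hQ] at this
  obtain ⟨k, hk, n, hn, hgkn⟩ := Subgroup.mem_sup_of_normal_left.1
    (show g ∈ K ⊔ N by rw [sup_comm, htop]; exact Subgroup.mem_top g)
  have hPN : (P : Subgroup H) ≤ N := fun x hx => mem_normalizer_inf (Subgroup.le_normalizer hx)
    (by rw [Subgroup.normalizer_eq_top]; exact Subgroup.mem_top x)
  set M := ((P : Subgroup H) ⊔ K) ⊓ N
  have hPM : (P : Subgroup H) ≤ M := le_inf le_sup_left hPN
  have hD1 : D.map (MulAut.conj n).toMonoidHom ≤ M := by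
    rintro _ ⟨x, hx, rfl⟩
    refine ⟨?_, N.mul_mem (N.mul_mem hn (hPN (hD hx))) (N.inv_mem hn)⟩
    have e : n * x * n⁻¹ = k⁻¹ * (g * x * g⁻¹) * k := by rw [← hgkn]; simp [mul_assoc]
    show n * x * n⁻¹ ∈ _
    rw [e]
    exact mul_mem (mul_mem (Subgroup.mem_sup_right (K.inv_mem hk))
      (Subgroup.mem_sup_left (hg x hx))) (Subgroup.mem_sup_right hk)
  have hD2 : IsPGroup p ((D.map (MulAut.conj n).toMonoidHom).subgroupOf M) :=
    IsPGroup.comap_subtype ((P.isPGroup'.to_le hD).map _)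
  obtain ⟨R, hR⟩ := hD2.exists_le_sylow
  obtain ⟨m, hm⟩ := MulAction.exists_smul_eq M R (P.subtype hPM)
  obtain ⟨t, ht, k₀, hk₀, htk⟩ := Subgroup.mem_sup_of_normal_right.1 m.2.1
  have hk₀N : k₀ ∈ N := by
    have h : t⁻¹ * (m : H) ∈ N := N.mul_mem (N.inv_mem (hPN ht)) m.2.2
    rwa [← htk, inv_mul_cancel_left] at h
  refine ⟨k * k₀⁻¹, K.mul_mem hk (K.inv_mem hk₀), k₀ * n, N.mul_mem hk₀N hn, ?_, fun x hx => ?_⟩
  · rw [← hgkn]; simp [mul_assoc]
  · have h1 : MulAut.conj m • (⟨n * x * n⁻¹, hD1 ⟨x, hx, rfl⟩⟩ : M) ∈ (m • R : Sylow p M).toSubgroup :=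
      Subgroup.smul_mem_pointwise_smul _ (MulAut.conj m) _ (hR ⟨x, hx, rfl⟩)
    rw [hm] at h1
    have h2 : (m : H) * (n * x * n⁻¹) * (m : H)⁻¹ ∈ (P : Subgroup H) := h1
    have e : k₀ * n * x * (k₀ * n)⁻¹ = t⁻¹ * ((m : H) * (n * x * n⁻¹) * (m : H)⁻¹) * t := by
      rw [← htk]; simp [mul_assoc]
    rw [e]
    exact mul_mem (mul_mem ((P : Subgroup H).inv_mem ht) h2) ht

theorem le_normalizer_comap {L : Type*} [Group L] (ι : T →* L) (M : Subgroup L) [hM : M.Normal] :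
    T ≤ Subgroup.normalizer (((M.comap ι).map T.subtype : Subgroup Ω) : Set Ω) := by
  intro t ht
  rw [Subgroup.mem_normalizer_iff]
  intro u
  constructor
  · rintro ⟨v, hv, rfl⟩
    refine ⟨⟨t, ht⟩ * v * ⟨t, ht⟩⁻¹, ?_, rfl⟩
    show ι _ ∈ M
    rw [map_mul, map_mul, map_inv]
    exact hM.conj_mem _ hv _
  · rintro ⟨v, hv, hvu⟩
    refine ⟨⟨t, ht⟩⁻¹ * v * ⟨t, ht⟩, ?_, ?_⟩
    · show ι _ ∈ M
      rw [map_mul, map_mul, map_inv]
      exact hM.conj_mem' _ hv _
    · show t⁻¹ * (v : Ω) * t = u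
      rw [show (v : Ω) = t * u * t⁻¹ from hvu]
      simp [mul_assoc]

/-- A normal subgroup of the model gives a normal subgroup of the system. -/
theorem isNormal_of_normal_map [Finite T] {L : Type*} [Group L] {ι : T →* L}
    (hι : E.IsRealizedBy ι) {U : Subgroup Ω} (hU : U ≤ T) [hn : ((U.subgroupOf T).map ι).Normal] :
    E.IsNormal U := by
  refine ⟨hU, fun P φ hφ => ?_⟩
  obtain ⟨g, hg⟩ := realized_exists_conj hι hφ
  have hPT := dom_le hφ
  have hgU : ∀ u : U, g * ι ⟨u, hU u.2⟩ * g⁻¹ ∈ (U.subgroupOf T).map ι := fun u =>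
    hn.conj_mem _ ⟨⟨u, hU u.2⟩, u.2, rfl⟩ g
  obtain ⟨ψ, hψ, hψg⟩ := realized_subgroup_conj hι (sup_le hPT hU) g
    (realized_conj_mem_range_of_sup hι hPT hU (fun x => ⟨_, hg x⟩)
      fun u => Subgroup.map_le_range _ _ (hgU u))
  refine ⟨ψ, hψ, fun x => realized_inj hι (x := ⟨_, map_mem hψ _⟩) (y := ⟨_, map_mem hφ x⟩) ?_, ?_⟩
  · rw [hψg, hg]
    rfl
  · have : Finite U := finite_of_le hU
    rw [← range_comp_inclusion le_sup_right]
    refine range_eq_of_le ((hom_inj hψ).comp (Subgroup.inclusion_injective _)) fun u => ?_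
    obtain ⟨w, hw, hwu⟩ := hgU u
    have h2 : ψ (Subgroup.inclusion le_sup_right u) = (w : Ω) := realized_inj hι
      (x := ⟨_, map_mem hψ _⟩) ((hψg (Subgroup.inclusion le_sup_right u) (map_mem hψ _)).trans hwu.symm)
    show ψ (Subgroup.inclusion le_sup_right u) ∈ U
    rw [h2]
    exact hw

namespace CoreData

variable {Y : Subgroup Ω} (D : CoreData F E p Y)

/-- An element of order prime to `p` fixing `a ∈ Y` modulo `Z` fixes it. -/
theorem fix_of_coprime_mod [Finite T] [Fact p.Prime] (hT : IsPGroup p T) {Z : Subgroup Ω}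
    (hZ : E.IsNormal Z) (hZY : Z ≤ Y) (hp : IsPGroup p (E.autGroup Z)) {l : D.L}
    (hl : Nat.Coprime (orderOf l) p) (a : Y)
    (h : (a : Ω)⁻¹ * (((D.τ l : MulAut Y) a : Y) : Ω) ∈ Z) : (D.τ l : MulAut Y) a = a := by
  have : Finite Z := finite_of_le hZ.1
  set c : Z := ⟨_, h⟩
  have hy : ∀ k : ℕ, (((D.τ l : MulAut Y) ^ k) a : Y).1 = (a : Ω) * (c : Ω) ^ k := by
    intro k
    induction k with
    | zero => simp
    | succ k ih =>
      have he : ((D.τ l : MulAut Y) ^ k) a = a * (Subgroup.inclusion hZY c) ^ k :=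
        Subtype.ext (ih.trans (by simp))
      rw [pow_succ', MulAut.mul_apply, he, map_mul, map_pow, Subgroup.coe_mul,
        SubgroupClass.coe_pow, D.fix_of_coprime hZ hZY hp hl c, pow_succ', ← mul_assoc]
      congr 1
      exact (mul_inv_cancel_left (a : Ω) _).symm
  have h1 := hy (orderOf l)
  rw [← SubgroupClass.coe_pow, ← map_pow, pow_orderOf_eq_one, map_one] at h1
  have hc1 : (c : Ω) ^ orderOf l = 1 := mul_left_cancel (h1.symm.trans (mul_one _).symm)
  obtain ⟨j, hj⟩ := hT (Subgroup.inclusion hZ.1 c)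
  have hcj : (c : Ω) ^ p ^ j = 1 := congrArg Subtype.val hj
  have hc0 : (c : Ω) = 1 := orderOf_eq_one_iff.1 (Nat.eq_one_of_dvd_coprimes (hl.pow_right j)
    (orderOf_dvd_of_pow_eq_one hc1) (orderOf_dvd_of_pow_eq_one hcj))
  exact Subtype.ext (inv_mul_eq_one.1 hc0).symm

end CoreData

/-- A normal subgroup of the model whose elements of order prime to `p` fix a central element fixes
it. -/
theorem fix_of_coprime_fix [Finite S] [Fact p.Prime] (hE : IsLocal F p E) {Y : Subgroup Ω}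
    (D : CoreData F E p Y) (K : Subgroup D.L) [K.Normal] {a : Y}
    (haS : (a : Ω) ∈ Subgroup.centralizer (S : Set Ω))
    (h : ∀ g ∈ K, Nat.Coprime (orderOf g) p → (D.τ g : MulAut Y) a = a) :
    ∀ g ∈ K, (D.τ g : MulAut Y) a = a := by
  let K' : Subgroup K :=
    { carrier := {g | (D.τ (g : D.L) : MulAut Y) a = a}
      one_mem' := by simp
      mul_mem' := fun {g h} hg hh => by
        show (D.τ ((g : D.L) * h) : MulAut Y) a = a
        rw [map_mul, Subgroup.coe_mul, MulAut.mul_apply, hh, hg]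
      inv_mem' := fun {g} hg => by
        show (D.τ (g : D.L)⁻¹ : MulAut Y) a = a
        conv_lhs => rw [← hg]
        rw [map_inv, Subgroup.coe_inv, MulAut.inv_def]
        exact MulEquiv.symm_apply_apply _ _ }
  suffices hK : K' = ⊤ from fun g hg => hK.ge (Subgroup.mem_top (⟨g, hg⟩ : K))
  obtain ⟨P₀, hP₀⟩ := D.model.2.2.1
  obtain ⟨Q₀, hQ₀⟩ := exists_sylow_inf P₀ K
  have hQK : (Q₀ : Subgroup K) ≤ K' := by
    intro g hg
    have hg' : (g : D.L) ∈ D.ι.range := hP₀ ▸ (hQ₀.le ⟨g, hg, rfl⟩).1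
    obtain ⟨t, ht⟩ := hg'
    show (D.τ (g : D.L) : MulAut Y) a = a
    refine Subtype.ext ?_
    rw [← ht, D.τ_ι, Subgroup.mem_centralizer_iff.1 haS _ (hE.le_S t.2), mul_inv_cancel_right]
  by_contra hne
  obtain ⟨q, hq, hqd⟩ := Nat.exists_prime_and_dvd (mt Subgroup.index_eq_one.1 hne)
  have : Fact q.Prime := ⟨hq⟩
  by_cases hqp : q = p
  · subst hqp
    exact Q₀.not_dvd_index (hqd.trans (Subgroup.index_dvd_of_le hQK))
  · obtain ⟨R⟩ : Nonempty (Sylow q K) := inferInstance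
    refine R.not_dvd_index (hqd.trans (Subgroup.index_dvd_of_le fun x hx => h x x.2 ?_))
    obtain ⟨k, hk⟩ := R.isPGroup' ⟨x, hx⟩
    rw [Subgroup.orderOf_coe]
    exact Nat.Coprime.coprime_dvd_left (orderOf_dvd_of_pow_eq_one (congrArg Subtype.val hk))
      (((Nat.coprime_primes hq Fact.out).2 hqp).pow_left k)

/-- The constrained case when a normal subgroup outside the core fixes `A`. -/
theorem le_of_normal_fix [Finite S] [Fact p.Prime] (hE : IsLocal F p E) (D : CoreData F E p E.core)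
    {A : Subgroup Ω} (hAc : A ≤ Subgroup.centralizer (S : Set Ω)) (hAY : A ≤ E.core)
    (K : Subgroup D.L) [K.Normal]
    (hfix : ∀ k ∈ K, ∀ a ∈ A, ∀ haY : a ∈ E.core, (D.τ k : MulAut E.core) ⟨a, haY⟩ = ⟨a, haY⟩)
    (hCG : ∀ P, F.centralizerHom A P ⊆ G.Hom P)
    (hX : ∀ P, E.normalizerHom ((K.comap D.ι).map T.subtype) P ⊆ G.Hom P) :
    E.IsSubsystemOf G := by
  intro P φ hφ
  have := hE.finite
  have hY := CfsgLib.FusionQuot.isNormal_core E
  obtain ⟨ψ, hψ, hag, -⟩ := hY.2 P φ hφ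
  have hD : P ⊔ E.core ≤ T := dom_le hψ
  obtain ⟨g, hg⟩ := realized_exists_conj D.model.2.1 hψ
  obtain ⟨P₀, hP₀⟩ := D.model.2.2.1
  set D₀ : Subgroup D.L := ((P ⊔ E.core).subgroupOf T).map D.ι
  obtain ⟨k, hk, n, hn, hgkn, hnD⟩ := exists_frattini_factor P₀ K (D := D₀)
    (hP₀.symm ▸ Subgroup.map_le_range _ _) (g := g) (by
      rintro _ ⟨x, hx, rfl⟩
      exact hP₀.symm ▸ ⟨_, hg ⟨x, hx⟩⟩)
  set X := (K.comap D.ι).map T.subtype
  have hXT : X ≤ T := Subgroup.map_subtype_le _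
  have hnX : ∀ x : X, n * D.ι ⟨x, hXT x.2⟩ * n⁻¹ ∈ (X.subgroupOf T).map D.ι := by
    rintro ⟨_, t, ht, rfl⟩
    obtain ⟨hP, hK⟩ := (Subgroup.mem_normalizer_iff.1 hn (D.ι t)).1 ⟨hP₀.symm ▸ ⟨t, rfl⟩, ht⟩
    rw [hP₀] at hP
    obtain ⟨t', ht'⟩ := hP
    refine ⟨t', ⟨t', ?_, rfl⟩, ht'⟩
    show D.ι t' ∈ K
    rw [ht']
    exact hK
  have hDn : ∀ x : ↥(P ⊔ E.core), n * D.ι ⟨x, hD x.2⟩ * n⁻¹ ∈ D.ι.range := fun x =>
    hP₀ ▸ hnD _ ⟨⟨x, hD x.2⟩, x.2, rfl⟩
  obtain ⟨χ', hχ', hχ'n⟩ := realized_subgroup_conj D.model.2.1 (sup_le hD hXT) n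
    (realized_conj_mem_range_of_sup D.model.2.1 hD hXT hDn
      fun x => Subgroup.map_le_range _ _ (hnX x))
  set χ := χ'.comp (Subgroup.inclusion (le_sup_left : P ⊔ E.core ≤ P ⊔ E.core ⊔ X)) with hχdef
  have hχ : χ ∈ E.Hom (P ⊔ E.core) := restrict_mem hχ' _
  have hTX : T ≤ Subgroup.normalizer (X : Set Ω) := le_normalizer_comap D.ι K
  have hχG : χ ∈ G.Hom (P ⊔ E.core) := by
    refine hX _ ⟨hχ, le_inf hD (hD.trans hTX), fun x => ⟨map_mem hχ x, hTX (map_mem hχ x)⟩,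
      χ', hχ', fun x => rfl, ?_⟩
    have : Finite X := finite_of_le hXT
    rw [← range_comp_inclusion le_sup_right]
    refine range_eq_of_le (hom_inj (restrict_mem hχ' le_sup_right)) fun x => ?_
    obtain ⟨w, hw, hwx⟩ := hnX x
    have h2 : χ' (Subgroup.inclusion le_sup_right x) = (w : Ω) := realized_inj D.model.2.1
      (x := ⟨_, map_mem hχ' _⟩)
      ((hχ'n (Subgroup.inclusion le_sup_right x) (map_mem hχ' _)).trans hwx.symm)
    show χ' (Subgroup.inclusion le_sup_right x) ∈ X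
    rw [h2]
    exact hw
  obtain ⟨ρ, hρ, hρv⟩ := E.inv_mem hχ
  have hρmem : ∀ y : χ.range, ρ y ∈ P ⊔ E.core := by
    rintro ⟨_, x, rfl⟩
    rw [hρv]
    exact x.2
  have hμ := E.comp_mem hρ hψ hρmem
  set μ := ψ.comp (ρ.codRestrict _ hρmem) with hμdef
  have hμval : ∀ x : ↥(P ⊔ E.core), μ ⟨χ x, x, rfl⟩ = ψ x := fun x =>
    congrArg ψ (Subtype.ext (hρv x))
  have hSA : ∀ x ∈ S, x ∈ centralizerIn S A := fun x hx =>
    ⟨hx, Subgroup.mem_centralizer_iff.2 fun a ha =>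
      (Subgroup.mem_centralizer_iff.1 (hAc ha) x hx).symm⟩
  have hAR : A ≤ χ.range := by
    intro a ha
    refine ⟨Subgroup.inclusion le_sup_right ((D.τ n : MulAut E.core).symm ⟨a, hAY ha⟩), ?_⟩
    have h1 := (hχ'n (Subgroup.inclusion le_sup_left (Subgroup.inclusion le_sup_right
      ((D.τ n : MulAut E.core).symm ⟨a, hAY ha⟩))) (map_mem hχ' _)).trans (D.equiv n _)
    refine (realized_inj D.model.2.1 (x := ⟨_, map_mem hχ' _⟩) h1).trans ?_
    rw [MulEquiv.apply_symm_apply]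
    rfl
  have hμG : μ ∈ G.Hom χ.range := by
    refine hCG _ ⟨hE.1 _ hμ, fun y hy => hSA y (hE.le_S (dom_le hμ hy)),
      fun y => hSA _ (hE.le_S (map_mem hμ y)), μ.comp (Subgroup.inclusion (sup_le le_rfl hAR)),
      restrict_mem (hE.1 _ hμ) _, fun y => rfl, fun a => ?_⟩
    obtain ⟨x, hx⟩ := hAR a.2
    show μ ⟨(a : Ω), hAR a.2⟩ = a
    rw [show (⟨(a : Ω), hAR a.2⟩ : χ.range) = ⟨χ x, x, rfl⟩ from Subtype.ext hx.symm, hμval]
    -- `ψ x = k (χ x) k⁻¹` and `k` fixes `a`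
    have h1 : D.ι ⟨ψ x, map_mem hψ x⟩ = k * D.ι ⟨a, D.hle (hAY a.2)⟩ *
        k⁻¹ := by
      rw [hg, show (⟨(a : Ω), _⟩ : T) = ⟨χ x, map_mem hχ x⟩ from Subtype.ext hx.symm]
      show _ = k * D.ι ⟨χ' (Subgroup.inclusion le_sup_left x), _⟩ * k⁻¹
      rw [hχ'n, hgkn]
      simp [mul_assoc]
    have h2 := D.equiv k ⟨a, hAY a.2⟩
    rw [hfix k hk a a.2 (hAY a.2)] at h2
    exact realized_inj D.model.2.1 (h1.trans h2)
  have hψG : ψ ∈ G.Hom (P ⊔ E.core) :=
    mem_of_comp hχG hμG (fun x => ⟨x, rfl⟩) ψ fun x => (hμval x).symm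
  exact mem_of_restrict hψG le_sup_left φ fun x => (hag x).symm

/-- **Control by the centralizer of a central subgroup and normalizers of chosen subgroups.** -/
theorem control_centralizer [Finite S] [Fact p.Prime] (hS : IsPGroup p S) (hF : F.IsSaturated p)
    {A : Subgroup Ω} (hAS : A ≤ S) (hAc : A ≤ Subgroup.centralizer (S : Set Ω))
    {Ch : Subgroup Ω → Subgroup Ω → Set (Subgroup Ω)} (hCh : IsGoodChoice S Ch)
    (hgroup : ∀ {T : Subgroup Ω} (E : Cfsg.FusionSystem T) (Z : Subgroup Ω), IsLocal F p E →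
      E.IsNormal Z → IsPGroup p (E.autGroup Z) → Z < E.core →
      centralizerIn T E.core ≤ E.core → ∀ D : CoreData F E p E.core,
      (∃ U ∈ Ch Z T, E.IsNormal U) ∨ ∃ M : Subgroup D.L, M.Normal ∧
        ¬ M ⊓ D.ι.range ≤ (E.core.subgroupOf T).map D.ι ∧
        ∀ m ∈ M, Nat.Coprime (orderOf m) p → ∀ a ∈ A, ∀ haY : a ∈ E.core,
          (D.τ m : MulAut E.core) ⟨a, haY⟩ = ⟨a, haY⟩)
    (hCG : ∀ P, F.centralizerHom A P ⊆ G.Hom P)
    (htop : ⊥ < S → ∀ U ∈ Ch ⊥ S, ∀ P, F.normalizerHom U P ⊆ G.Hom P) :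
    F.IsSubsystemOf G := by
  refine control_top hS hF hCh (fun {T} E Z hE hZ hp hlt hC hcov hrec => ?_) htop
  obtain ⟨D⟩ := exists_coreData hS hF hE hC
  have := hE.finite
  have hAY : A ≤ E.core := fun a ha => center_mem_core hE hC (hAS ha) (hAc ha)
  rcases hgroup E Z hE hZ hp hlt hC D with ⟨U, hU, hUn⟩ | ⟨M, hMn, hMY, hMfix⟩
  · intro P φ hφ
    have hTU : T ≤ Subgroup.normalizer (U : Set Ω) :=
      stronglyClosed_le_normalizer (isNormal_stronglyClosed hUn)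
    obtain ⟨ψ, hψ, hag, hUψ⟩ := hUn.2 P φ hφ
    exact hcov (hlt.trans_le D.hle) U hU P
      ⟨hφ, (dom_le hφ).trans (le_inf le_rfl hTU), fun x => ⟨map_mem hφ x, hTU (map_mem hφ x)⟩,
        ψ, hψ, hag, hUψ⟩
  · set X := (M.comap D.ι).map T.subtype with hXdef
    have hXT : X ≤ T := Subgroup.map_subtype_le _
    have hTX : T ≤ Subgroup.normalizer (X : Set Ω) := le_normalizer_comap D.ι M
    have hXn : ¬ E.IsNormal X := by
      intro h
      refine hMY ?_
      rintro _ ⟨hxM, t, rfl⟩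
      exact ⟨t, CfsgLib.FusionQuot.le_core _ h ⟨t, hxM, rfl⟩, rfl⟩
    have hfn := isFullyNormalized_of_le_normalizer (E := E) hXT hTX
    have hN : ∀ Y' : Subgroup Ω, Y' ≤ T → Y' ≤ normalizerIn T X := fun Y' h => by
      rwa [normalizerIn_eq_of_le hTX]
    refine le_of_normal_fix hE D hAc hAY M (fun k hk a ha haY =>
      fix_of_coprime_fix hE D M (a := ⟨a, haY⟩) (hAc ha) (fun g hg hco => hMfix g hg hco a ha haY) k hk)
      hCG ?_
    exact hrec (normalizerSystem E X hXT) Z (isLocal_normalizerSystem hS hE hfn (hN _ D.hle))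
      (isNormal_normalizerSystem hXT hZ (hN _ hZ.1))
      (isPGroup_autGroup_mono (normalizerSystem_le _) (hN _ hZ.1) hZ.1 hp)
      (hcov.mono (normalizerIn_eq_of_le hTX) (normalizerSystem_le _))
      (size_normalizerSystem_lt _ hXn)

end CfsgLib.FusionControl
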