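import Cfsg.Agent.Lib.FusionControl.InnerStep

/-!
# Control by the normalizer of `W (S)` for functors normal in constrained models
-/

set_option autoImplicit false

namespace CfsgLib.FusionControl

open Cfsg Cfsg.FusionSystem CfsgLib.Fusion

universe u
variable {Ω : Type u} [Group Ω] {S T : Subgroup Ω} {F G : Cfsg.FusionSystem S}
variable {E : Cfsg.FusionSystem T} {p : ℕ} {W : ∀ (Q : Type u) [Group Q], Subgroup Q}

theorem involves_of_quotient {H A : Type*} [Group H] [Group A] (N : Subgroup A) [N.Normal]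
    (h : Cfsg.Involves H (A ⧸ N)) : Cfsg.Involves H A := by
  obtain ⟨K, R, hn, ⟨e⟩⟩ := h
  let f : ↥(K.comap (QuotientGroup.mk' N)) →* H :=
    (e.toMonoidHom.comp (QuotientGroup.mk' _)).comp ((QuotientGroup.mk' N).subgroupComap K)
  have hf : Function.Surjective f := by
    refine (e.surjective.comp (QuotientGroup.mk'_surjective _)).comp ?_
    rintro ⟨x, hx⟩
    obtain ⟨a, rfl⟩ := QuotientGroup.mk'_surjective N x
    exact ⟨⟨a, hx⟩, rfl⟩
  have h2 : ((f.ker.map (K.comap (QuotientGroup.mk' N)).subtype).subgroupOf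
      (K.comap (QuotientGroup.mk' N))) = f.ker :=
    Subgroup.comap_map_eq_self_of_injective (Subgroup.subtype_injective _) _
  have hn2 : ((f.ker.map (K.comap (QuotientGroup.mk' N)).subtype).subgroupOf
      (K.comap (QuotientGroup.mk' N))).Normal := by
    rw [h2]; exact MonoidHom.normal_ker f
  exact ⟨_, f.ker.map (K.comap (QuotientGroup.mk' N)).subtype, hn2,
    ⟨(QuotientGroup.quotientMulEquivOfEq h2).trans
      (QuotientGroup.quotientKerEquivOfSurjective f hf)⟩⟩

/-- If `W` of a Sylow subgroup is normal in the model modulo `Z`, the constrained case lies in `G`. -/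
theorem normalStep [Finite S] [Fact p.Prime] (hS : IsPGroup p S)
    (hW2 : ∀ (Q R : Type u) [Group Q] [Group R] [Finite Q], IsPGroup p Q → ∀ φ : Q ≃* R,
      (W Q).map φ.toMonoidHom = W R)
    (hE : IsLocal F p E) {Z : Subgroup Ω} (hZ : E.IsNormal Z) (hp : IsPGroup p (E.autGroup Z))
    (hlt : Z < E.core) (D : CoreData F E p E.core)
    (hnorm : ∀ (H : Type u) [Group H] [Finite H] (P : Sylow p H),
      Subgroup.centralizer ((pCore p H : Subgroup H) : Set H) ≤ pCore p H →
      (∀ {X : Type} [Group X], Cfsg.Involves X H → Cfsg.Involves X D.L) →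
      (((W (P : Subgroup H)).map (P : Subgroup H).subtype) : Subgroup H).Normal)
    (h : ∀ U ∈ liftSub W Z T,
      ∀ l ∈ Subgroup.normalizer (((U.subgroupOf T).map D.ι : Subgroup D.L) : Set D.L),
        (D.τ l : MulAut E.core) ∈ G.autGroup E.core) :
    ∀ a ∈ E.autGroup E.core, a ∈ G.autGroup E.core := by
  have := hE.finite
  have hT := hE.isPGroup hS
  have hn : ((Z.subgroupOf T).map D.ι).Normal := D.normal_map hZ hlt.le
  set mk := QuotientGroup.mk' ((Z.subgroupOf T).map D.ι) with hmk
  obtain ⟨P₀, hP₀⟩ := D.model.2.2.1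
  set P := P₀.mapSurjective (QuotientGroup.mk'_surjective ((Z.subgroupOf T).map D.ι)) with hPdef
  have hP : (P : Subgroup _) = D.ι.range.map mk := by
    rw [hPdef, ← hP₀]
    rfl
  obtain ⟨U, hU⟩ := liftSub_nonempty (W := W) hZ
  have hV := hnorm _ P (D.quotient_constrained hT hZ hlt.le hp) fun hX => involves_of_quotient _ hX
  intro a ha
  obtain ⟨l, hl⟩ := D.surj ⟨a, ha⟩
  have hmem := h U hU l ((mem_normalizer_liftSub hW2 hT D.model.2.1.1 hU _ hP l).1
    (by rw [Subgroup.normalizer_eq_top_iff.2 hV]; exact Subgroup.mem_top _))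
  rwa [hl] at hmem

/-- `F` is the normalizer system of `W (S)` when `W` is normal in all the constrained models. -/
theorem le_normalizerHom [Finite S] [Fact p.Prime] (hS : IsPGroup p S) (hF : F.IsSaturated p)
    (hW1 : ∀ (Q : Type u) [Group Q] [Finite Q], IsPGroup p Q → Nontrivial Q → W Q ≠ ⊥)
    (hW2 : ∀ (Q R : Type u) [Group Q] [Group R] [Finite Q], IsPGroup p Q → ∀ φ : Q ≃* R,
      (W Q).map φ.toMonoidHom = W R)
    (hnorm : ∀ {T : Subgroup Ω} (E : Cfsg.FusionSystem T) (D : CoreData F E p E.core)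
      (H : Type u) [Group H] [Finite H] (P : Sylow p H),
      Subgroup.centralizer ((pCore p H : Subgroup H) : Set H) ≤ pCore p H →
      (∀ {X : Type} [Group X], Cfsg.Involves X H → Cfsg.Involves X D.L) →
      (((W (P : Subgroup H)).map (P : Subgroup H).subtype) : Subgroup H).Normal) :
    ∀ P, F.Hom P ⊆ F.normalizerHom ((W S).map S.subtype) P := by
  set V := (W S).map S.subtype with hVdef
  have hVS : V ≤ S := Subgroup.map_subtype_le _
  have hCh := isGoodChoice_liftSub (S := S) hS hW1 hW2
  have hSV : S ≤ Subgroup.normalizer (V : Set Ω) := by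
    intro g hg
    refine mem_normalizer_of_map ?_
    have hmap := hW2 S S hS (conjAut S g (Subgroup.le_normalizer hg))
    rw [hVdef, Subgroup.map_map]
    conv_rhs => rw [← hmap, Subgroup.map_map]
    refine congrArg (fun f => (W S).map f) (MonoidHom.ext fun x => ?_)
    exact (conjAut_apply (Subgroup.le_normalizer hg) x).symm
  have hfn : F.IsFullyNormalized V := isFullyNormalized_of_le_normalizer hVS hSV
  have hNS : normalizerIn S V = S := normalizerIn_eq_of_le hSV
  set G := copyOver (normalizerSystem F V hVS) hNS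
  have hG : G.IsSaturated p := (isSaturated_copyOver _ hNS).2
    (isSaturated_normalizerSystem hS hF hfn (isNormalizerSystem_normalizerSystem F V hVS))
  refine control_top (G := G) hS hF hCh (fun {T} E Z hE hZ hp hlt hC hcov _ =>
    hcons_of_step hS hF hG (fun P φ hφ => hφ.1) hCh
      (fun E Z hE hZ hp hlt D hD => normalStep hS hW2 hE hZ hp hlt D (hnorm E D) hD)
      E Z hE hZ hp hlt hC hcov) ?_
  intro _ U hU P φ hφ
  rw [eq_of_mem_liftSub_bot hS hW2 hU] at hφ
  exact hφ

end CfsgLib.FusionControl
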