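import Cfsg.Agent.Lib.FusionControl.OffenderPair

/-!
# A torus from a failure of factorization

`exists_good`: if a family of best offenders on `V` generates, in a Sylow subgroup, a subgroup whose
normalizer lies in the proper stabilizer `M` of `T ≤ V`, then `M` has an element `h` of order prime
to `p` that moves `T` and whose powers are transitive on the nonzero `h t - t`.
-/

set_option autoImplicit false

namespace CfsgLib.OffenderPair

open Matrix CfsgLib.LocalEven.Pair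

variable {G : Type*} [Group G] {W : Type*} [AddCommGroup W]

/-- The action on an invariant subgroup. -/
def onSub (σ : G →* AddMonoid.End W) (D : AddSubgroup W) (hD : ∀ g, ∀ v ∈ D, σ g v ∈ D) :
    G →* AddMonoid.End D where
  toFun g := AddMonoidHom.mk' (fun v : D => (⟨σ g v, hD g v v.2⟩ : D)) fun a b => Subtype.ext (map_add (σ g) _ _)
  map_one' := AddMonoidHom.ext fun v => Subtype.ext (act_one σ v)
  map_mul' a b := AddMonoidHom.ext fun v => Subtype.ext (act_mul σ a b v)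

theorem onSub_apply (σ : G →* AddMonoid.End W) (D : AddSubgroup W) (hD : ∀ g, ∀ v ∈ D, σ g v ∈ D)
    (g : G) (v : D) : ((onSub σ D hD g v : D) : W) = σ g v := rfl

/-- `M` is a proper stabilizer of `T` fixing it as far as `p`-subgroups go. -/
structure Setting (p : ℕ) (σ : G →* AddMonoid.End W) (M : Subgroup G) (T : AddSubgroup W) : Prop where
  ne_top : M ≠ ⊤
  stab : ∀ m ∈ M, ∀ t ∈ T, σ m t ∈ T
  pfix : ∀ X : Subgroup G, X ≤ M → IsPGroup p X → T ≤ fix σ X
  fixer : ∀ g : G, (∀ t ∈ T, σ g t = t) → g ∈ M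

/-- An element of `M` of order prime to `p`, transitive on its nonzero commutators with `T`. -/
def Good (p : ℕ) (σ : G →* AddMonoid.End W) (M : Subgroup G) (T : AddSubgroup W) : Prop :=
  ∃ h ∈ M, Nat.Coprime (orderOf h) p ∧ (∃ t ∈ T, σ h t ≠ t) ∧
    ∀ t₁ ∈ T, ∀ t₂ ∈ T, σ h t₁ ≠ t₁ → σ h t₂ ≠ t₂ →
      ∃ k : ℕ, σ (h ^ k) (σ h t₁ - t₁) = σ h t₂ - t₂

variable {p : ℕ} {σ : G →* AddMonoid.End W} {M : Subgroup G} {T : AddSubgroup W}

theorem Good.transfer {L : Type*} [Group L] {W' : Type*} [AddCommGroup W']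
    {σ' : L →* AddMonoid.End W'} {M' : Subgroup L} {T' : AddSubgroup W'} (h : Good p σ' M' T')
    (f : L →* G) (ι : W' →+ W) (hι : Function.Injective ι) (hM : ∀ x ∈ M', f x ∈ M)
    (hcomm : ∀ x w, ι (σ' x w) = σ (f x) (ι w)) (hT : T'.map ι = T) : Good p σ M T := by
  obtain ⟨x, hx, hxo, ⟨t, ht, hne⟩, htr⟩ := h
  subst hT
  refine ⟨f x, hM x hx, hxo.coprime_dvd_left (orderOf_map_dvd f x), ⟨ι t, ⟨t, ht, rfl⟩, fun he =>
    hne (hι (by rw [hcomm, he]))⟩, ?_⟩
  rintro _ ⟨t₁, h1, rfl⟩ _ ⟨t₂, h2, rfl⟩ n1 n2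
  obtain ⟨k, hk⟩ := htr t₁ h1 t₂ h2 (fun he => n1 (by rw [← hcomm, he]))
    (fun he => n2 (by rw [← hcomm, he]))
  exact ⟨k, by rw [← hcomm, ← hcomm, ← map_pow, ← map_sub, ← map_sub, ← hcomm, hk]⟩

theorem exists_coprime_lift [Fact p.Prime] {H : Type*} [Group H] [Finite G] (π : G →* H) {g : G}
    (hh : Nat.Coprime (orderOf (π g)) p) :
    ∃ n : ℕ, π (g ^ n) = π g ∧ Nat.Coprime (orderOf (g ^ n)) p := by
  obtain ⟨a, m, hm, ha⟩ := Nat.exists_eq_pow_mul_and_not_dvd (orderOf_pos g).ne' p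
    (Fact.out : p.Prime).ne_one
  obtain ⟨j, hj⟩ := exists_pow_eq_self_of_coprime (x := π g) (n := p ^ a) (hh.symm.pow_left a)
  refine ⟨p ^ a * j, by rw [map_pow, pow_mul, hj], ?_⟩
  have h1 : (g ^ (p ^ a * j)) ^ m = 1 := by
    rw [← pow_mul, mul_comm (p ^ a) j, mul_assoc, ← ha, mul_comm, pow_mul, pow_orderOf_eq_one,
      one_pow]
  exact Nat.Coprime.coprime_dvd_left (orderOf_dvd_of_pow_eq_one h1)
    ((Nat.Prime.coprime_iff_not_dvd Fact.out).2 hm).symm

theorem Good.lift [Finite G] [Fact p.Prime] {H : Type*} [Group H] {W' : Type*} [AddCommGroup W']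
    {σ' : H →* AddMonoid.End W'} {T' : AddSubgroup W'} (π : G →* H)
    (h : Good p σ' (M.map π) T') (ι : W' →+ W) (hι : Function.Injective ι)
    (hcomm : ∀ g w, ι (σ' (π g) w) = σ g (ι w)) (hT : T'.map ι = T) : Good p σ M T := by
  obtain ⟨x, ⟨g, hg, rfl⟩, hxo, ⟨t, ht, hne⟩, htr⟩ := h
  obtain ⟨n, hn, hno⟩ := exists_coprime_lift π hxo
  subst hT
  rw [← hn] at hne htr
  refine ⟨g ^ n, pow_mem hg n, hno, ⟨ι t, ⟨t, ht, rfl⟩, fun he => hne (hι (by rw [hcomm, he]))⟩, ?_⟩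
  rintro _ ⟨t₁, h1, rfl⟩ _ ⟨t₂, h2, rfl⟩ n1 n2
  obtain ⟨k, hk⟩ := htr t₁ h1 t₂ h2 (fun he => n1 (by rw [← hcomm, he]))
    (fun he => n2 (by rw [← hcomm, he]))
  exact ⟨k, by rw [← hcomm, ← hcomm, ← map_sub, ← map_sub, ← hcomm, map_pow π, hk]⟩

theorem Setting.comap (h : Setting p σ M T) {L : Subgroup G} (hL : ¬ L ≤ M) :
    Setting p (σ.comp L.subtype) (M.subgroupOf L) T :=
  ⟨fun he => hL (Subgroup.subgroupOf_eq_top.1 he), fun m hm => h.stab m hm,
    fun X hX hXp t ht x hx => h.pfix (X.map L.subtype)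
      (by rintro _ ⟨y, hy, rfl⟩; exact hX hy) (hXp.map _) ht _ ⟨x, hx, rfl⟩,
    fun g hg => h.fixer g hg⟩

theorem Setting.map [Finite G] [Fact p.Prime] (h : Setting p σ M T) {H : Type*} [Group H]
    {W' : Type*} [AddCommGroup W'] {σ' : H →* AddMonoid.End W'} {T' : AddSubgroup W'} (π : G →* H)
    (hπ : Function.Surjective π) (hK : π.ker ≤ M) (ι : W' →+ W) (hι : Function.Injective ι)
    (hcomm : ∀ g w, ι (σ' (π g) w) = σ g (ι w)) (hT : T'.map ι = T) :
    Setting p σ' (M.map π) T' := by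
  have hc : (M.map π).comap π = M := Subgroup.comap_map_eq_self hK
  refine ⟨fun he => h.ne_top ?_, ?_, ?_, ?_⟩
  · rw [← hc, he, Subgroup.comap_top]
  · rintro _ ⟨m, hm, rfl⟩ t ht
    have h1 := h.stab m hm _ (hT.le ⟨t, ht, rfl⟩)
    rw [← hcomm, ← hT] at h1
    obtain ⟨t', ht', he⟩ := h1
    exact hι he ▸ ht'
  · intro X hX hXp t ht x hx
    have : Finite H := Finite.of_surjective π hπ
    let π' : ↥(X.comap π) →* X := π.subgroupComap X
    have hπ' : Function.Surjective π' := fun y => by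
      obtain ⟨g, hg⟩ := hπ y
      exact ⟨⟨g, by rw [Subgroup.mem_comap, hg]; exact y.2⟩, Subtype.ext hg⟩
    obtain ⟨S⟩ : Nonempty (Sylow p ↥(X.comap π)) := inferInstance
    have htop : ((S.mapSurjective hπ' : Sylow p X) : Subgroup X) = ⊤ :=
      ((S.mapSurjective hπ').3 (hXp.of_equiv Subgroup.topEquiv.symm) le_top).symm
    obtain ⟨s, hs, hsx⟩ := htop.ge (Subgroup.mem_top (⟨x, hx⟩ : X))
    have hsx' : π (s : G) = x := congrArg Subtype.val hsx
    have h1 := h.pfix ((S : Subgroup ↥(X.comap π)).map (X.comap π).subtype)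
      ((Subgroup.map_subtype_le _).trans ((Subgroup.comap_mono hX).trans hc.le)) (S.2.map _)
      (hT.le ⟨t, ht, rfl⟩) (s : G) ⟨s, hs, rfl⟩
    rw [← hsx']
    exact hι (by rw [hcomm, h1])
  · intro x hx
    obtain ⟨g, rfl⟩ := hπ x
    refine ⟨g, h.fixer g ?_, rfl⟩
    rw [← hT]
    rintro _ ⟨t, ht, rfl⟩
    rw [← hcomm, hx t ht]

/-! ### Offenders in a quotient acting on an invariant subgroup -/

theorem card_inf_comap {H : Type*} [Group H] [Finite G] (π : G →* H) (B : Subgroup G) {X : Subgroup H}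
    (hX : X ≤ B.map π) :
    Nat.card ↥(B ⊓ X.comap π) = Nat.card X * Nat.card ↥(B ⊓ π.ker) := by
  let φ : ↥(B ⊓ X.comap π) →* X := (π.comp (B ⊓ X.comap π).subtype).codRestrict X fun b => b.2.2
  have hs : Function.Surjective φ := by
    intro x
    obtain ⟨b, hb, hbx⟩ := hX x.2
    exact ⟨⟨b, hb, by show π b ∈ X; rw [hbx]; exact x.2⟩, Subtype.ext hbx⟩
  have hk : Nat.card φ.ker = Nat.card ↥(B ⊓ π.ker) :=
    Nat.card_congr
      { toFun := fun b => ⟨((b : ↥(B ⊓ X.comap π)) : G), (b : ↥(B ⊓ X.comap π)).2.1,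
          congrArg Subtype.val b.2⟩
        invFun := fun b => ⟨⟨b, b.2.1, by
          show π (b : G) ∈ X
          rw [show π (b : G) = 1 from b.2.2]; exact one_mem _⟩,
          Subtype.ext b.2.2⟩
        left_inv := fun _ => rfl
        right_inv := fun _ => rfl }
  rw [← hk, ← φ.ker.index_mul_card, Subgroup.index_ker, MonoidHom.range_eq_top.2 hs, Subgroup.card_top]

variable {H : Type*} [Group H]

theorem card_fix_map [Finite W] (π : G →* H) {D : AddSubgroup W} {σ' : H →* AddMonoid.End D}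
    (hcomm : ∀ g (w : D), ((σ' (π g) w : D) : W) = σ g (w : W)) (Y : Subgroup G) :
    Nat.card (fix σ' (Y.map π)) = Nat.card ↥(D ⊓ fix σ Y) :=
  Nat.card_congr
    { toFun := fun w => ⟨((w : D) : W), (w : D).2, fun y hy => by
        rw [← hcomm]; exact congrArg Subtype.val (w.2 _ ⟨y, hy, rfl⟩)⟩
      invFun := fun w => ⟨⟨w, w.2.1⟩, by
        rintro _ ⟨y, hy, rfl⟩
        exact Subtype.ext ((hcomm y ⟨w, w.2.1⟩).trans (w.2.2 y hy))⟩
      left_inv := fun _ => rfl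
      right_inv := fun _ => rfl }

theorem card_le_meas_map [Finite G] [Finite W] (π : G →* H) {D : AddSubgroup W}
    {σ' : H →* AddMonoid.End D} (hcomm : ∀ g (w : D), ((σ' (π g) w : D) : W) = σ g (w : W))
    (B : Subgroup G) (h0 : meas σ (B ⊓ π.ker) ≤ meas σ B) :
    Nat.card D ≤ meas σ' (B.map π) := by
  have hB : Nat.card B = Nat.card ↥(B.map π) * Nat.card ↥(B ⊓ π.ker) := by
    have := card_inf_comap π B (le_refl (B.map π))
    rwa [inf_eq_left.2 (Subgroup.le_comap_map π B)] at this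
  have hD : D ≤ fix σ (B ⊓ π.ker) := fun w hw b hb => by
    have h1 := hcomm b ⟨w, hw⟩
    rw [show π b = 1 from hb.2, act_one] at h1
    exact h1.symm
  have h1 := card_fix_inf_mul σ (inf_le_left : B ⊓ π.ker ≤ B) D
  rw [inf_eq_left.2 hD] at h1
  rw [meas, meas, hB, mul_comm (Nat.card ↥(B.map π)), mul_assoc] at h0
  have h2 := Nat.le_of_mul_le_mul_left h0 Nat.card_pos
  rw [meas, card_fix_map π hcomm B]
  refine Nat.le_of_mul_le_mul_right (h1.trans ((Nat.mul_le_mul_right _ h2).trans (le_of_eq ?_)))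
    (Nat.card_pos (α := fix σ B))
  ring

theorem meas_map_lt [Finite G] [Finite W] (π : G →* H) {D : AddSubgroup W}
    {σ' : H →* AddMonoid.End D} (hcomm : ∀ g (w : D), ((σ' (π g) w : D) : W) = σ g (w : W))
    (B : Subgroup G) {X : Subgroup H} (hX : X ≤ B.map π)
    (h0 : meas σ (B ⊓ X.comap π) < meas σ B) :
    meas σ' X < meas σ' (B.map π) := by
  have hB : Nat.card B = Nat.card ↥(B.map π) * Nat.card ↥(B ⊓ π.ker) := by
    have := card_inf_comap π B (le_refl (B.map π))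
    rwa [inf_eq_left.2 (Subgroup.le_comap_map π B)] at this
  have hXe : (B ⊓ X.comap π).map π = X := by
    refine le_antisymm ((Subgroup.map_mono inf_le_right).trans (Subgroup.map_comap_le _ _)) ?_
    intro x hx
    obtain ⟨b, hb, rfl⟩ := hX hx
    exact ⟨b, ⟨hb, hx⟩, rfl⟩
  rw [meas, meas, card_inf_comap π B hX, hB, mul_right_comm, mul_right_comm (Nat.card ↥(B.map π))] at h0
  have h2 := Nat.lt_of_mul_lt_mul_right h0
  have h1 := card_fix_inf_mul σ (inf_le_left : B ⊓ X.comap π ≤ B) D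
  conv_lhs => rw [meas, ← hXe, card_fix_map π hcomm, hXe]
  rw [meas, card_fix_map π hcomm B]
  refine Nat.lt_of_mul_lt_mul_right (a := Nat.card (fix σ B)) ?_
  calc Nat.card X * Nat.card ↥(D ⊓ fix σ (B ⊓ X.comap π)) * Nat.card (fix σ B)
      ≤ Nat.card X * (Nat.card (fix σ (B ⊓ X.comap π)) * Nat.card ↥(D ⊓ fix σ B)) := by
        rw [mul_assoc]; exact Nat.mul_le_mul_left _ h1
    _ = Nat.card X * Nat.card (fix σ (B ⊓ X.comap π)) * Nat.card ↥(D ⊓ fix σ B) := (mul_assoc _ _ _).symm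
    _ < Nat.card ↥(B.map π) * Nat.card (fix σ B) * Nat.card ↥(D ⊓ fix σ B) :=
        Nat.mul_lt_mul_of_pos_right h2 Nat.card_pos
    _ = _ := by ring

/-! ### The pair -/

section Coord

variable {F : Type*} [Field F]

/-- The diagonal torus. -/
def diagHom : Fˣ →* SpecialLinearGroup (Fin 2) F where
  toFun a := ⟨!![(a : F), 0; 0, (↑a⁻¹ : F)], by simp [Matrix.det_fin_two]⟩
  map_one' := by
    ext i j
    fin_cases i <;> fin_cases j <;> simp
  map_mul' a b := by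
    refine Subtype.ext ?_
    show _ = (!![(a : F), 0; 0, (↑a⁻¹ : F)] * !![(b : F), 0; 0, (↑b⁻¹ : F)] : Matrix (Fin 2) (Fin 2) F)
    ext i j
    fin_cases i <;> fin_cases j <;> simp [Matrix.mul_apply, Fin.sum_univ_two, mul_comm]

theorem diagHom_coe (a : Fˣ) :
    (diagHom a : Matrix (Fin 2) (Fin 2) F) = !![(a : F), 0; 0, (↑a⁻¹ : F)] := rfl

theorem exists_mulVec_eq (v : Fin 2 → F) (hv : v ≠ 0) :
    ∃ g : SpecialLinearGroup (Fin 2) F, (g : Matrix (Fin 2) (Fin 2) F) *ᵥ ![1, 0] = v := by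
  by_cases h0 : v 0 = 0
  · have h1 : v 1 ≠ 0 := fun h => hv (by ext i; fin_cases i <;> simp [h0, h])
    refine ⟨⟨!![0, -(v 1)⁻¹; v 1, 0], by simp [Matrix.det_fin_two, h1]⟩, ?_⟩
    ext i
    fin_cases i <;> simp [h0]
  · refine ⟨⟨!![v 0, 0; v 1, (v 0)⁻¹], by simp [Matrix.det_fin_two, h0]⟩, ?_⟩
    ext i
    fin_cases i <;> simp

theorem eq_uni_of_fixed (A : SpecialLinearGroup (Fin 2) F)
    (h : (A : Matrix (Fin 2) (Fin 2) F) *ᵥ ![1, 0] = ![1, 0]) :
    (A : Matrix (Fin 2) (Fin 2) F) 0 0 = 1 ∧ (A : Matrix (Fin 2) (Fin 2) F) 1 0 = 0 ∧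
      (A : Matrix (Fin 2) (Fin 2) F) 1 1 = 1 := by
  have h0 := congrFun h 0
  have h1 := congrFun h 1
  simp [Matrix.mulVec, dotProduct, Fin.sum_univ_two] at h0 h1
  have hd := A.2
  rw [Matrix.det_fin_two] at hd
  simp [h0, h1] at hd
  exact ⟨h0, h1, hd⟩

theorem diag_conj (a : Fˣ) (A B : SpecialLinearGroup (Fin 2) F)
    (hA : (A : Matrix (Fin 2) (Fin 2) F) 0 0 = 1 ∧ (A : Matrix (Fin 2) (Fin 2) F) 1 0 = 0 ∧
      (A : Matrix (Fin 2) (Fin 2) F) 1 1 = 1)
    (hB : (B : Matrix (Fin 2) (Fin 2) F) 0 0 = 1 ∧ (B : Matrix (Fin 2) (Fin 2) F) 1 0 = 0 ∧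
      (B : Matrix (Fin 2) (Fin 2) F) 1 1 = 1)
    (h : (B : Matrix (Fin 2) (Fin 2) F) 0 1 = (a : F) * a * (A : Matrix (Fin 2) (Fin 2) F) 0 1) :
    diagHom a * A = B * diagHom a := by
  refine Subtype.ext ?_
  show (!![(a : F), 0; 0, (↑a⁻¹ : F)] * (A : Matrix (Fin 2) (Fin 2) F) : Matrix (Fin 2) (Fin 2) F) =
    (B : Matrix (Fin 2) (Fin 2) F) * !![(a : F), 0; 0, (↑a⁻¹ : F)]
  obtain ⟨a0, a1, a2⟩ := hA
  obtain ⟨b0, b1, b2⟩ := hB
  ext i j
  fin_cases i <;> fin_cases j <;> simp [Matrix.mul_apply, Fin.sum_univ_two, a0, a1, a2, b0, b1, b2, h]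
  field_simp

end Coord

set_option maxHeartbeats 800000 in
/-- A pair of conjugate minimal offenders gives a torus. -/
theorem good_of_pair [Finite G] [Finite W] [Fact p.Prime] (hp : p ≠ 2) {m : ℕ}
    (hW : ∀ v : W, p ^ m • v = 0) (hσ : Function.Injective σ) (hS : Setting p σ M T)
    {B : Subgroup G} (hPT : PairTop p M B) (hBc : ∀ a ∈ B, ∀ b ∈ B, a * b = b * a)
    (hoff : Nat.card W ≤ meas σ B)
    (hmin : ∀ X, X ≤ B → X ≠ ⊥ → X ≠ B → meas σ X < Nat.card W) : Good p σ M T := by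
  classical
  have hp' : p.Prime := Fact.out
  have hB1 : B ≠ ⊥ := fun h => hPT.notNormal ⊥ inferInstance (IsPGroup.of_bot) h.le
  obtain ⟨hquad, hexp, hpzero⟩ := exists_quadratic hW hσ hPT.isP hBc hB1 hoff hmin
  obtain ⟨S, hBS, hSM, -⟩ := hPT.exists_sylow
  -- commutators are killed by `p`
  have hkill : ∀ g w, p • (σ g w - w) = 0 := by
    let Γ : Subgroup G :=
      { carrier := {g | ∀ w, p • (σ g w - w) = 0}
        one_mem' := fun w => by rw [act_one, sub_self, smul_zero]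
        mul_mem' := fun {a b} ha hb w => by
          rw [act_mul, show σ a (σ b w) - w = (σ a (σ b w) - σ b w) + (σ b w - w) by abel, smul_add,
            ha, hb, add_zero]
        inv_mem' := fun {a} ha w => by
          have h1 := ha (σ a⁻¹ w)
          rw [act_act_inv] at h1
          rw [show σ a⁻¹ w - w = -(w - σ a⁻¹ w) by abel, smul_neg, h1, neg_zero] }
    obtain ⟨x, hx⟩ : ∃ x, x ∉ M := by
      by_contra hcon
      push Not at hcon
      exact hPT.ne_top (top_le_iff.1 fun y _ => hcon y)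
    intro g
    have h1 : (⊤ : Subgroup G) ≤ Γ := by
      rw [← hPT.gen hx]
      refine sup_le (fun b hb => hpzero b hb) ?_
      rintro _ ⟨b, hb, rfl⟩ w
      show p • (σ (x * b * x⁻¹) w - w) = 0
      have h2 := congrArg (σ x) (hpzero b hb (σ x⁻¹ w))
      rw [map_zero, map_nsmul, map_sub, act_act_inv, ← act_mul, ← act_mul] at h2
      exact h2
    exact h1 (Subgroup.mem_top g)
  -- an element of `Ω` fixed by `S`, moved by `G`
  obtain ⟨g₀, t₀, ht₀, hmoved⟩ : ∃ g, ∃ t ∈ T, σ g t ≠ t := by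
    by_contra hcon
    push Not at hcon
    exact hS.ne_top (top_le_iff.1 fun g _ => hS.fixer g (hcon g))
  have htS : ∀ s ∈ (S : Subgroup G), σ s t₀ = t₀ := hS.pfix _ hSM S.2 ht₀
  have := Fintype.ofFinite (G ⧸ (S : Subgroup G))
  have hout : ∀ d : G, σ (Quotient.out (QuotientGroup.mk d : G ⧸ (S : Subgroup G))) t₀ = σ d t₀ := by
    intro d
    obtain ⟨⟨s, hs⟩, he⟩ := QuotientGroup.mk_out_eq_mul (S : Subgroup G) d
    rw [he, act_mul, htS _ hs]
  set n := Fintype.card (G ⧸ (S : Subgroup G)) with hn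
  set Sg : W := ∑ q : G ⧸ (S : Subgroup G), σ q.out t₀ with hSg
  have hSfix : ∀ g, σ g Sg = Sg := by
    intro g
    rw [hSg, map_sum]
    refine Fintype.sum_equiv (MulAction.toPerm g) _ _ fun q => ?_
    induction q using QuotientGroup.induction_on with
    | _ d =>
      rw [hout, ← act_mul]
      show σ (g * d) t₀ = σ (Quotient.out (QuotientGroup.mk (g * d) : G ⧸ (S : Subgroup G))) t₀
      rw [hout]
  set u : W := n • t₀ - Sg with hu
  have hnp : ¬ p ∣ n := by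
    rw [hn, ← Nat.card_eq_fintype_card, ← Subgroup.index_eq_card]
    exact S.not_dvd_index
  have huΩ : p • u = 0 := by
    have : u = ∑ q : G ⧸ (S : Subgroup G), (t₀ - σ q.out t₀) := by
      rw [Finset.sum_sub_distrib, Finset.sum_const, Finset.card_univ]
    rw [this, Finset.smul_sum]
    refine Finset.sum_eq_zero fun q _ => ?_
    rw [← neg_sub, smul_neg, hkill, neg_zero]
  have huS : ∀ s ∈ (S : Subgroup G), σ s u = u := fun s hs => by
    rw [hu, map_sub, map_nsmul, hSfix, htS s hs]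
  have humoved : σ g₀ u ≠ u := by
    intro h
    rw [hu, map_sub, map_nsmul, hSfix, sub_left_inj, ← sub_eq_zero, ← smul_sub] at h
    refine hmoved (sub_eq_zero.1 ?_)
    have h1 : addOrderOf (σ g₀ t₀ - t₀) ∣ Nat.gcd n p :=
      Nat.dvd_gcd (addOrderOf_dvd_of_nsmul_eq_zero h) (addOrderOf_dvd_of_nsmul_eq_zero (hkill _ _))
    rw [((Nat.Prime.coprime_iff_not_dvd hp').2 hnp).symm] at h1
    exact AddMonoid.addOrderOf_eq_one_iff.1 (Nat.dvd_one.1 h1)
  -- the action on `Ω`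
  let Ω : AddSubgroup W := (nsmulAddMonoidHom p).ker
  have hΩ : ∀ {w : W}, w ∈ Ω ↔ p • w = 0 := Iff.rfl
  have hΩi : ∀ g, ∀ w ∈ Ω, σ g w ∈ Ω := fun g w hw => by
    rw [hΩ, ← map_nsmul, hΩ.1 hw, map_zero]
  set σΩ := onSub σ Ω hΩi with hσΩ
  set K := σΩ.ker with hKdef
  have hKfix : ∀ k ∈ K, ∀ w ∈ Ω, σ k w = w := by
    intro k hk w hw
    have h1 : σΩ k = 1 := hk
    have := congrArg (fun f : AddMonoid.End Ω => ((f ⟨w, hw⟩ : Ω) : W)) h1
    exact this
  have hKp : IsPGroup p K := by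
    intro k
    refine ⟨1, Subtype.ext (hσ ?_)⟩
    rw [pow_one, Subgroup.coe_pow, Subgroup.coe_one, map_one]
    refine AddMonoidHom.ext fun w => ?_
    have hi : ∀ i : ℕ, σ ((k : G) ^ i) w - w = i • (σ (k : G) w - w) := by
      intro i
      induction i with
      | zero => rw [pow_zero, act_one, sub_self, zero_nsmul]
      | succ i ih =>
        rw [pow_succ', act_mul, show σ ((k : G) ^ i) w = w + i • (σ (k : G) w - w) by rw [← ih]; abel,
          map_add, map_nsmul, hKfix _ k.2 _ (hΩ.2 (hkill _ _)), succ_nsmul]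
        abel
    exact sub_eq_zero.1 ((hi p).trans (hkill _ _))
  have hKn : K.Normal := inferInstance
  have hKM : K ≤ M := by
    refine le_trans ?_ hSM
    have h1 : IsPGroup p ((K ⊔ (S : Subgroup G) : Subgroup G)) := hKp.to_sup_of_normal_left S.2
    rw [← S.3 h1 le_sup_right]
    exact le_sup_left
  set π := QuotientGroup.mk' K with hπdef
  have hπ : Function.Surjective π := QuotientGroup.mk'_surjective K
  have hπk : π.ker = K := QuotientGroup.ker_mk' K
  let σ₃ : G ⧸ K →* AddMonoid.End Ω := QuotientGroup.lift K σΩ le_rfl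
  have hcomm : ∀ g (w : Ω), ((σ₃ (π g) w : Ω) : W) = σ g (w : W) := fun g w => rfl
  have hf3 : ∀ h : G ⧸ K, (∀ w, σ₃ h w = w) → h = 1 := by
    intro h hh
    obtain ⟨g, rfl⟩ := hπ h
    exact (QuotientGroup.eq_one_iff g).2 (show g ∈ σΩ.ker from AddMonoidHom.ext hh)
  set B₃ := B.map π with hB₃def
  have hPT₃ : PairTop p (M.map π) B₃ := hPT.map π hπ (hπk.le.trans hKM) fun N hN hNp hle =>
    hPT.notNormal (N.comap π) (hN.comap π) (hNp.comap_of_ker_isPGroup π (hπk.symm ▸ hKp))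
      (Subgroup.map_le_iff_le_comap.1 hle)
  have hB₃1 : B₃ ≠ ⊥ := fun h => hPT₃.notNormal ⊥ inferInstance IsPGroup.of_bot h.le
  set S₃ := S.mapSurjective hπ with hS₃def
  have hS₃ : (S₃ : Subgroup (G ⧸ K)) = (S : Subgroup G).map π := rfl
  have hBS₃ : B₃ ≤ (S₃ : Subgroup (G ⧸ K)) := Subgroup.map_mono hBS
  have hS₃M : (S₃ : Subgroup (G ⧸ K)) ≤ M.map π := Subgroup.map_mono hSM
  have hS₃n : ¬ (S₃ : Subgroup (G ⧸ K)).Normal := fun h => hPT₃.notNormal _ h S₃.2 hBS₃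
  have hB0 : meas σ (B ⊓ π.ker) ≤ meas σ B := by
    by_cases h0 : B ⊓ π.ker = ⊥
    · rw [h0, meas_bot]; exact hoff
    · refine ((hmin _ inf_le_left h0 fun he => ?_).le).trans hoff
      exact hPT.notNormal K hKn hKp (hπk ▸ he.ge.trans inf_le_right)
  have hoff₃ := card_le_meas_map (σ := σ) π hcomm B hB0
  have hstrict : ∀ X : Subgroup (G ⧸ K), X ≤ B₃ → X ≠ ⊥ → X ≠ B₃ → meas σ₃ X < meas σ₃ B₃ := by
    intro X hX hX0 hXB
    refine meas_map_lt (σ := σ) π hcomm B hX ((hmin _ inf_le_left ?_ ?_).trans_le hoff)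
    · intro h
      refine hX0 ((Subgroup.eq_bot_iff_forall _).2 fun x hx => ?_)
      obtain ⟨b, hb, rfl⟩ := hX hx
      rw [(Subgroup.mem_bot).1 (h.le ⟨hb, hx⟩), map_one]
    · intro h
      exact hXB (le_antisymm hX (Subgroup.map_le_iff_le_comap.2 (h.ge.trans inf_le_right)))
  have hquad₃ : ∀ a ∈ B₃, ∀ a' ∈ B₃, ∀ v, σ₃ a' (σ₃ a v - v) = σ₃ a v - v := by
    rintro _ ⟨a, ha, rfl⟩ _ ⟨a', ha', rfl⟩ v
    exact Subtype.ext (hquad a ha a' ha' (v : W))
  set z : Ω := ⟨u, hΩ.2 huΩ⟩ with hzdef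
  have hz : z ∈ fix σ₃ (S₃ : Subgroup (G ⧸ K)) := by
    rw [hS₃]
    rintro _ ⟨s, hs, rfl⟩
    exact Subtype.ext (huS s hs)
  have hz0 : z ∉ fix σ₃ ⊤ := fun h => humoved (congrArg Subtype.val (h (π g₀) (Subgroup.mem_top _)))
  obtain ⟨-, F, iF, iFt, hcF, e, ψ, hψ⟩ := exists_SL2_of_offender (p := p) σ₃ (A := B₃) (M := M.map π) S₃
    hS₃n hPT₃.isCoatom hS₃M (fun R hR hRt => hPT₃.cover R (hBS₃.trans hR) hRt) hB₃1 hBS₃
    (fun v => Subtype.ext (hΩ.1 v.2)) hf3 hquad₃ hoff₃ hstrict (fun x hx => hPT₃.gen hx) hz hz0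
  -- coordinates
  have hv0 : ψ (z : Ω ⧸ fix σ₃ ⊤) ≠ 0 := fun h =>
    hz0 ((QuotientAddGroup.eq_zero_iff z).1 (ψ.injective (by rw [h, map_zero])))
  obtain ⟨c, hc⟩ := exists_mulVec_eq _ hv0
  let φ : G ⧸ K ≃* SpecialLinearGroup (Fin 2) F := e.trans (MulAut.conj c⁻¹)
  let χ : Ω → Fin 2 → F := fun w =>
    ((c⁻¹ : SpecialLinearGroup (Fin 2) F) : Matrix (Fin 2) (Fin 2) F) *ᵥ ψ (w : Ω ⧸ fix σ₃ ⊤)
  have hχ : ∀ h w, χ (σ₃ h w) = (φ h : Matrix (Fin 2) (Fin 2) F) *ᵥ χ w := by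
    intro h w
    simp only [χ, φ, hψ, MulEquiv.trans_apply, MulAut.conj_apply, inv_inv, Matrix.mulVec_mulVec,
      ← Matrix.SpecialLinearGroup.coe_mul, mul_assoc, mul_inv_cancel, mul_one]
  have hχz : χ z = ![1, 0] := by
    show ((c⁻¹ : SpecialLinearGroup (Fin 2) F) : Matrix (Fin 2) (Fin 2) F) *ᵥ ψ z = _
    rw [← hc, Matrix.mulVec_mulVec, ← Matrix.SpecialLinearGroup.coe_mul, inv_mul_cancel,
      Matrix.SpecialLinearGroup.coe_one, Matrix.one_mulVec]
  have hχ0 : ∀ w : Ω, χ w = 0 → w ∈ fix σ₃ ⊤ := by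
    intro w hw
    have h1 := congrArg (fun v => (c : Matrix (Fin 2) (Fin 2) F) *ᵥ v) hw
    simp only [χ, Matrix.mulVec_mulVec, ← Matrix.SpecialLinearGroup.coe_mul, mul_inv_cancel,
      Matrix.SpecialLinearGroup.coe_one, Matrix.one_mulVec, Matrix.mulVec_zero] at h1
    exact (QuotientAddGroup.eq_zero_iff w).1 (ψ.injective (by rw [h1, map_zero]))
  have hχsub : ∀ w w' : Ω, χ (w - w') = χ w - χ w' := fun w w' => by
    simp only [χ]
    rw [QuotientAddGroup.mk_sub, map_sub, Matrix.mulVec_sub]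
  have huni : ∀ b ∈ B₃, (φ b : Matrix (Fin 2) (Fin 2) F) 0 0 = 1 ∧
      (φ b : Matrix (Fin 2) (Fin 2) F) 1 0 = 0 ∧ (φ b : Matrix (Fin 2) (Fin 2) F) 1 1 = 1 := by
    intro b hb
    refine eq_uni_of_fixed _ ?_
    rw [← hχz, ← hχ, hz b (hBS₃ hb)]
  let x₁ : B₃ → F := fun b => (φ b : Matrix (Fin 2) (Fin 2) F) 0 1
  have hxinj : Function.Injective x₁ := by
    intro a b h
    refine Subtype.ext (φ.injective (Subtype.ext (Matrix.ext fun i j => ?_)))
    obtain ⟨a0, a1, a2⟩ := huni a a.2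
    obtain ⟨b0, b1, b2⟩ := huni b b.2
    fin_cases i <;> fin_cases j
    · exact a0.trans b0.symm
    · exact h
    · exact a1.trans b1.symm
    · exact a2.trans b2.symm
  have hxs : Function.Surjective x₁ := by
    refine (hxinj.bijective_of_nat_card_le ?_).2
    rw [Nat.card_eq_fintype_card, hcF]
  obtain ⟨lam, hlam⟩ := IsCyclic.exists_generator (α := Fˣ)
  set h₃ := φ.symm (diagHom lam) with hh₃
  have hφh : φ h₃ = diagHom lam := φ.apply_symm_apply _
  have hh₃N : h₃ ∈ Subgroup.normalizer (B₃ : Set (G ⧸ K)) := by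
    refine CfsgLib.PLocal.mem_normalizer_of_map_conj_eq ?_
    refine Subgroup.eq_of_le_of_card_ge ?_
      (Subgroup.card_map_of_injective (MulAut.conj h₃).injective).ge
    rintro _ ⟨b, hb, rfl⟩
    obtain ⟨b', hb'⟩ := hxs ((lam : F) * lam * x₁ ⟨b, hb⟩)
    show h₃ * b * h₃⁻¹ ∈ B₃
    suffices h₃ * b * h₃⁻¹ = b' by rw [this]; exact b'.2
    rw [mul_inv_eq_iff_eq_mul]
    refine φ.injective ?_
    rw [map_mul, map_mul, hφh]
    exact diag_conj lam _ _ (huni b hb) (huni b' b'.2) hb'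
  have hh₃M : h₃ ∈ M.map π := hPT₃.cover _ Subgroup.le_normalizer
    (fun h => hPT₃.notNormal _ (Subgroup.normalizer_eq_top_iff.1 h) hPT₃.isP le_rfl) hh₃N
  have hcard : Nat.card Fˣ + 1 = Nat.card B₃ := by
    rw [Nat.card_units, Nat.card_eq_fintype_card, hcF]
    have := Nat.card_pos (α := B₃)
    omega
  have hpB : p ∣ Nat.card B₃ := by
    obtain ⟨j, hj⟩ := IsPGroup.iff_card.1 hPT₃.isP
    rcases Nat.eq_zero_or_pos j with rfl | hj0
    · exact absurd (Subgroup.eq_bot_of_card_eq _ (by rw [hj, pow_zero])) hB₃1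
    · rw [hj]; exact dvd_pow_self p hj0.ne'
  have hlamo : orderOf lam = Nat.card Fˣ := orderOf_eq_card_of_forall_mem_zpowers hlam
  have hlam1 : (lam : F) ≠ 1 := by
    intro h
    rw [Units.val_eq_one.1 h, orderOf_one] at hlamo
    rw [← hlamo] at hcard
    rw [← hcard] at hpB
    exact hp ((Nat.prime_dvd_prime_iff_eq hp' Nat.prime_two).1 hpB)
  have hco₃ : Nat.Coprime (orderOf h₃) p := by
    have h1 : orderOf h₃ ∣ Nat.card Fˣ := by
      rw [hh₃, MulEquiv.orderOf_eq]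
      exact (orderOf_map_dvd (diagHom (F := F)) lam).trans (orderOf_dvd_natCard lam)
    refine Nat.Coprime.coprime_dvd_left h1 ((Nat.Prime.coprime_iff_not_dvd hp').2 fun hd => ?_).symm
    rw [← hcard] at hpB
    exact hp'.one_lt.ne' (Nat.dvd_one.1 ((Nat.dvd_add_right hd).1 hpB))
  obtain ⟨g₁, hg₁, hg₁e⟩ := hh₃M
  obtain ⟨k₁, hk₁, hgo⟩ := exists_coprime_lift π (g := g₁) (by rw [hg₁e]; exact hco₃)
  set g := g₁ ^ k₁ with hgdef
  have hgM : g ∈ M := pow_mem hg₁ _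
  have hπg : φ (π g) = diagHom lam := by rw [hk₁, hg₁e, hφh]
  have hgχ : ∀ (k : ℕ) (w : Ω), χ (σ₃ (π (g ^ k)) w) =
      ![(lam : F) ^ k * χ w 0, ((↑lam⁻¹ : F)) ^ k * χ w 1] := by
    intro k w
    rw [hχ, map_pow π, map_pow φ, hπg, ← map_pow, diagHom_coe]
    ext i
    fin_cases i <;> simp [Matrix.mulVec, dotProduct, Fin.sum_univ_two]
  -- the commutators
  let dd : W → Ω := fun t => ⟨σ g t - t, hΩ.2 (hkill g t)⟩
  have hdd1 : ∀ t ∈ T, χ (dd t) 1 = 0 := by
    intro t ht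
    obtain ⟨b', hb'⟩ := hxs 1
    obtain ⟨b, hb, hbe⟩ := b'.2
    have hfix : σ₃ (b' : G ⧸ K) (dd t) = dd t := by
      rw [← hbe]
      refine Subtype.ext ?_
      show σ b (σ g t - t) = σ g t - t
      rw [map_sub, hS.pfix B hPT.le hPT.isP (hS.stab g hgM t ht) b hb,
        hS.pfix B hPT.le hPT.isP ht b hb]
    have h1 := congrFun ((hχ (b' : G ⧸ K) (dd t)).symm.trans (congrArg χ hfix)) 0
    obtain ⟨b0, -, -⟩ := huni b' b'.2
    have hb'' : (φ b' : Matrix (Fin 2) (Fin 2) F) 0 1 = 1 := hb'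
    simp [Matrix.mulVec, dotProduct, Fin.sum_univ_two, b0, hb''] at h1
    exact h1
  have hzero : ∀ t ∈ T, χ (dd t) 0 = 0 → σ g t = t := by
    intro t ht h
    have h1 := hχ0 (dd t) (by ext i; fin_cases i <;> simp [h, hdd1 t ht])
    have h2 : σ g (σ g t - t) = σ g t - t := congrArg Subtype.val (h1 (π g) (Subgroup.mem_top _))
    have hk : ∀ k : ℕ, σ (g ^ k) t = t + k • (σ g t - t) := by
      intro k
      induction k with
      | zero => rw [pow_zero, act_one, zero_nsmul, add_zero]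
      | succ k ih =>
        rw [pow_succ', act_mul, ih, map_add, map_nsmul, h2, succ_nsmul]
        abel
    have h3 := hk (orderOf g)
    rw [pow_orderOf_eq_one, act_one] at h3
    have h4 : addOrderOf (σ g t - t) ∣ Nat.gcd (orderOf g) p :=
      Nat.dvd_gcd (addOrderOf_dvd_of_nsmul_eq_zero (left_eq_add.1 h3))
        (addOrderOf_dvd_of_nsmul_eq_zero (hkill _ _))
    rw [hgo] at h4
    exact sub_eq_zero.1 (AddMonoid.addOrderOf_eq_one_iff.1 (Nat.dvd_one.1 h4))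
  refine ⟨g, hgM, hgo, ?_, fun t₁ h1 t₂ h2 n1 n2 => ?_⟩
  · by_contra hcon
    push Not at hcon
    have hgu : σ₃ (π (g ^ 1)) z = z := by
      refine Subtype.ext ?_
      rw [hcomm, pow_one]
      show σ g u = u
      rw [hu, map_sub, map_nsmul, hSfix, hcon t₀ ht₀]
    have h := congrFun (hgχ 1 z) 0
    rw [hgu, hχz] at h
    exact hlam1 (by simpa using h.symm)
  · have a1 : χ (dd t₁) 0 ≠ 0 := fun h => n1 (hzero t₁ h1 h)
    have a2 : χ (dd t₂) 0 ≠ 0 := fun h => n2 (hzero t₂ h2 h)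
    obtain ⟨k, hk⟩ := (mem_powers_iff_mem_zpowers.2 (hlam ((Units.mk0 _ a1)⁻¹ * Units.mk0 _ a2)) :)
    refine ⟨k, ?_⟩
    have hk' : (lam : F) ^ k * χ (dd t₁) 0 = χ (dd t₂) 0 := by
      have h' : ((lam ^ k : Fˣ) : F) = (χ (dd t₁) 0)⁻¹ * χ (dd t₂) 0 :=
        (congrArg Units.val hk).trans (by simp)
      rw [Units.val_pow_eq_pow_val] at h'
      rw [h', mul_right_comm, inv_mul_cancel₀ a1, one_mul]
    set t := σ (g ^ k) t₁ - t₂ with htdef
    have htT : t ∈ T := sub_mem (hS.stab _ (pow_mem hgM k) _ h1) h2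
    have hdt : σ g t - t = σ (g ^ k) (σ g t₁ - t₁) - (σ g t₂ - t₂) := by
      rw [htdef, map_sub, map_sub, act_comm (show g * g ^ k = g ^ k * g from (pow_mul_comm' g k).symm)]
      abel
    have h3 : dd t = σ₃ (π (g ^ k)) (dd t₁) - dd t₂ := Subtype.ext hdt
    have h4 : σ g t = t := hzero t htT (by
      rw [h3, hχsub, Pi.sub_apply, hgχ, sub_eq_zero]
      simpa using hk')
    exact sub_eq_zero.1 (hdt.symm.trans (sub_eq_zero.2 h4))

theorem meas_comp_subtype [Finite W] {L : Subgroup G} (X : Subgroup L) :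
    meas (σ.comp L.subtype) X = meas σ (X.map L.subtype) := by
  rw [meas, meas, Subgroup.card_map_of_injective L.subtype_injective]
  congr 1
  exact Nat.card_congr
    { toFun := fun v => ⟨v, by rintro _ ⟨x, hx, rfl⟩; exact v.2 x hx⟩
      invFun := fun v => ⟨v, fun x hx => v.2 _ ⟨x, hx, rfl⟩⟩
      left_inv := fun _ => rfl
      right_inv := fun _ => rfl }

/-- Failure of factorization gives a torus in the stabilizer. -/
theorem exists_good [Finite G] [Finite W] [Fact p.Prime] (hp : p ≠ 2) {m : ℕ}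
    (hW : ∀ v : W, p ^ m • v = 0) (hS : Setting p σ M T) (P : Sylow p G)
    (hPM : (P : Subgroup G) ≤ M) (ℱ : Set (Subgroup G))
    (hconj : ∀ F ∈ ℱ, ∀ g : G, F.map (MulAut.conj g).toMonoidHom ∈ ℱ)
    (hcomm : ∀ F ∈ ℱ, ∀ a ∈ F, ∀ b ∈ F, a * b = b * a)
    (hbest : ∀ F ∈ ℱ, ∀ X ≤ F, meas σ X ≤ meas σ F)
    (hN : Subgroup.normalizer (famJoin ℱ (P : Subgroup G) : Set G) ≤ M) : Good p σ M T := by
  classical
  obtain ⟨L, B, hB, hBL, hPT⟩ := exists_pair hS.ne_top P hPM ℱ hconj hN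
  have hLM : ¬ L ≤ M := fun h => hPT.ne_top (Subgroup.subgroupOf_eq_top.2 h)
  set BL := B.subgroupOf L with hBLdef
  set ML := M.subgroupOf L with hMLdef
  set σL := σ.comp L.subtype with hσL
  have hSL : Setting p σL ML T := hS.comap hLM
  obtain ⟨S, hBS, hSM, -⟩ := hPT.exists_sylow
  set C := Cfsg.pCore p L with hC
  have hCn : C.Normal := CfsgLib.Solvable.pCore_normal p L
  have hCp : IsPGroup p C := CfsgLib.Solvable.pCore_isPGroup p L
  have hCS : C ≤ (S : Subgroup L) := by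
    have h1 : IsPGroup p ((C ⊔ (S : Subgroup L) : Subgroup L)) := hCp.to_sup_of_normal_left S.2
    rw [← S.3 h1 le_sup_right]
    exact le_sup_left
  set D := fix σL C with hD
  have hTD : T ≤ D := hSL.pfix C (hCS.trans hSM) hCp
  have hDi : ∀ g, ∀ v ∈ D, σL g v ∈ D := fun g v hv c hc => by
    have h1 := hv (g⁻¹ * c * g) (by simpa using hCn.conj_mem c hc g⁻¹)
    conv_rhs => rw [← h1, ← act_mul, ← mul_assoc, ← mul_assoc, mul_inv_cancel, one_mul]
    rw [← act_mul]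
  set σD := onSub σL D hDi with hσD
  set K := σD.ker with hKdef
  have hCK : C ≤ K := fun c hc => AddMonoidHom.ext fun v => Subtype.ext (v.2 c hc)
  have hKfixT : ∀ k ∈ K, ∀ t ∈ T, σL k t = t := by
    intro k hk t ht
    have h1 : σD k = 1 := hk
    have := congrArg (fun f : AddMonoid.End D => ((f ⟨t, hTD ht⟩ : D) : W)) h1
    exact this
  have hKM : K ≤ ML := hPT.le_of_sup_ne fun he => hSL.ne_top (top_le_iff.1 fun g _ =>
    hSL.fixer g fun t ht => by
      have h1 : (⊤ : Subgroup L) ≤ stab σL t := by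
        rw [← he]
        exact sup_le (fun b hb => hSL.pfix BL hPT.le hPT.isP ht b hb) fun k hk => hKfixT k hk t ht
      exact h1 (Subgroup.mem_top g))
  set π := QuotientGroup.mk' K with hπdef
  have hπ : Function.Surjective π := QuotientGroup.mk'_surjective K
  have hπk : π.ker = K := QuotientGroup.ker_mk' K
  let σb : L ⧸ K →* AddMonoid.End D := QuotientGroup.lift K σD le_rfl
  have hcommD : ∀ g (w : D), ((σb (π g) w : D) : W) = σL g (w : W) := fun g w => rfl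
  have hinj : Function.Injective σb := by
    rw [injective_iff_map_eq_one]
    intro x hx
    obtain ⟨g, rfl⟩ := hπ x
    exact (QuotientGroup.eq_one_iff g).2 hx
  set Tb := T.addSubgroupOf D with hTb
  have hTmap : Tb.map D.subtype = T := by
    rw [hTb, AddSubgroup.addSubgroupOf_map_subtype, inf_eq_left.2 hTD]
  have hSb : Setting p σb (ML.map π) Tb := hSL.map π hπ (hπk.le.trans hKM) D.subtype
    D.subtype_injective (fun g w => hcommD g w) hTmap
  have hcore : ∀ Y : Subgroup (L ⧸ K), Y.Normal → IsPGroup p Y → Y = ⊥ := fun Y hY hYp =>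
    hPT.quotient_core_eq_bot π hπ (hπk.le.trans hKM)
      (fun N hN hNp => (hπk.symm ▸ (le_sSup ⟨hN, hNp⟩ : N ≤ C).trans hCK)) hY hYp
  have hBK : ¬ BL ≤ K := by
    intro hle
    have hf := CfsgLib.PLocal.frattini_inf S K
    set Nm := Subgroup.normalizer (((S : Subgroup L) ⊓ K : Subgroup L) : Set L) with hNm
    have hBN : BL ≤ Nm := (le_inf hBS hle : BL ≤ (S : Subgroup L) ⊓ K).trans Subgroup.le_normalizer
    by_cases hne : Nm = ⊤
    · exact hPT.notNormal _ (Subgroup.normalizer_eq_top_iff.1 hne) (S.2.to_le inf_le_left)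
        (le_inf hBS hle)
    · exact hPT.ne_top (top_le_iff.1 (hf.ge.trans (sup_le hKM (hPT.cover _ hBN hne))))
  set Bb := BL.map π with hBb
  have hBb1 : Bb ≠ ⊥ := by
    intro h
    rw [hBb, Subgroup.map_eq_bot_iff, hπk] at h
    exact hBK h
  have hPTb : PairTop p (ML.map π) Bb := hPT.map π hπ (hπk.le.trans hKM) fun N hN hNp hle =>
    hBb1 (le_bot_iff.1 (hle.trans (hcore N hN hNp).le))
  have hBoff : Nat.card D ≤ meas σb Bb := by
    refine card_le_meas_map (σ := σL) π hcommD BL ?_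
    rw [hσL, meas_comp_subtype, meas_comp_subtype]
    have : BL.map L.subtype = B := by
      rw [hBLdef, Subgroup.subgroupOf_map_subtype, inf_eq_left.2 hBL]
    rw [this]
    exact hbest B hB _ ((Subgroup.map_mono inf_le_left).trans this.le)
  -- minimal offenders in the quotient
  let ℱ₂ : Set (Subgroup (L ⧸ K)) := {X | IsPGroup p X ∧ (∀ a ∈ X, ∀ b ∈ X, a * b = b * a) ∧ X ≠ ⊥ ∧
    Nat.card D ≤ meas σb X ∧ ∀ Y, Y ≤ X → Y ≠ ⊥ → Y ≠ X → meas σb Y < Nat.card D}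
  obtain ⟨X₀, hX₀, hX₀B⟩ : ∃ X ∈ ℱ₂, X ≤ Bb := by
    obtain ⟨X, ⟨hXB, hX1, hXo⟩, hXmin⟩ := Set.exists_min_image
      {X : Subgroup (L ⧸ K) | X ≤ Bb ∧ X ≠ ⊥ ∧ Nat.card D ≤ meas σb X} (fun X => Nat.card X)
      (Set.toFinite _) ⟨Bb, le_rfl, hBb1, hBoff⟩
    refine ⟨X, ⟨hPTb.isP.to_le hXB, ?_, hX1, hXo, fun Y hY hY1 hYX => ?_⟩, hXB⟩
    · intro a ha b hb
      obtain ⟨a', ha', rfl⟩ := hXB ha
      obtain ⟨b', hb', rfl⟩ := hXB hb
      rw [← map_mul, ← map_mul]
      exact congrArg π (Subtype.ext (hcomm B hB _ ha' _ hb'))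
    · by_contra hlt
      exact hYX (Subgroup.eq_of_le_of_card_ge hY (hXmin Y ⟨hY.trans hXB, hY1, not_lt.1 hlt⟩))
  have hconj₂ : ∀ X ∈ ℱ₂, ∀ g, X.map (MulAut.conj g).toMonoidHom ∈ ℱ₂ := by
    rintro X ⟨h1, h2, h3, h4, h5⟩ g
    refine ⟨h1.map _, ?_, fun h => h3 ((Subgroup.map_eq_bot_iff_of_injective _
      (MulAut.conj g).injective).1 h), by rw [meas_map_conj]; exact h4, fun Y hY hY1 hYX => ?_⟩
    · rintro _ ⟨a, ha, rfl⟩ _ ⟨b, hb, rfl⟩
      rw [← map_mul, ← map_mul, h2 a ha b hb]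
    · set Z := Y.comap (MulAut.conj g).toMonoidHom
      have hZ : Z.map (MulAut.conj g).toMonoidHom = Y :=
        Subgroup.map_comap_eq_self_of_surjective (MulAut.conj g).surjective Y
      rw [← hZ, meas_map_conj]
      refine h5 Z ?_ (fun h => hY1 (by rw [← hZ, h, Subgroup.map_bot])) (fun h => hYX (by rw [← hZ, h]))
      rw [← Subgroup.comap_map_eq_self_of_injective (f := (MulAut.conj g).toMonoidHom)
        (MulAut.conj g).injective X]
      exact Subgroup.comap_mono hY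
  set Sb := S.mapSurjective hπ with hSbdef
  have hSb' : (Sb : Subgroup (L ⧸ K)) = (S : Subgroup L).map π := rfl
  have hSbM : (Sb : Subgroup (L ⧸ K)) ≤ ML.map π := Subgroup.map_mono hSM
  have hN₂ : Subgroup.normalizer (famJoin ℱ₂ (Sb : Subgroup (L ⧸ K)) : Set (L ⧸ K)) ≤ ML.map π := by
    have hBb : Bb ≤ (Sb : Subgroup (L ⧸ K)) := Subgroup.map_mono hBS
    refine hPTb.cover _ ((hBb.trans Subgroup.le_normalizer).trans
      (normalizer_le_normalizer_famJoin hconj₂ _)) fun he => ?_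
    exact hX₀.2.2.1 (le_bot_iff.1 ((le_famJoin hX₀ (hX₀B.trans hBb)).trans (hcore _
      (Subgroup.normalizer_eq_top_iff.1 he) (Sb.2.to_le (famJoin_le _ _))).le))
  obtain ⟨L₂, B₂, hB₂, hB₂L, hPT₂⟩ := exists_pair hSb.ne_top Sb hSbM ℱ₂ hconj₂ hN₂
  have hmap : (B₂.subgroupOf L₂).map L₂.subtype = B₂ := by
    rw [Subgroup.subgroupOf_map_subtype, inf_eq_left.2 hB₂L]
  have hgood : Good p (σb.comp L₂.subtype) ((ML.map π).subgroupOf L₂) Tb := by
    refine good_of_pair hp (m := m) (fun v => Subtype.ext (hW v)) (hinj.comp L₂.subtype_injective)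
      (hSb.comap fun h => hPT₂.ne_top (Subgroup.subgroupOf_eq_top.2 h)) hPT₂
      (fun a ha b hb => Subtype.ext (hB₂.2.1 a ha b hb)) ?_ fun X hX hX1 hXB => ?_
    · rw [meas_comp_subtype, hmap]
      exact hB₂.2.2.2.1
    · rw [meas_comp_subtype]
      refine hB₂.2.2.2.2 _ ((Subgroup.map_mono hX).trans hmap.le) (fun h => hX1 ?_) fun h => hXB ?_
      · exact (Subgroup.map_eq_bot_iff_of_injective _ L₂.subtype_injective).1 h
      · exact Subgroup.map_injective L₂.subtype_injective (h.trans hmap.symm)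
  have hgood₂ : Good p σb (ML.map π) Tb :=
    hgood.transfer L₂.subtype (AddMonoidHom.id D) Function.injective_id (fun x hx => hx)
      (fun x w => rfl) (AddSubgroup.map_id Tb)
  have hgoodL : Good p σL ML T := Good.lift π hgood₂ D.subtype D.subtype_injective
    (fun g w => hcommD g w) hTmap
  exact hgoodL.transfer L.subtype (AddMonoidHom.id W) Function.injective_id (fun x hx => hx)
    (fun x w => rfl) (AddSubgroup.map_id T)

end CfsgLib.OffenderPair
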