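import Cfsg.Agent.Lib.FusionControl.CoreModel
import Cfsg.Agent.Lib.Solvable.Core

/-!
# The constrained step of the control theorem

`CoreData`: a model of a constrained local system with the action on its core; `hcons_of_step`
reduces the constrained case to a statement about such models.  `liftSub W`: the choice
`Z < R ↦` preimage of `W (R / Z)`, and its reading in a model.
-/

set_option autoImplicit false

namespace CfsgLib.FusionControl

open Cfsg Cfsg.FusionSystem CfsgLib.Fusion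

universe u
variable {Ω : Type u} [Group Ω] {S T : Subgroup Ω} {F G : Cfsg.FusionSystem S}
variable {E : Cfsg.FusionSystem T} {p : ℕ}

/-- A model of `E` with its action on the normal subgroup `Y`. -/
structure CoreData (F : Cfsg.FusionSystem S) {T : Subgroup Ω} (E : Cfsg.FusionSystem T) (p : ℕ)
    (Y : Subgroup Ω) where
  /-- the model -/
  L : Type u
  /-- its group structure -/
  grp : Group L
  /-- the embedding of the Sylow group -/
  ι : T →* L
  /-- the action on `Y` -/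
  τ : L →* E.autGroup Y
  hle : Y ≤ T
  model : E.IsModel p L ι
  surj : Function.Surjective τ
  equiv : ∀ (l : L) (y : Y), l * ι (Subgroup.inclusion hle y) * l⁻¹ =
    ι (Subgroup.inclusion hle ((τ l : MulAut Y) y))
  ker : ∀ l : L, τ l = 1 → ∃ z ∈ Subgroup.center Y, ι (Subgroup.inclusion hle z) = l
  embeds : ∃ (Y' : Subgroup Ω) (N : Cfsg.FusionSystem (normalizerIn S Y')) (M : Type u) (_ : Group M)
    (κ : normalizerIn S Y' →* M) (j : L →* M), F.IsFullyNormalized Y' ∧ F.IsCentric Y' ∧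
      F.IsNormalizerSystem Y' N ∧ N.IsModel p M κ ∧ Function.Injective j

attribute [instance] CoreData.grp

theorem exists_coreData [Finite S] [Fact p.Prime] (hS : IsPGroup p S) (hF : F.IsSaturated p)
    (hE : IsLocal F p E) (hC : centralizerIn T E.core ≤ E.core) :
    Nonempty (CoreData F E p E.core) := by
  have := hE.finite
  obtain ⟨L, g, ι, τ, h1, h2, h3, h4, h5⟩ := exists_coreModel hS hF hE.1 hE.2.1
    (CfsgLib.FusionQuot.isNormal_core E) (hE.core_centric hC).2
  exact ⟨⟨L, g, ι, τ, _, h1, h2, h3, h4, h5⟩⟩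

namespace CoreData

variable {Y : Subgroup Ω} (D : CoreData F E p Y)

instance : Finite D.L := D.model.1

theorem not_involves {H : Type*} [Group H] (hfree : F.IsSectionFree p H) :
    ¬ Cfsg.Involves H D.L := by
  obtain ⟨Y', N, M, _, κ, j, h1, h2, h3, h4, h5⟩ := D.embeds
  exact fun h => hfree Y' h1 h2 N h3 M κ h4 (involves_of_injective j h5 h)

theorem τ_ι (t : T) (y : Y) : (((D.τ (D.ι t) : MulAut Y) y : Y) : Ω) = t * (y : Ω) * (t : Ω)⁻¹ := by
  have h := D.equiv (D.ι t) y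
  rw [← map_inv, ← map_mul, ← map_mul] at h
  exact (congrArg Subtype.val (D.model.2.1.1 h)).symm

theorem isPGroup_range (hT : IsPGroup p T) : IsPGroup p D.ι.range := by
  intro g
  obtain ⟨r, hr⟩ := g.2
  obtain ⟨k, hk⟩ := hT r
  exact ⟨k, Subtype.ext (by rw [SubgroupClass.coe_pow, ← hr, ← map_pow, hk, map_one]; rfl)⟩

/-- A subgroup of the model all of whose images in `Aut(Y)` are `p`-elements is a `p`-group. -/
theorem isPGroup_of_image (hT : IsPGroup p T) {K : Subgroup D.L}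
    (h : ∀ l ∈ K, ∃ k : ℕ, (D.τ l) ^ p ^ k = 1) : IsPGroup p K := by
  intro l
  obtain ⟨k, hk⟩ := h _ l.2
  obtain ⟨z, -, hz⟩ := D.ker ((l : D.L) ^ p ^ k) (by rw [map_pow]; exact hk)
  obtain ⟨m, hm⟩ := hT (Subgroup.inclusion D.hle z)
  refine ⟨k + m, Subtype.ext ?_⟩
  rw [SubgroupClass.coe_pow, pow_add, pow_mul, ← hz, ← map_pow, hm, map_one]
  rfl

theorem eq_range_of_isPGroup (h : IsPGroup p D.L) (l : D.L) : l ∈ D.ι.range := by
  obtain ⟨P, hP⟩ := D.model.2.2.1
  have : (P : Subgroup D.L) = ⊤ := (P.3 (h.to_subgroup ⊤) le_top).symm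
  exact hP ▸ this ▸ Subgroup.mem_top l

/-- The image of a normal subgroup of `E` inside `Y` is normal in the model. -/
theorem normal_map {Z : Subgroup Ω} (hZ : E.IsNormal Z) (hZY : Z ≤ Y) :
    ((Z.subgroupOf T).map D.ι).Normal := by
  refine ⟨?_⟩
  rintro _ ⟨z, hz, rfl⟩ l
  have h1 := D.equiv l ⟨z, hZY hz⟩
  rw [show Subgroup.inclusion D.hle (⟨z, hZY hz⟩ : Y) = z from rfl] at h1
  refine ⟨Subgroup.inclusion D.hle ((D.τ l : MulAut Y) ⟨z, hZY hz⟩), ?_, h1.symm⟩
  exact (isNormal_stronglyClosed hZ).2 _ le_rfl _ (restrict_mem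
    (((mem_autGroup_iff D.hle).1 (D.τ l).2 : IsFIso E ((D.τ l : MulAut Y) : Y ≃* Y))) hZY) ⟨z, hz⟩

/-- Elements of the model of order prime to `p` act trivially on a normal subgroup with `p`-group
automizer. -/
theorem fix_of_coprime [Fact p.Prime] {Z : Subgroup Ω} (hZ : E.IsNormal Z) (hZY : Z ≤ Y)
    (hp : IsPGroup p (E.autGroup Z)) [Finite Z] {l : D.L} (hl : Nat.Coprime (orderOf l) p) (z : Z) :
    (((D.τ l : MulAut Y) (Subgroup.inclusion hZY z) : Y) : Ω) = z := by
  have ha : IsFIso E ((D.τ l : MulAut Y) : Y ≃* Y) := (mem_autGroup_iff D.hle).1 (D.τ l).2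
  obtain ⟨α, hα, hαv⟩ := exists_aut (restrict_mem (P := Z) ha hZY)
    (range_eq_of_le (hom_inj (restrict_mem (P := Z) ha hZY)) fun x =>
      (isNormal_stronglyClosed hZ).2 _ le_rfl _ (restrict_mem (P := Z) ha hZY) x)
  have hpow : ∀ (k : ℕ) (w : Z), (((α ^ k) w : Z) : Ω) =
      ((((D.τ l : MulAut Y)) ^ k) (Subgroup.inclusion hZY w) : Y) := by
    intro k
    induction k with
    | zero => intro w; rfl
    | succ k ih =>
      intro w
      rw [pow_succ', pow_succ', MulAut.mul_apply, MulAut.mul_apply, hαv]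
      show (((D.τ l : MulAut Y)) (Subgroup.inclusion hZY ((α ^ k) w)) : Y).1 = _
      exact congrArg (fun v : Y => (((D.τ l : MulAut Y)) v : Y).1) (Subtype.ext (ih w))
  obtain ⟨j, hj⟩ := hp ⟨α, hα⟩
  have hj' : α ^ p ^ j = 1 := congrArg Subtype.val hj
  obtain ⟨m, hm⟩ : ∃ m : ℕ, (l ^ p ^ j) ^ m = l := exists_pow_eq_self_of_coprime (hl.symm.pow_left j)
  have hfix : ∀ n : ℕ, ((((D.τ l : MulAut Y)) ^ (p ^ j * n)) (Subgroup.inclusion hZY z) : Y).1 = z := by
    intro n
    rw [← hpow, pow_mul, hj', one_pow]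
    rfl
  have := hfix m
  rwa [← SubgroupClass.coe_pow, ← map_pow, pow_mul, hm] at this

/-- An element of order prime to `p` acting trivially on `Y / Z` is trivial. -/
theorem eq_one_of_coprime [Finite T] [Fact p.Prime] (hT : IsPGroup p T) {Z : Subgroup Ω}
    (hZ : E.IsNormal Z) (hZY : Z ≤ Y) (hp : IsPGroup p (E.autGroup Z)) {l : D.L}
    (hl : Nat.Coprime (orderOf l) p)
    (h : ∀ y : Y, (y : Ω)⁻¹ * (((D.τ l : MulAut Y) y : Y) : Ω) ∈ Z) : l = 1 := by
  have : Finite Z := finite_of_le hZ.1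
  have hτ : D.τ l = 1 := by
    refine Subtype.ext (MulEquiv.ext fun y => Subtype.ext ?_)
    set c : Z := ⟨_, h y⟩ with hc
    have hy : ∀ k : ℕ, (((D.τ l : MulAut Y) ^ k) y : Y).1 = (y : Ω) * (c : Ω) ^ k := by
      intro k
      induction k with
      | zero => simp
      | succ k ih =>
        have he : ((D.τ l : MulAut Y) ^ k) y = y * (Subgroup.inclusion hZY c) ^ k :=
          Subtype.ext (ih.trans (by simp))
        rw [pow_succ', MulAut.mul_apply, he, map_mul, map_pow, Subgroup.coe_mul,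
          SubgroupClass.coe_pow, D.fix_of_coprime hZ hZY hp hl c, pow_succ', ← mul_assoc]
        congr 1
        exact (mul_inv_cancel_left (y : Ω) _).symm
    have h1 := hy (orderOf l)
    rw [← SubgroupClass.coe_pow, ← map_pow, pow_orderOf_eq_one, map_one] at h1
    have hc1 : (c : Ω) ^ orderOf l = 1 := mul_left_cancel (h1.symm.trans (mul_one _).symm)
    obtain ⟨j, hj⟩ := hT (Subgroup.inclusion hZ.1 c)
    have hcj : (c : Ω) ^ p ^ j = 1 := congrArg Subtype.val hj
    have hc0 : (c : Ω) = 1 := orderOf_eq_one_iff.1 (Nat.eq_one_of_dvd_coprimes (hl.pow_right j)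
      (orderOf_dvd_of_pow_eq_one hc1) (orderOf_dvd_of_pow_eq_one hcj))
    exact (inv_mul_eq_one.1 hc0).symm
  obtain ⟨z, -, hz⟩ := D.ker l hτ
  obtain ⟨j, hj⟩ := hT (Subgroup.inclusion D.hle z)
  have hlj : l ^ p ^ j = 1 := by rw [← hz, ← map_pow, hj, map_one]
  exact orderOf_eq_one_iff.1 (Nat.eq_one_of_dvd_coprimes (hl.pow_right j) dvd_rfl
    (orderOf_dvd_of_pow_eq_one hlj))

/-- A subgroup of the model whose elements all act trivially on `Y / Z` is a `p`-group. -/
theorem isPGroup_of_trivial [Finite T] [Fact p.Prime] (hT : IsPGroup p T) {Z : Subgroup Ω}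
    (hZ : E.IsNormal Z) (hZY : Z ≤ Y) (hp : IsPGroup p (E.autGroup Z)) {K : Subgroup D.L}
    (h : ∀ l ∈ K, ∀ y : Y, (y : Ω)⁻¹ * (((D.τ l : MulAut Y) y : Y) : Ω) ∈ Z) : IsPGroup p K := by
  intro l
  obtain ⟨a, m, hm, ha⟩ := Nat.exists_eq_pow_mul_and_not_dvd (orderOf_pos (l : D.L)).ne' p
    (Fact.out : p.Prime).ne_one
  refine ⟨a, Subtype.ext ?_⟩
  refine D.eq_one_of_coprime hT hZ hZY hp ?_ (h _ (K.pow_mem l.2 _))
  have h1 : orderOf ((l : D.L) ^ p ^ a) ∣ m := orderOf_dvd_of_pow_eq_one (by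
    rw [← pow_mul, ← ha, pow_orderOf_eq_one])
  exact Nat.Coprime.coprime_dvd_left h1
    ((Nat.Prime.coprime_iff_not_dvd Fact.out).2 hm).symm

/-- The model modulo a normal subgroup of `E` with `p`-group automizer is still constrained. -/
theorem quotient_constrained [Finite T] [Fact p.Prime] (hT : IsPGroup p T) {Z : Subgroup Ω}
    (hZ : E.IsNormal Z) (hZY : Z ≤ Y) (hp : IsPGroup p (E.autGroup Z))
    [hn : ((Z.subgroupOf T).map D.ι).Normal] :
    Subgroup.centralizer ((pCore p (D.L ⧸ (Z.subgroupOf T).map D.ι) : Subgroup _) : Set _) ≤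
      pCore p (D.L ⧸ (Z.subgroupOf T).map D.ι) := by
  set mk := QuotientGroup.mk' ((Z.subgroupOf T).map D.ι)
  set U := ((D.ι.comp (Subgroup.inclusion D.hle)).range).map mk
  have hUn : U.Normal := by
    refine Subgroup.Normal.map ⟨?_⟩ _ (QuotientGroup.mk'_surjective _)
    rintro _ ⟨y, rfl⟩ l
    exact ⟨_, (D.equiv l y).symm⟩
  have hUp : IsPGroup p U :=
    ((D.isPGroup_range hT).to_le (by rintro _ ⟨y, rfl⟩; exact ⟨_, rfl⟩)).map mk
  refine le_trans (Subgroup.centralizer_le (SetLike.coe_subset_coe.2 (le_sSup ⟨hUn, hUp⟩))) ?_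
  refine le_sSup ⟨inferInstance, ?_⟩
  have hK : IsPGroup p ((Subgroup.centralizer (U : Set _)).comap mk) := by
    refine D.isPGroup_of_trivial hT hZ hZY hp fun l hl y => ?_
    have hc := Subgroup.mem_centralizer_iff.1 hl (mk (D.ι (Subgroup.inclusion D.hle y)))
      ⟨_, ⟨y, rfl⟩, rfl⟩
    have h1 : mk (D.ι (Subgroup.inclusion D.hle ((D.τ l : MulAut Y) y))) =
        mk (D.ι (Subgroup.inclusion D.hle y)) := by
      rw [← D.equiv, map_mul, map_mul, map_inv, ← hc, mul_inv_cancel_right]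
    obtain ⟨z, hz, hzv⟩ := QuotientGroup.eq.1 h1.symm
    rw [← map_inv, ← map_mul] at hzv
    have h2 := congrArg Subtype.val (D.model.2.1.1 hzv)
    exact (show (z : Ω) = (y : Ω)⁻¹ * _ from h2) ▸ hz
  have h3 := hK.map mk
  rwa [Subgroup.map_comap_eq_self_of_surjective (QuotientGroup.mk'_surjective _)] at h3

end CoreData

/-- The constrained case of `control`, from a statement about models. -/
theorem hcons_of_step [Finite S] [Fact p.Prime] (hS : IsPGroup p S) (hF : F.IsSaturated p)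
    (hG : G.IsSaturated p) (hGF : G.IsSubsystemOf F)
    {Ch : Subgroup Ω → Subgroup Ω → Set (Subgroup Ω)} (hCh : IsGoodChoice S Ch)
    (step : ∀ {T : Subgroup Ω} (E : Cfsg.FusionSystem T) (Z : Subgroup Ω), IsLocal F p E →
      E.IsNormal Z → IsPGroup p (E.autGroup Z) → Z < E.core → ∀ D : CoreData F E p E.core,
      (∀ U ∈ Ch Z T, ∀ l ∈ Subgroup.normalizer (((U.subgroupOf T).map D.ι : Subgroup D.L) : Set D.L),
        (D.τ l : MulAut E.core) ∈ G.autGroup E.core) →
      ∀ a ∈ E.autGroup E.core, a ∈ G.autGroup E.core)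
    {T : Subgroup Ω} (E : Cfsg.FusionSystem T) (Z : Subgroup Ω) (hE : IsLocal F p E)
    (hZ : E.IsNormal Z) (hp : IsPGroup p (E.autGroup Z)) (hlt : Z < E.core)
    (hC : centralizerIn T E.core ≤ E.core) (hcov : Covered G Ch E Z) : E.IsSubsystemOf G := by
  obtain ⟨D⟩ := exists_coreData hS hF hE hC
  have := hE.finite
  refine le_of_autGroup_core hS hF hG hGF hE hC (step E Z hE hZ hp hlt D fun U hU l hl => ?_)
  have hZT : Z < T := hlt.trans_le D.hle
  obtain ⟨-, hUT, hinv⟩ := hCh Z T U hZT hE.le_S hU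
  have hTU : T ≤ Subgroup.normalizer (U : Set Ω) := fun g hg =>
    hinv g (Subgroup.le_normalizer hg) (stronglyClosed_le_normalizer (isNormal_stronglyClosed hZ) hg)
  have h := normalizerHom_of_realized D.model.2.1 D.hle hUT (D.hle.trans hTU) (D.equiv l)
    fun u => (Subgroup.mem_normalizer_iff.1 hl _).1 ⟨Subgroup.inclusion hUT u, u.2, rfl⟩
  exact (mem_autGroup_iff (D.hle.trans hE.le_S)).2 (hcov hZT U hU _ h)

/-! ### Choices given by a functor -/

/-- The preimage of `W (R / Z)`. -/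
def liftSub (W : ∀ (Q : Type u) [Group Q], Subgroup Q) (Z R : Subgroup Ω) : Set (Subgroup Ω) :=
  {U | ∃ _hn : (Z.subgroupOf R).Normal,
    U = ((W (R ⧸ Z.subgroupOf R)).comap (QuotientGroup.mk' (Z.subgroupOf R))).map R.subtype}

variable {W : ∀ (Q : Type u) [Group Q], Subgroup Q}

theorem isGoodChoice_liftSub [Finite S] (hS : IsPGroup p S)
    (hW1 : ∀ (Q : Type u) [Group Q] [Finite Q], IsPGroup p Q → Nontrivial Q → W Q ≠ ⊥)
    (hW2 : ∀ (Q R : Type u) [Group Q] [Group R] [Finite Q], IsPGroup p Q → ∀ φ : Q ≃* R,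
      (W Q).map φ.toMonoidHom = W R) :
    IsGoodChoice S (liftSub W) := by
  rintro Z R U hZR hRS ⟨hn, rfl⟩
  have : Finite R := finite_of_le hRS
  set mk := QuotientGroup.mk' (Z.subgroupOf R)
  have hQ : IsPGroup p (R ⧸ Z.subgroupOf R) := (hS.to_le hRS).to_quotient _
  have : Nontrivial (R ⧸ Z.subgroupOf R) := by
    refine not_subsingleton_iff_nontrivial.1 fun hs => hZR.not_ge fun r hr => ?_
    exact (QuotientGroup.eq_one_iff (N := Z.subgroupOf R) ⟨r, hr⟩).1 (Subsingleton.elim _ _)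
  refine ⟨lt_of_le_of_ne (fun z hz => ⟨⟨z, hZR.le hz⟩, ?_, rfl⟩) ?_, Subgroup.map_subtype_le _,
    fun g hgR hgZ => ?_⟩
  · show mk ⟨z, hZR.le hz⟩ ∈ W _
    rw [show mk ⟨z, hZR.le hz⟩ = 1 from (QuotientGroup.eq_one_iff _).2 hz]
    exact one_mem _
  · intro he
    refine hW1 _ hQ this ((Subgroup.eq_bot_iff_forall _).2 fun w hw => ?_)
    obtain ⟨r, rfl⟩ := QuotientGroup.mk'_surjective _ w
    exact (QuotientGroup.eq_one_iff r).2 (show (r : Ω) ∈ Z from he.symm ▸ ⟨r, hw, rfl⟩)
  · set c : R ≃* R := conjAut R g hgR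
    have hc : (Z.subgroupOf R).map c.toMonoidHom = Z.subgroupOf R := by
      ext x
      constructor
      · rintro ⟨y, hy, rfl⟩
        show ((c y : R) : Ω) ∈ Z
        rw [conjAut_apply]
        exact (Subgroup.mem_normalizer_iff.1 hgZ _).1 hy
      · intro hx
        refine ⟨c.symm x, ?_, c.apply_symm_apply x⟩
        have h := conjAut_apply (P := R) hgR (c.symm x)
        rw [show conjAut R g hgR (c.symm x) = x from c.apply_symm_apply x] at h
        refine (Subgroup.mem_normalizer_iff.1 hgZ _).2 ?_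
        show g * ((c.symm x : R) : Ω) * g⁻¹ ∈ Z
        rw [← h]
        exact hx
    have hmap := hW2 _ _ hQ (QuotientGroup.congr _ _ c hc)
    refine mem_normalizer_of_map ?_
    have hfin : Finite ↥((Subgroup.comap mk (W _)).map R.subtype) :=
      finite_of_le ((Subgroup.map_subtype_le _).trans hRS)
    refine Subgroup.eq_of_le_of_card_ge ?_ (Subgroup.card_map_of_injective (MulAut.conj g).injective).ge
    rintro _ ⟨_, ⟨r, hr, rfl⟩, rfl⟩
    refine ⟨c r, ?_, conjAut_apply hgR r⟩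
    show mk (c r) ∈ W _
    rw [← hmap]
    exact ⟨mk r, hr, rfl⟩

/-- The normalizer in the model of a chosen subgroup, modulo `Z`. -/
theorem mem_normalizer_liftSub [Fact p.Prime] [Finite T]
    (hW2 : ∀ (Q R : Type u) [Group Q] [Group R] [Finite Q], IsPGroup p Q → ∀ φ : Q ≃* R,
      (W Q).map φ.toMonoidHom = W R) (hT : IsPGroup p T)
    {L : Type u} [Group L] {ι : T →* L} (hι : Function.Injective ι) {Z U : Subgroup Ω}
    [hn : ((Z.subgroupOf T).map ι).Normal] (hU : U ∈ liftSub W Z T)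
    (P : Subgroup (L ⧸ (Z.subgroupOf T).map ι))
    (hP : P = ι.range.map (QuotientGroup.mk' ((Z.subgroupOf T).map ι))) (l : L) :
    QuotientGroup.mk' ((Z.subgroupOf T).map ι) l ∈
        Subgroup.normalizer (((W P).map P.subtype : Subgroup _) : Set _) ↔
      l ∈ Subgroup.normalizer (((U.subgroupOf T).map ι : Subgroup L) : Set L) := by
  obtain ⟨hnT, rfl⟩ := hU
  set mk := QuotientGroup.mk' ((Z.subgroupOf T).map ι)
  set mkT := QuotientGroup.mk' (Z.subgroupOf T)
  let φ : T →* P := (mk.comp ι).codRestrict P fun t => hP ▸ ⟨ι t, ⟨t, rfl⟩, rfl⟩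
  have hφs : Function.Surjective φ := by
    rintro ⟨x, hx⟩
    rw [hP] at hx
    obtain ⟨_, ⟨t, rfl⟩, rfl⟩ := hx
    exact ⟨t, rfl⟩
  have hker : φ.ker = Z.subgroupOf T := by
    ext t
    rw [MonoidHom.mem_ker]
    constructor
    · intro h
      obtain ⟨z, hz, hzt⟩ := (QuotientGroup.eq_one_iff (ι t)).1 (congrArg Subtype.val h)
      exact hι hzt ▸ hz
    · exact fun h => Subtype.ext ((QuotientGroup.eq_one_iff (ι t)).2 ⟨t, h, rfl⟩)
  let e : T ⧸ Z.subgroupOf T ≃* P :=
    (QuotientGroup.quotientMulEquivOfEq hker.symm).trans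
      (QuotientGroup.quotientKerEquivOfSurjective φ hφs)
  have he : ∀ t : T, ((e (mkT t) : P) : L ⧸ _) = mk (ι t) := fun t => rfl
  have hW := hW2 _ _ (hT.to_quotient _) e
  have hA : (((((W (T ⧸ Z.subgroupOf T)).comap mkT).map T.subtype).subgroupOf T).map ι) =
      ((W P).map P.subtype).comap mk := by
    rw [show ((((W (T ⧸ Z.subgroupOf T)).comap mkT).map T.subtype).subgroupOf T) = _ from
      Subgroup.comap_map_eq_self_of_injective T.subtype_injective _]
    ext x
    constructor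
    · rintro ⟨t, ht, rfl⟩
      exact ⟨e (mkT t), hW ▸ ⟨_, ht, rfl⟩, he t⟩
    · rintro ⟨w, hw, hwx⟩
      rw [← hW] at hw
      obtain ⟨v, hv, rfl⟩ := hw
      obtain ⟨t, rfl⟩ := QuotientGroup.mk'_surjective _ v
      obtain ⟨z, hz, hzv⟩ := QuotientGroup.eq.1 ((he t).symm.trans hwx)
      refine ⟨t * z, ?_, by rw [map_mul, hzv, mul_inv_cancel_left]⟩
      show mkT (t * z) ∈ W _
      rw [map_mul, show mkT z = 1 from (QuotientGroup.eq_one_iff z).2 hz, mul_one]
      exact hv
  rw [hA, ← Subgroup.comap_normalizer_eq_of_surjective _ (QuotientGroup.mk'_surjective _)]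
  rfl

/-- The inner system of a finite `p`-group is saturated. -/
theorem inner_isSaturated [Finite S] [Fact p.Prime] (hS : IsPGroup p S) :
    (Cfsg.innerFusionSystem S).IsSaturated p := by
  intro P hP
  have hA : (Cfsg.innerFusionSystem S).autGroup P = autInducedBy S P := by
    refine le_antisymm (fun α hα => ?_) (autInducedBy_le_autGroup _ hP)
    obtain ⟨-, g, hg, hv⟩ := (mem_autGroup_iff_hom hP).1 hα
    exact mem_autInducedBy_iff.2 ⟨g, hg, hv⟩
  have hp : IsPGroup p ((Cfsg.innerFusionSystem S).autGroup P) := hA ▸ isPGroup_autInducedBy hS P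
  have : Finite P := finite_of_le hP
  have : Finite (MulAut P) := finite_mulAut
  refine ⟨P, isConj_refl _ hP, ⟨hP, ?_⟩, hP, fun Q φ hφ hr => ?_⟩
  · obtain ⟨R, hR⟩ := (hp.to_subgroup ⊤).exists_le_sylow
    refine ⟨R, ?_⟩
    rw [top_le_iff.1 hR]
    exact (Subgroup.subgroupOf_eq_top.2 hA.le).symm
  · obtain ⟨hQ, g, hg, hv⟩ := hφ
    exact ⟨_, (Cfsg.innerFusionSystem S).conj_mem
      ((extender_le_normalizerIn φ).trans (normalizerIn_le S Q)) hg, fun x hx _ => (hv ⟨x, hx⟩).symm⟩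

theorem inner_le (F : Cfsg.FusionSystem S) : (Cfsg.innerFusionSystem S).IsSubsystemOf F := by
  rintro P φ ⟨hP, g, hg, hv⟩
  exact mem_of_eq_conj hP hg φ hv

/-- `F` is inner if it lies in the inner system. -/
theorem eq_inner_of_le (h : F.IsSubsystemOf (Cfsg.innerFusionSystem S)) (P : Subgroup Ω) :
    F.Hom P = (Cfsg.innerFusionSystem S).Hom P :=
  Set.Subset.antisymm (h P) (inner_le F P)

end CfsgLib.FusionControl
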