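import Cfsg.Agent.Lib.FusionControl.AgemoStep
import Cfsg.Prelude.Def_PLocal

/-!
# Lifting normal subgroups from the model modulo `Z`
-/

set_option autoImplicit false

namespace CfsgLib.FusionControl

open Cfsg Cfsg.FusionSystem CfsgLib.Fusion

universe u
variable {Ω : Type u} [Group Ω] {S T : Subgroup Ω} {F : Cfsg.FusionSystem S}
variable {E : Cfsg.FusionSystem T} {p : ℕ}

theorem powerClosure_le {n : ℕ} {H : Subgroup Ω} : Cfsg.powerClosure p n H ≤ H :=
  (Subgroup.closure_le _).2 (by rintro _ ⟨x, hx, rfl⟩; exact H.pow_mem hx _)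

/-- The image of the core in the model modulo `Z`. -/
def coreImage (D : CoreData F E p E.core) (Z : Subgroup Ω) [((Z.subgroupOf T).map D.ι).Normal] :
    Subgroup (D.L ⧸ (Z.subgroupOf T).map D.ι) :=
  ((E.core.subgroupOf T).map D.ι).map (QuotientGroup.mk' _)

theorem coreImage_normal (D : CoreData F E p E.core) {Z : Subgroup Ω}
    [((Z.subgroupOf T).map D.ι).Normal] : (coreImage D Z).Normal := by
  refine Subgroup.Normal.map ⟨?_⟩ _ (QuotientGroup.mk'_surjective _)
  rintro _ ⟨y, hy, rfl⟩ g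
  exact ⟨_, ((D.τ g : MulAut E.core) ⟨y, hy⟩).2, (D.equiv g ⟨y, hy⟩).symm⟩

/-- A normal subgroup of the model modulo `Z` fixing powers in the centre of the image of the core
gives one of the model fixing the powers of central elements of `S`. -/
theorem exists_fix_of_quotient [Finite S] [Fact p.Prime] (hS : IsPGroup p S) (hE : IsLocal F p E)
    {Z : Subgroup Ω} (hZ : E.IsNormal Z) (hp : IsPGroup p (E.autGroup Z)) (hlt : Z < E.core)
    (hC : centralizerIn T E.core ≤ E.core) (D : CoreData F E p E.core) (n : ℕ)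
    [hn : ((Z.subgroupOf T).map D.ι).Normal] (M : Subgroup (D.L ⧸ (Z.subgroupOf T).map D.ι))
    [M.Normal] (hM : ¬ M ⊓ D.ι.range.map (QuotientGroup.mk' _) ≤ coreImage D Z)
    (hfix : ∀ m ∈ M, Nat.Coprime (orderOf m) p →
      ∀ v ∈ coreImage D Z ⊓ Subgroup.centralizer (coreImage D Z : Set _), Commute m (v ^ p ^ n)) :
    ∃ K : Subgroup D.L, K.Normal ∧
      ¬ K ⊓ D.ι.range ≤ (E.core.subgroupOf T).map D.ι ∧
      ∀ m ∈ K, Nat.Coprime (orderOf m) p →
        ∀ a ∈ Cfsg.powerClosure p n (S ⊓ Subgroup.centralizer (S : Set Ω)), ∀ haY : a ∈ E.core,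
          (D.τ m : MulAut E.core) ⟨a, haY⟩ = ⟨a, haY⟩ := by
  set mk := QuotientGroup.mk' ((Z.subgroupOf T).map D.ι) with hmk
  have := hE.finite
  have hT := hE.isPGroup hS
  refine ⟨M.comap mk, inferInstance, fun h => hM ?_, fun m hm hco a ha haY => ?_⟩
  · rintro x ⟨hxM, l, hl, rfl⟩
    exact ⟨l, h ⟨hxM, hl⟩, rfl⟩
  · set Y0 : Subgroup E.core :=
      { carrier := {y | (D.τ m : MulAut E.core) y = y}
        one_mem' := map_one (D.τ m : MulAut E.core)
        mul_mem' := fun {x y} hx hy => by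
          show (D.τ m : MulAut E.core) (x * y) = x * y
          rw [map_mul, hx, hy]
        inv_mem' := fun {x} hx => by
          show (D.τ m : MulAut E.core) x⁻¹ = x⁻¹
          rw [map_inv, hx] }
    have hle : Cfsg.powerClosure p n (S ⊓ Subgroup.centralizer (S : Set Ω)) ≤ Y0.map E.core.subtype := by
      refine (Subgroup.closure_le _).2 ?_
      rintro _ ⟨x, hx, rfl⟩
      have hxY : x ∈ E.core := center_mem_core hE hC hx.1 hx.2
      refine ⟨⟨x, hxY⟩ ^ p ^ n, ?_, rfl⟩
      set v := mk (D.ι (Subgroup.inclusion D.hle ⟨x, hxY⟩)) with hv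
      have hvV : v ∈ coreImage D Z ⊓ Subgroup.centralizer (coreImage D Z : Set _) := by
        refine ⟨⟨_, ⟨_, hxY, rfl⟩, rfl⟩, Subgroup.mem_centralizer_iff.2 ?_⟩
        rintro _ ⟨_, ⟨y, hy, rfl⟩, rfl⟩
        rw [hv, ← map_mul, ← map_mul, ← map_mul, ← map_mul]
        refine congrArg mk (congrArg D.ι (Subtype.ext ?_))
        exact Subgroup.mem_centralizer_iff.1 hx.2 y (hE.le_S y.2)
      have h1 : Commute (mk m) (mk (D.ι (Subgroup.inclusion D.hle (⟨x, hxY⟩ ^ p ^ n : E.core)))) := by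
        have := hfix (mk m) hm (hco.coprime_dvd_left (orderOf_map_dvd mk m)) v hvV
        rwa [map_pow (Subgroup.inclusion D.hle), map_pow, map_pow]
      set w : E.core := ⟨x, hxY⟩ ^ p ^ n
      show (D.τ m : MulAut E.core) w = w
      refine D.fix_of_coprime_mod hT hZ hlt.le hp hco w ?_
      have h2 : mk (D.ι (Subgroup.inclusion D.hle ((D.τ m : MulAut E.core) w))) =
          mk (D.ι (Subgroup.inclusion D.hle w)) := by
        rw [← D.equiv, map_mul, map_mul, map_inv, h1.eq, mul_inv_cancel_right]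
      obtain ⟨z, hz, hzv⟩ := QuotientGroup.eq.1 h2.symm
      rw [← map_inv, ← map_mul] at hzv
      have h3 : (z : Ω) = (w : Ω)⁻¹ * (((D.τ m : MulAut E.core) w : E.core) : Ω) :=
        congrArg Subtype.val (D.model.2.1.1 hzv)
      exact h3 ▸ hz
    obtain ⟨y, hy, hya⟩ := hle ha
    have hy' : y = ⟨a, haY⟩ := Subtype.ext hya
    exact hy' ▸ hy

end CfsgLib.FusionControl
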