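import Cfsg.Agent.Lib.FusionControl.Engine
import Cfsg.Agent.Lib.Fusion.CentricExtend
import Cfsg.Agent.Lib.Fusion.Model
import Cfsg.Agent.Lib.Fusion.Realized
import Cfsg.Prelude.Def_LocalEven
import Cfsg.Prelude.Def_FusionReduction

/-!
# Models of constrained local systems

`exists_coreModel`: a saturated subsystem `E` of `F` with a normal subgroup `Y` centric in `F` has a
model, contained in a model of the normalizer in `F` of a conjugate of `Y`.
-/

set_option autoImplicit false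

namespace CfsgLib.FusionControl

open Cfsg Cfsg.FusionSystem CfsgLib.Fusion CfsgLib.FusionModel

universe u
variable {Ω : Type u} [Group Ω] {S T : Subgroup Ω} {F G : Cfsg.FusionSystem S}
variable {E : Cfsg.FusionSystem T} {p : ℕ}

theorem involves_of_injective {H : Type*} [Group H] {A B : Type*} [Group A] [Group B] (j : A →* B)
    (hj : Function.Injective j) (h : Cfsg.Involves H A) : Cfsg.Involves H B := by
  obtain ⟨K, R, hn, ⟨e⟩⟩ := h
  let f : ↥(K.map j) →* H := (e.toMonoidHom.comp (QuotientGroup.mk' _)).comp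
    (K.equivMapOfInjective j hj).symm.toMonoidHom
  have hf : Function.Surjective f :=
    (e.surjective.comp (QuotientGroup.mk'_surjective _)).comp (MulEquiv.surjective _)
  have h2 : ((f.ker.map (K.map j).subtype).subgroupOf (K.map j)) = f.ker :=
    Subgroup.comap_map_eq_self_of_injective (Subgroup.subtype_injective _) _
  have hn2 : ((f.ker.map (K.map j).subtype).subgroupOf (K.map j)).Normal := by
    rw [h2]; exact MonoidHom.normal_ker f
  exact ⟨_, f.ker.map (K.map j).subtype, hn2,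
    ⟨(QuotientGroup.quotientMulEquivOfEq h2).trans
      (QuotientGroup.quotientKerEquivOfSurjective f hf)⟩⟩

/-- Maps of `F` between subgroups of `T`, read along a map of `F` on `T`. -/
theorem exists_transport {γ : T →* Ω} (hγ : γ ∈ F.Hom T) {D : Subgroup Ω} (hD : D ≤ T)
    {c : D →* Ω} (hc : c ∈ F.Hom D) (hcT : ∀ x, c x ∈ T) :
    ∃ ω ∈ F.Hom (γ.comp (Subgroup.inclusion hD)).range,
      ∀ x : D, ω ⟨γ (Subgroup.inclusion hD x), x, rfl⟩ = γ ⟨c x, hcT x⟩ := by
  obtain ⟨ρ, hρ, hρv⟩ := F.inv_mem (restrict_mem hγ hD)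
  have hρmem : ∀ y : (γ.comp (Subgroup.inclusion hD)).range, ρ y ∈ D := by
    rintro ⟨_, x, rfl⟩
    rw [hρv]
    exact x.2
  refine ⟨_, F.comp_mem (F.comp_mem hρ hc hρmem) hγ fun y => hcT _, fun x => ?_⟩
  show γ ⟨c ⟨ρ _, _⟩, _⟩ = _
  congr 1
  exact Subtype.ext (congrArg c (Subtype.ext (hρv x)))

theorem mem_of_transport {γ : T →* Ω} (hγ : γ ∈ F.Hom T) {D : Subgroup Ω} (hD : D ≤ T)
    {c : D →* Ω} (hcT : ∀ x, c x ∈ T) {ω : (γ.comp (Subgroup.inclusion hD)).range →* Ω}
    (hω : ω ∈ F.Hom _)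
    (h : ∀ x : D, ω ⟨γ (Subgroup.inclusion hD x), x, rfl⟩ = γ ⟨c x, hcT x⟩) : c ∈ F.Hom D := by
  obtain ⟨θ, hθ, hθv⟩ := F.inv_mem hγ
  have hγD : γ.comp (Subgroup.inclusion hD) ∈ F.Hom D := restrict_mem hγ hD
  refine mem_of_comp (F.comp_mem hγD hω fun x => ⟨x, rfl⟩) hθ
    (fun x => ⟨⟨c x, hcT x⟩, (h x).symm⟩) c fun x => ?_
  exact ((congrArg θ (Subtype.ext (h x) :
    (⟨_, ⟨⟨c x, hcT x⟩, (h x).symm⟩⟩ : γ.range) = ⟨γ ⟨c x, hcT x⟩, _, rfl⟩)).trans
    (hθv ⟨c x, hcT x⟩)).symm

/-- The model of a constrained local system, inside a model of a normalizer in `F`. -/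
theorem exists_coreModel [Finite S] [Fact p.Prime] (hS : IsPGroup p S) (hF : F.IsSaturated p)
    (hEF : E.IsSubsystemOf F) (hE : E.IsSaturated p) {Y : Subgroup Ω} (hY : E.IsNormal Y)
    (hYc : F.IsCentric Y) :
    ∃ (L : Type u) (_ : Group L) (ι : T →* L) (τ : L →* E.autGroup Y),
      E.IsModel p L ι ∧ Function.Surjective τ ∧
      (∀ (l : L) (y : Y), l * ι (Subgroup.inclusion hY.1 y) * l⁻¹ =
        ι (Subgroup.inclusion hY.1 ((τ l : MulAut Y) y))) ∧
      (∀ l : L, τ l = 1 → ∃ z ∈ Subgroup.center Y, ι (Subgroup.inclusion hY.1 z) = l) ∧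
      ∃ (Y' : Subgroup Ω) (N : Cfsg.FusionSystem (normalizerIn S Y')) (M : Type u) (_ : Group M)
        (κ : normalizerIn S Y' →* M) (j : L →* M), F.IsFullyNormalized Y' ∧ F.IsCentric Y' ∧
          F.IsNormalizerSystem Y' N ∧ N.IsModel p M κ ∧ Function.Injective j := by
  classical
  have hTS : T ≤ S := dom_le (hEF _ (subtype_mem E (le_refl T)))
  have : Finite T := finite_of_le hTS
  have hT : IsPGroup p T := hS.to_le hTS
  have hTY : T ≤ Subgroup.normalizer (Y : Set Ω) :=
    stronglyClosed_le_normalizer (isNormal_stronglyClosed hY)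
  have hTN : T ≤ normalizerIn S Y := le_inf hTS hTY
  have : Finite Y := finite_of_le hY.1
  obtain ⟨Y', hYY', hY'⟩ := exists_isFullyNormalized F hYc.1
  obtain ⟨e, he, γN, hγN, hγNv, hag⟩ := exists_normalizer_map hS hF hY' hYY'
  have hY'c : F.IsCentric Y' := isCentric_of_isConj hYc hYY'
  have hY'S : Y' ≤ S := hY'.1
  set N := normalizerSystem F Y' hY'S
  obtain ⟨M, _, κ, τ', hM, hτ's, hτ'κ, hequiv', hker'⟩ :=
    exists_model hS hF hY'c hY' hY'S N (isNormalizerSystem_normalizerSystem F Y' hY'S)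
  have hMfin : Finite M := hM.1
  set γ := γN.comp (Subgroup.inclusion hTN) with hγdef
  have hγ : γ ∈ F.Hom T := restrict_mem hγN hTN
  have hγv : ∀ t, γ t ∈ normalizerIn S Y' := fun t => hγNv _
  set ι₂ : T →* M := κ.comp (γ.codRestrict _ hγv) with hι₂def
  have hι₂inj : Function.Injective ι₂ := fun a b h =>
    hom_inj hγ (congrArg Subtype.val (hM.2.1.1 h))
  have hγY : ∀ y : Y, γ (Subgroup.inclusion hY.1 y) = (e y : Ω) := fun y => hag y
  have hιY : ∀ y : Y, ι₂ (Subgroup.inclusion hY.1 y) =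
      κ (Subgroup.inclusion (le_normalizerIn hY'S) (e y)) := fun y =>
    congrArg κ (Subtype.ext (hγY y))
  set σ : M →* MulAut Y := (MulAut.congr e.symm).toMonoidHom.comp
    ((F.autGroup Y').subtype.comp τ') with hσdef
  have hσval : ∀ m y, σ m y = e.symm ((τ' m : MulAut Y') (e y)) := fun m y => rfl
  have hequivM : ∀ (m : M) (y : Y), m * ι₂ (Subgroup.inclusion hY.1 y) * m⁻¹ =
      ι₂ (Subgroup.inclusion hY.1 (σ m y)) := by
    intro m y
    rw [hιY, hιY, hequiv', hσval, MulEquiv.apply_symm_apply]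
  have hσι : ∀ t : T, σ (ι₂ t) = conjAut Y (t : Ω) (hTY t.2) := by
    intro t
    refine MulEquiv.ext fun y => ?_
    have h1 := hequivM (ι₂ t) y
    rw [← map_inv, ← map_mul, ← map_mul] at h1
    exact Subtype.ext (congrArg Subtype.val (hι₂inj h1)).symm
  set L : Subgroup M := (E.autGroup Y).comap σ with hLdef
  set τ : L →* E.autGroup Y := (σ.comp L.subtype).codRestrict _ fun l => l.2 with hτdef
  have hιL : ∀ t, ι₂ t ∈ L := fun t => by
    show σ (ι₂ t) ∈ E.autGroup Y
    rw [hσι]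
    exact autInducedBy_le_autGroup E hY.1 (conjAut_mem_autInducedBy t.2 _)
  set ι : T →* L := ι₂.codRestrict L hιL with hιdef
  have hequiv : ∀ (l : L) (y : Y), l * ι (Subgroup.inclusion hY.1 y) * l⁻¹ =
      ι (Subgroup.inclusion hY.1 ((τ l : MulAut Y) y)) := fun l y => Subtype.ext (hequivM l y)
  have hker : ∀ l : L, τ l = 1 → ∃ z ∈ Subgroup.center Y, ι (Subgroup.inclusion hY.1 z) = l := by
    intro l hl
    have h1 : σ (l : M) = 1 := congrArg Subtype.val hl
    have h2 : τ' (l : M) = 1 := Subtype.ext ((MulAut.congr e.symm).injective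
      (h1.trans (map_one (MulAut.congr e.symm)).symm))
    obtain ⟨z, hz, hzl⟩ := hker' _ h2
    refine ⟨e.symm z, Subgroup.mem_center_iff.2 fun g => e.injective ?_, Subtype.ext ?_⟩
    · rw [map_mul, map_mul, MulEquiv.apply_symm_apply]
      exact Subgroup.mem_center_iff.1 hz (e g)
    · show ι₂ _ = (l : M)
      rw [hιY, MulEquiv.apply_symm_apply, hzl]
  have hτs : Function.Surjective τ := by
    intro a
    have hE' : IsFIso F ((a : MulAut Y) : Y ≃* Y) := hEF _ ((mem_autGroup_iff hY.1).1 a.2)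
    obtain ⟨m, hm⟩ := hτ's ⟨MulAut.congr e (a : MulAut Y),
      he.congr_mem ((mem_autGroup_iff hYc.1).2 hE')⟩
    have hσm : σ m = (a : MulAut Y) := MulEquiv.ext fun y => by
      rw [hσval, hm]
      simp [congr_apply]
    exact ⟨⟨m, by show σ m ∈ E.autGroup Y; rw [hσm]; exact a.2⟩, Subtype.ext hσm⟩
  have hrealized : E.IsRealizedBy ι := by
    refine ⟨fun a b h => hι₂inj (congrArg Subtype.val h), fun P hP φ hφv => ⟨fun hφ => ?_, ?_⟩⟩
    · obtain ⟨ψ, hψ, hψag, hYψ⟩ := hY.2 P φ hφ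
      have hD : P ⊔ Y ≤ T := sup_le hP hY.1
      obtain ⟨ω, hω, hωv⟩ := exists_transport hγ hD (hEF _ hψ) (map_mem hψ)
      have hY'D : Y' ≤ (γ.comp (Subgroup.inclusion hD)).range := fun y hy =>
        ⟨Subgroup.inclusion le_sup_right (e.symm ⟨y, hy⟩), by
          refine (hγY (e.symm ⟨y, hy⟩)).trans ?_
          rw [MulEquiv.apply_symm_apply]⟩
      have hωN : ω ∈ F.normalizerHom Y' (γ.comp (Subgroup.inclusion hD)).range := by
        refine ⟨hω, ?_, ?_, ω.comp (Subgroup.inclusion (sup_le le_rfl hY'D)), restrict_mem hω _,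
          fun x => rfl, ?_⟩
        · rintro _ ⟨x, rfl⟩
          exact hγv _
        · rintro ⟨_, x, rfl⟩
          exact (hωv x).symm ▸ hγv _
        · have : Finite Y' := finite_of_le hY'S
          rw [← range_comp_inclusion le_sup_right]
          refine range_eq_of_le ((hom_inj hω).comp ((Subgroup.inclusion_injective _).comp
            (Subgroup.inclusion_injective _))) fun y => ?_
          show ω ⟨(y : Ω), hY'D y.2⟩ ∈ Y'
          obtain ⟨w, rfl⟩ := e.surjective y
          rw [show (⟨(e w : Ω), hY'D (e w).2⟩ : (γ.comp (Subgroup.inclusion hD)).range) =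
            ⟨γ (Subgroup.inclusion hD (Subgroup.inclusion le_sup_right w)), _, rfl⟩ from
              Subtype.ext (hγY w).symm, hωv]
          have hmem := mem_of_map_subgroupOf_sup_eq hYψ w
          rw [show (⟨ψ (Subgroup.inclusion le_sup_right w), map_mem hψ _⟩ : T) =
            Subgroup.inclusion hY.1 ⟨_, hmem⟩ from rfl, hγY]
          exact (e _).2
      obtain ⟨m, hm⟩ := realized_exists_conj hM.2.1 (F := N) hωN
      have hmv : ∀ x : ↥(P ⊔ Y), ι₂ ⟨ψ x, map_mem hψ x⟩ = m * ι₂ ⟨x, hD x.2⟩ * m⁻¹ := by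
        intro x
        have := hm ⟨γ (Subgroup.inclusion hD x), x, rfl⟩
        simp only [hωv] at this
        exact this
      have hσm : m ∈ L := by
        obtain ⟨a, ha, hav⟩ := exists_aut (restrict_mem hψ (le_sup_right : Y ≤ P ⊔ Y))
          (range_eq_of_le (hom_inj (restrict_mem hψ le_sup_right)) fun y =>
            mem_of_map_subgroupOf_sup_eq hYψ y)
        show σ m ∈ E.autGroup Y
        have : σ m = a := MulEquiv.ext fun y => by
          have h1 := (hequivM m y).symm.trans (hmv (Subgroup.inclusion le_sup_right y)).symm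
          exact Subtype.ext ((congrArg Subtype.val (hι₂inj h1)).trans (hav y).symm)
        exact this ▸ ha
      refine ⟨⟨m, hσm⟩, fun x => Subtype.ext ?_⟩
      have := hmv (Subgroup.inclusion le_sup_left x)
      simp only [hψag] at this
      exact this
    · rintro ⟨⟨m, hmL⟩, hm⟩
      have hm' : ∀ x : P, ι₂ ⟨φ x, hφv x⟩ = m * ι₂ ⟨x, hP x.2⟩ * m⁻¹ := fun x =>
        congrArg Subtype.val (hm x)
      have hD : P ⊔ Y ≤ T := sup_le hP hY.1
      have hK : P ⊔ Y ≤ (ι₂.range.comap ((MulAut.conj m).toMonoidHom.comp ι₂)).map T.subtype :=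
        sup_le (fun x hx => ⟨⟨x, hP hx⟩, ⟨_, hm' ⟨x, hx⟩⟩, rfl⟩)
          fun y hy => ⟨Subgroup.inclusion hY.1 ⟨y, hy⟩, ⟨_, (hequivM m ⟨y, hy⟩).symm⟩, rfl⟩
      have hK' : ∀ x : ↥(P ⊔ Y), m * ι₂ (Subgroup.inclusion hD x) * m⁻¹ ∈ ι₂.range := by
        intro x
        obtain ⟨y, hy, hyx⟩ := hK x.2
        have h1 : y = Subgroup.inclusion hD x := Subtype.ext hyx
        exact h1 ▸ hy
      let eι : T ≃* ι₂.range := MonoidHom.ofInjective hι₂inj
      let c : ↥(P ⊔ Y) →* Ω := T.subtype.comp (eι.symm.toMonoidHom.comp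
        (((MulAut.conj m).toMonoidHom.comp (ι₂.comp (Subgroup.inclusion hD))).codRestrict _ hK'))
      have hcT : ∀ x, c x ∈ T := fun x => (eι.symm _).2
      have hcv : ∀ x, ι₂ ⟨c x, hcT x⟩ = m * ι₂ (Subgroup.inclusion hD x) * m⁻¹ := fun x =>
        congrArg Subtype.val (eι.apply_symm_apply ⟨_, hK' x⟩)
      have hrange : (γ.comp (Subgroup.inclusion hD)).range ≤ normalizerIn S Y' := by
        rintro _ ⟨x, rfl⟩
        exact hγv _
      obtain ⟨ω, hω, hωv⟩ := realized_subgroup_conj hM.2.1 (F := N) hrange m fun y => by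
        obtain ⟨_, x, rfl⟩ := y
        exact ⟨⟨γ ⟨c x, hcT x⟩, hγv _⟩, hcv x⟩
      have hcF : c ∈ F.Hom (P ⊔ Y) := mem_of_transport hγ hD hcT hω.1 fun x => by
        have hx := hωv ⟨γ (Subgroup.inclusion hD x), x, rfl⟩ (map_mem hω _)
        exact congrArg Subtype.val (hM.2.1.1 (hx.trans (hcv x).symm))
      have hca : ∀ y : Y, c (Subgroup.inclusion le_sup_right y) = (σ m y : Ω) := fun y => by
        have h1 := (hcv (Subgroup.inclusion le_sup_right y)).trans (hequivM m y)
        exact congrArg Subtype.val (hι₂inj h1)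
      have ha : IsFIso E ((σ m : MulAut Y) : Y ≃* Y) := (mem_autGroup_iff hY.1).1 hmL
      obtain ⟨ψ, hψ, -, hψe⟩ := ha.exists_extension
        (isReceptive_of_isFullyNormalized hT hE (isFullyNormalized_of_le_normalizer hY.1 hTY))
        (le_sup_right : Y ≤ P ⊔ Y) (le_inf hD (hD.trans hTY)) fun g hg => by
          rw [congr_conjAut_eq_of_extends (R := P ⊔ Y) le_sup_right hca hg]
          exact conjAut_mem_autInducedBy (hcT _) _
      obtain ⟨z, hz, -, hzv⟩ := eq_conj_of_agree hS hF (P := P ⊔ Y) le_sup_right (hD.trans hTY) hYc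
        (hEF _ hψ) hcF (fun q hq => (hca ⟨q, hq⟩).trans (hψe ⟨q, hq⟩).symm)
      have hzD : ∀ x : ↥(P ⊔ Y), z * (x : Ω) * z⁻¹ ∈ P ⊔ Y := fun x =>
        mul_mem (mul_mem (Subgroup.mem_sup_right hz) x.2) (inv_mem (Subgroup.mem_sup_right hz))
      have hcE : c ∈ E.Hom (P ⊔ Y) :=
        mem_of_comp (E.conj_mem hD (hY.1 hz)) hψ hzD c fun x => hzv x (hzD x)
      refine mem_of_restrict hcE le_sup_left φ fun x => ?_
      exact congrArg Subtype.val (hι₂inj ((hm' x).trans (hcv (Subgroup.inclusion le_sup_left x)).symm))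
  refine ⟨L, inferInstance, ι, τ, ⟨inferInstance, hrealized, ?_, ?_⟩, hτs, hequiv, hker,
    Y', N, M, inferInstance, κ, L.subtype, hY', hY'c, isNormalizerSystem_normalizerSystem F Y' hY'S,
    hM, Subgroup.subtype_injective _⟩
  · have hpg : IsPGroup p ι.range := by
      intro g
      obtain ⟨r, hr⟩ := g.2
      obtain ⟨k, hk⟩ := hT r
      exact ⟨k, Subtype.ext (by rw [SubgroupClass.coe_pow, ← hr, ← map_pow, hk, map_one]; rfl)⟩
    have hkerle : τ.ker ≤ ι.range := fun l hl => by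
      obtain ⟨z, -, hz⟩ := hker l hl
      exact ⟨_, hz⟩
    have hidx : ¬ p ∣ ι.range.index := by
      have h1 : (ι.range.map τ).index = ι.range.index := by
        rw [Subgroup.index_map, sup_eq_left.2 hkerle, MonoidHom.range_eq_top.2 hτs,
          Subgroup.index_top, mul_one]
      obtain ⟨-, P₀, hP₀⟩ := isFullyAutomized_of_isFullyNormalized hT hE
        (isFullyNormalized_of_le_normalizer hY.1 hTY)
      have h2 : ι.range.map τ = (P₀ : Subgroup (E.autGroup Y)) := by
        rw [hP₀]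
        ext a
        rw [Subgroup.mem_subgroupOf, mem_autInducedBy_iff, Subgroup.mem_map]
        constructor
        · rintro ⟨_, ⟨t, rfl⟩, rfl⟩
          refine ⟨t, t.2, fun y => ?_⟩
          show (σ (ι₂ t) y : Ω) = _
          rw [hσι, conjAut_apply]
        · rintro ⟨t, ht, hta⟩
          refine ⟨ι ⟨t, ht⟩, ⟨_, rfl⟩, Subtype.ext (MulEquiv.ext fun y => Subtype.ext ?_)⟩
          show (σ (ι₂ ⟨t, ht⟩) y : Ω) = _
          rw [hσι, conjAut_apply, hta]
      rw [← h1, h2]
      exact P₀.not_dvd_index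
    exact ⟨hpg.toSylow hidx, rfl⟩
  · set U := (ι.comp (Subgroup.inclusion hY.1)).range with hU
    have hUn : U.Normal := ⟨by
      rintro _ ⟨y, rfl⟩ l
      exact ⟨_, (hequiv l y).symm⟩⟩
    have hUp : IsPGroup p U := by
      intro g
      obtain ⟨r, hr⟩ := g.2
      obtain ⟨k, hk⟩ := (hS.to_le hYc.1) r
      exact ⟨k, Subtype.ext (by rw [SubgroupClass.coe_pow, ← hr, ← map_pow, hk, map_one]; rfl)⟩
    have hUc : U ≤ pCore p L := le_sSup ⟨hUn, hUp⟩
    intro l hl
    have h1 : τ l = 1 := by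
      refine Subtype.ext (MulEquiv.ext fun y => ?_)
      have h2 := hequiv l y
      have hcomm : ι (Subgroup.inclusion hY.1 y) * l = l * ι (Subgroup.inclusion hY.1 y) :=
        Subgroup.mem_centralizer_iff.1 hl _ (hUc ⟨y, rfl⟩)
      rw [← hcomm, mul_inv_cancel_right] at h2
      exact (Subgroup.inclusion_injective _ (hrealized.1 h2)).symm
    obtain ⟨z, -, hz⟩ := hker l h1
    exact hUc ⟨z, hz⟩

theorem IsLocal.core_centric [Finite S] (hE : IsLocal F p E)
    (hC : centralizerIn T E.core ≤ E.core) : E.IsCentric E.core ∧ F.IsCentric E.core := by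
  have := hE.finite
  have hY := CfsgLib.FusionQuot.isNormal_core E
  have h : E.IsCentric E.core := ⟨hY.1, fun Q hQ => by rw [isConj_normal_eq hY hQ]; exact hC⟩
  exact ⟨h, hE.2.2 _ le_rfl h⟩

/-- An element of a model normalizing the image of `U` gives a map normalizing `U`. -/
theorem normalizerHom_of_realized [Finite T] {L : Type*} [Group L] {ι : T →* L} (hι : E.IsRealizedBy ι)
    {Y U : Subgroup Ω} (hY : Y ≤ T) (hU : U ≤ T) (hYU : Y ≤ Subgroup.normalizer (U : Set Ω))
    {a : MulAut Y} {l : L}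
    (hl : ∀ y : Y, l * ι (Subgroup.inclusion hY y) * l⁻¹ = ι (Subgroup.inclusion hY (a y)))
    (hlU : ∀ u : U, l * ι (Subgroup.inclusion hU u) * l⁻¹ ∈ (U.subgroupOf T).map ι) :
    Y.subtype.comp a.toMonoidHom ∈ E.normalizerHom U Y := by
  have hD : Y ⊔ U ≤ T := sup_le hY hU
  obtain ⟨ψ, hψ, hψv⟩ := realized_subgroup_conj hι hD l
    (realized_conj_mem_range_of_sup hι hY hU (fun y => ⟨_, (hl y).symm⟩)
      fun u => Subgroup.map_le_range _ _ (hlU u))
  have hag : ∀ y : Y, ψ (Subgroup.inclusion le_sup_left y) = (a y : Ω) := fun y =>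
    realized_inj hι (x := ⟨_, map_mem hψ _⟩) (y := ⟨_, hY (a y).2⟩) ((hψv _ _).trans (hl y))
  have hψU : ∀ u : U, ψ (Subgroup.inclusion le_sup_right u) ∈ U := by
    intro u
    obtain ⟨w, hw, hwu⟩ := hlU u
    have h1 := (hψv (Subgroup.inclusion le_sup_right u) (map_mem hψ _)).trans hwu.symm
    have h2 : ψ (Subgroup.inclusion le_sup_right u) = (w : Ω) := realized_inj hι h1
    rw [h2]
    exact hw
  have ha : Y.subtype.comp a.toMonoidHom ∈ E.Hom Y := mem_of_restrict hψ le_sup_left _ fun y =>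
    (hag y).symm
  refine ⟨ha, le_inf hY hYU, fun y => ⟨hY (a y).2, hYU (a y).2⟩, ψ, hψ, hag, ?_⟩
  rw [← range_comp_inclusion le_sup_right]
  have : Finite U := finite_of_le hU
  exact range_eq_of_le (hom_inj (restrict_mem hψ le_sup_right)) hψU

/-- A constrained local system lies in a saturated `G ≤ F` if the automorphisms of its core do. -/
theorem le_of_autGroup_core [Finite S] [Fact p.Prime] (hS : IsPGroup p S) (hF : F.IsSaturated p)
    (hG : G.IsSaturated p) (hGF : G.IsSubsystemOf F) (hE : IsLocal F p E)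
    (hC : centralizerIn T E.core ≤ E.core)
    (h : ∀ a ∈ E.autGroup E.core, a ∈ G.autGroup E.core) : E.IsSubsystemOf G := by
  intro P φ hφ
  have := hE.finite
  have hY := CfsgLib.FusionQuot.isNormal_core E
  obtain ⟨ψ, hψ, hag, hYψ⟩ := hY.2 P φ hφ
  have : Finite E.core := finite_of_le hY.1
  obtain ⟨a, ha, hav⟩ := exists_aut (restrict_mem hψ (le_sup_right : E.core ≤ P ⊔ E.core))
    (range_eq_of_le (hom_inj (restrict_mem hψ le_sup_right)) fun y =>
      mem_of_map_subgroupOf_sup_eq hYψ y)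
  have hYc := (hE.core_centric hC).2
  have haG : IsFIso G (a : E.core ≃* E.core) := (mem_autGroup_iff hYc.1).1 (h a ha)
  have hψG : ψ ∈ G.Hom (P ⊔ E.core) :=
    CentricExtend.mem_of_restrict_centric hS hF hG hGF (Nat.card S) E.core (Nat.le_add_left _ _) hYc
      _ ψ le_sup_right (hE.1 _ hψ)
      (mem_of_restrict haG le_rfl _ fun y => (hav y).symm)
  exact mem_of_restrict hψG le_sup_left φ fun x => (hag x).symm

end CfsgLib.FusionControl
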