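import Cfsg.Agent.Lib.FusionControl.Step
import Cfsg.Agent.Lib.Fusion.ZJCenter
import Cfsg.Agent.Lib.Fusion.FrobeniusCriterion
import Cfsg.Agent.Lib.PLocal.Families

/-!
# Control criteria for a system to be the inner one; the functor `Q ↦ Z(J(Q))`
-/

set_option autoImplicit false

namespace CfsgLib.FusionControl

open Cfsg Cfsg.FusionSystem CfsgLib.Fusion

universe u
variable {Ω : Type u} [Group Ω] {S T : Subgroup Ω} {F : Cfsg.FusionSystem S}
variable {E : Cfsg.FusionSystem T} {p : ℕ} {W : ∀ (Q : Type u) [Group Q], Subgroup Q}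

theorem normal_subgroupOf_of_isNormal {Z : Subgroup Ω} (hZ : E.IsNormal Z) :
    (Z.subgroupOf T).Normal := ⟨fun _ hn g => normal_conj_mem hZ g.2 hn⟩

theorem liftSub_nonempty {Z : Subgroup Ω} (hZ : E.IsNormal Z) : ∃ U, U ∈ liftSub W Z T :=
  ⟨_, normal_subgroupOf_of_isNormal hZ, rfl⟩

/-- For `Z = ⊥` the chosen subgroup is `W S`. -/
theorem eq_of_mem_liftSub_bot (hS : IsPGroup p S) [Finite S]
    (hW2 : ∀ (Q R : Type u) [Group Q] [Group R] [Finite Q], IsPGroup p Q → ∀ φ : Q ≃* R,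
      (W Q).map φ.toMonoidHom = W R) {U : Subgroup Ω} (hU : U ∈ liftSub W ⊥ S) :
    U = (W S).map S.subtype := by
  obtain ⟨hn, rfl⟩ := hU
  let f : S →* S ⧸ (⊥ : Subgroup Ω).subgroupOf S := QuotientGroup.mk' _
  have hf : Function.Injective f := by
    rw [injective_iff_map_eq_one]
    exact fun x hx => Subtype.ext (Subgroup.mem_bot.1 ((QuotientGroup.eq_one_iff x).1 hx))
  have h := hW2 S _ hS (MulEquiv.ofBijective f ⟨hf, QuotientGroup.mk'_surjective _⟩)
  rw [← h]
  congr 1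
  exact Subgroup.comap_map_eq_self_of_injective hf _

/-- Elements of the model acting on the core as inner maps form a `p`-group. -/
theorem isPGroup_of_inner [Finite S] [Fact p.Prime] (hS : IsPGroup p S) (hE : IsLocal F p E)
    (D : CoreData F E p E.core) {K : Subgroup D.L}
    (h : ∀ l ∈ K, (D.τ l : MulAut E.core) ∈ (Cfsg.innerFusionSystem S).autGroup E.core) :
    IsPGroup p K := by
  have hT := hE.isPGroup hS
  have hYS : E.core ≤ S := D.hle.trans hE.le_S
  refine D.isPGroup_of_image hT fun l hl => ?_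
  have hA : (Cfsg.innerFusionSystem S).autGroup E.core ≤ autInducedBy S E.core := by
    intro α hα
    obtain ⟨-, g, hg, hv⟩ := (mem_autGroup_iff_hom hYS).1 hα
    exact mem_autInducedBy_iff.2 ⟨g, hg, hv⟩
  obtain ⟨k, hk⟩ := isPGroup_autInducedBy hS E.core ⟨_, hA (h l hl)⟩
  exact ⟨k, Subtype.ext ((congrArg Subtype.val hk :) )⟩

/-- A normal `p`-complement of the model modulo `Z` makes the automorphisms of the core inner. -/
theorem inner_of_npc [Finite S] [Fact p.Prime] (hS : IsPGroup p S)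
    (hE : IsLocal F p E) {Z : Subgroup Ω} (hZ : E.IsNormal Z) (hp : IsPGroup p (E.autGroup Z))
    (hlt : Z < E.core) (D : CoreData F E p E.core) [hn : ((Z.subgroupOf T).map D.ι).Normal]
    (hnpc : Cfsg.HasNormalPComplement p (D.L ⧸ (Z.subgroupOf T).map D.ι)) :
    ∀ a ∈ E.autGroup E.core, a ∈ (Cfsg.innerFusionSystem S).autGroup E.core := by
  have := hE.finite
  have hT := hE.isPGroup hS
  have hYS : E.core ≤ S := D.hle.trans hE.le_S
  set mk := QuotientGroup.mk' ((Z.subgroupOf T).map D.ι) with hmk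
  obtain ⟨P₀, hP₀⟩ := D.model.2.2.1
  set P := P₀.mapSurjective (QuotientGroup.mk'_surjective ((Z.subgroupOf T).map D.ι)) with hPdef
  have hP : (P : Subgroup _) = D.ι.range.map mk := by
    rw [hPdef, ← hP₀]
    rfl
  obtain ⟨K, hK⟩ := (CfsgLib.NPC.hasNormalPComplement_iff).1 hnpc
  -- every element of the model is a `p`-element
  have hLp : IsPGroup p D.L := by
    intro l
    obtain ⟨a, m, hm, ha⟩ := Nat.exists_eq_pow_mul_and_not_dvd (orderOf_pos l).ne' p
      (Fact.out : p.Prime).ne_one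
    refine ⟨a, ?_⟩
    have hco : Nat.Coprime (orderOf (l ^ p ^ a)) p :=
      Nat.Coprime.coprime_dvd_left (orderOf_dvd_of_pow_eq_one (by
        rw [← pow_mul, ← ha, pow_orderOf_eq_one]))
        ((Nat.Prime.coprime_iff_not_dvd Fact.out).2 hm).symm
    refine D.eq_one_of_coprime hT hZ hlt.le hp hco fun y => ?_
    set g := l ^ p ^ a
    set u := D.ι (Subgroup.inclusion D.hle y)
    have hgK : mk g ∈ K := (CfsgLib.NPC.mem_iff_coprime hK).2
      (hco.coprime_dvd_left (orderOf_map_dvd mk g))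
    have hKn : K.Normal := hK.1
    -- the commutator lies in the complement and is a `p`-element
    have hc : mk u⁻¹ * (mk g * mk u * (mk g)⁻¹) = 1 := by
      have h1 : mk u⁻¹ * (mk g * mk u * (mk g)⁻¹) ∈ K := by
        have e : mk u⁻¹ * (mk g * mk u * (mk g)⁻¹) =
            ((mk u)⁻¹ * mk g * ((mk u)⁻¹)⁻¹) * (mk g)⁻¹ := by
          rw [map_inv]
          simp [mul_assoc]
        rw [e]
        exact K.mul_mem (hKn.conj_mem _ hgK _) (K.inv_mem hgK)
      have h2 : mk u⁻¹ * (mk g * mk u * (mk g)⁻¹) ∈ (P : Subgroup _) := by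
        rw [hP]
        refine ⟨D.ι ((Subgroup.inclusion D.hle y)⁻¹ *
          Subgroup.inclusion D.hle ((D.τ g : MulAut E.core) y)), ⟨_, rfl⟩, ?_⟩
        rw [map_mul, map_inv, ← D.equiv g y, map_mul, map_mul, map_mul, map_inv, map_inv]
      obtain ⟨j, hj⟩ := P.isPGroup' ⟨_, h2⟩
      refine orderOf_eq_one_iff.1 (Nat.eq_one_of_dvd_coprimes
        (((CfsgLib.NPC.mem_iff_coprime hK).1 h1).pow_right j) dvd_rfl
        (orderOf_dvd_of_pow_eq_one (congrArg Subtype.val hj)))
    have hc' : mk (u⁻¹ * (g * u * g⁻¹)) = 1 := by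
      rw [map_mul, map_mul, map_mul, map_inv mk g]; exact hc
    rw [D.equiv g y, ← map_inv, ← map_mul] at hc'
    obtain ⟨z, hz, hzv⟩ := (QuotientGroup.eq_one_iff _).1 hc'
    have h3 : (z : Ω) = (y : Ω)⁻¹ * (((D.τ g : MulAut E.core) y : E.core) : Ω) :=
      congrArg Subtype.val (D.model.2.1.1 hzv)
    exact h3 ▸ hz
  intro a ha
  obtain ⟨l, hl⟩ := D.surj ⟨a, ha⟩
  obtain ⟨t, rfl⟩ := D.eq_range_of_isPGroup hLp l
  refine (mem_autGroup_iff_hom hYS).2 ⟨hYS, t, hE.le_S t.2, fun y => ?_⟩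
  have := congrArg (fun b : E.autGroup E.core => (((b : MulAut E.core) y : E.core) : Ω)) hl
  exact this.symm.trans (D.τ_ι t y)


/-- If the chosen normalizer in the quotient is a `p`-group only when the whole quotient has a
normal `p`-complement, the constrained case lies in the inner system. -/
theorem innerStep [Finite S] [Fact p.Prime] (hS : IsPGroup p S)
    (hW2 : ∀ (Q R : Type u) [Group Q] [Group R] [Finite Q], IsPGroup p Q → ∀ φ : Q ≃* R,
      (W Q).map φ.toMonoidHom = W R)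
    (hE : IsLocal F p E) {Z : Subgroup Ω} (hZ : E.IsNormal Z) (hp : IsPGroup p (E.autGroup Z))
    (hlt : Z < E.core) (D : CoreData F E p E.core)
    (hGT : ∀ (H : Type u) [Group H] [Finite H] (P : Sylow p H),
      (∀ K : Subgroup D.L, ∀ _ : K.Normal, Nonempty (D.L ⧸ K ≃* H) →
        IsPGroup p (Subgroup.normalizer
          ((((W (P : Subgroup H)).map (P : Subgroup H).subtype) : Subgroup H) : Set H)) →
        Cfsg.HasNormalPComplement p H))
    (h : ∀ U ∈ liftSub W Z T,
      ∀ l ∈ Subgroup.normalizer (((U.subgroupOf T).map D.ι : Subgroup D.L) : Set D.L),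
        (D.τ l : MulAut E.core) ∈ (Cfsg.innerFusionSystem S).autGroup E.core) :
    ∀ a ∈ E.autGroup E.core, a ∈ (Cfsg.innerFusionSystem S).autGroup E.core := by
  have := hE.finite
  have hT := hE.isPGroup hS
  have hn : ((Z.subgroupOf T).map D.ι).Normal := D.normal_map hZ hlt.le
  set mk := QuotientGroup.mk' ((Z.subgroupOf T).map D.ι) with hmk
  obtain ⟨P₀, hP₀⟩ := D.model.2.2.1
  set P := P₀.mapSurjective (QuotientGroup.mk'_surjective ((Z.subgroupOf T).map D.ι)) with hPdef
  have hP : (P : Subgroup _) = D.ι.range.map mk := by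
    rw [hPdef, ← hP₀]
    rfl
  obtain ⟨U, hU⟩ := liftSub_nonempty (W := W) hZ
  have hNp : IsPGroup p
      (Subgroup.normalizer (((U.subgroupOf T).map D.ι : Subgroup D.L) : Set D.L)) :=
    isPGroup_of_inner hS hE D (h U hU)
  set V : Subgroup (D.L ⧸ (Z.subgroupOf T).map D.ι) :=
    (W (P : Subgroup (D.L ⧸ (Z.subgroupOf T).map D.ι))).map
      (P : Subgroup (D.L ⧸ (Z.subgroupOf T).map D.ι)).subtype with hV
  have hN : IsPGroup p (Subgroup.normalizer (V : Set (D.L ⧸ (Z.subgroupOf T).map D.ι))) := by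
    refine (hNp.map mk).to_le fun x hx => ?_
    obtain ⟨l, rfl⟩ := QuotientGroup.mk'_surjective _ x
    exact ⟨l, (mem_normalizer_liftSub hW2 hT D.model.2.1.1 hU _ hP l).1 hx, rfl⟩
  exact inner_of_npc hS hE hZ hp hlt D (hGT _ P ((Z.subgroupOf T).map D.ι) hn ⟨MulEquiv.refl _⟩ hN)

/-- The functor `Q ↦ Z(J(Q))`. -/
def zjW (Q : Type u) [Group Q] : Subgroup Q := CfsgLib.ZJCenter.zj 0 (⊤ : Subgroup Q)

theorem zjW_ne_bot [Fact p.Prime] (Q : Type u) [Group Q] [Finite Q] (hQ : IsPGroup p Q)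
    (hne : Nontrivial Q) : zjW Q ≠ ⊥ :=
  CfsgLib.ZJCenter.zj_ne_bot (p := p) (Or.inl rfl) (hQ.to_subgroup ⊤) top_ne_bot

theorem zjW_natural (Q R : Type u) [Group Q] [Group R] [Finite Q] (_ : IsPGroup p Q) (φ : Q ≃* R) :
    (zjW Q).map φ.toMonoidHom = zjW R := by
  rw [zjW, CfsgLib.ZJCenter.zj_map (f := φ.toMonoidHom) φ.injective,
    Subgroup.map_top_of_surjective _ φ.surjective, zjW]

theorem zjW_map {H : Type u} [Group H] (P : Subgroup H) :
    (zjW P).map P.subtype = Cfsg.centerThompsonAOf P := by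
  rw [zjW, CfsgLib.ZJCenter.zj_map P.subtype_injective, ← MonoidHom.range_eq_map,
    Subgroup.range_subtype, CfsgLib.ZJCenter.zj, ← CfsgLib.PLoc.joinMaxAb_zero]
  rfl

end CfsgLib.FusionControl
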