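import Cfsg.Agent.Lib.FusionControl.AxiomaticGroup
import Cfsg.Agent.Lib.FusionControl.CoreModel
import Cfsg.Agent.Lib.FusionControl.InnerStep

/-!
# Automizers of centric normal subgroups under an axiomatic replacement hypothesis
-/

set_option autoImplicit false

namespace CfsgLib.FusionControl

open Cfsg Cfsg.FusionSystem CfsgLib.Fusion

universe u

variable {Ω : Type u} [Group Ω] {S : Subgroup Ω} {F : Cfsg.FusionSystem S} {p : ℕ}

/-- The intersection of a nonempty family, read through an injective map. -/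
theorem iInf_map_family {T : Subgroup Ω} {M : Type*} [Group M] {κ : T →* M} (hκ : Function.Injective κ)
    {𝒮 : Set (Subgroup Ω)} (hne : 𝒮.Nonempty) (_hT : ∀ A ∈ 𝒮, A ≤ T) :
    (⨅ A' ∈ (fun A : Subgroup Ω => (A.subgroupOf T).map κ) '' 𝒮, A') =
      ((⨅ A ∈ 𝒮, A).subgroupOf T).map κ := by
  refine le_antisymm (fun x hx => ?_) (le_iInf₂ ?_)
  · simp only [Subgroup.mem_iInf] at hx
    obtain ⟨A₀, hA₀⟩ := hne
    obtain ⟨t, -, rfl⟩ := hx _ ⟨A₀, hA₀, rfl⟩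
    refine ⟨t, ?_, rfl⟩
    simp only [SetLike.mem_coe, Subgroup.mem_subgroupOf, Subgroup.mem_iInf]
    intro A hA
    obtain ⟨t', ht', he⟩ := hx _ ⟨A, hA, rfl⟩
    exact (hκ he) ▸ ht'
  · rintro _ ⟨A, hA, rfl⟩
    exact Subgroup.map_mono (Subgroup.comap_mono (iInf₂_le A hA))

set_option maxHeartbeats 1000000 in
/-- Under the axiomatic hypotheses a centric subgroup normal in `S` has a `p`-group automizer. -/
theorem isPGroup_autGroup_of_axiomatic [Finite S] [Fact p.Prime] (hS : IsPGroup p S)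
    (hF : F.IsSaturated p) (hp2 : p ≠ 2) (𝒜 : Set (Subgroup Ω))
    (h𝒜 : ∀ A ∈ 𝒜, A ≤ S ∧ IsMulCommutative ↥A) (hne : 𝒜.Nonempty)
    (hinv : ∀ Q : Subgroup Ω, Q ≤ S → (∃ A ∈ 𝒜, A ≤ Q) → ∀ α ∈ F.autGroup Q, ∀ x : ↥Q,
      (x : Ω) ∈ (⨅ A ∈ {A : Subgroup Ω | A ∈ 𝒜 ∧ A ≤ Q}, A) →
      (((α : MulAut ↥Q) x : ↥Q) : Ω) ∈ (⨅ A ∈ {A : Subgroup Ω | A ∈ 𝒜 ∧ A ≤ Q}, A))
    (hrep : ∀ B : Subgroup Ω, B ≤ S → ⁅⁅B, B⁆, B⁆ = ⊥ → (∃ A ∈ 𝒜, ⁅B, B⁆ ≤ A ∧ ¬ B ≤ A) →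
      ∃ A ∈ 𝒜, ⁅B, B⁆ ≤ A ∧ ¬ B ≤ A ∧ B ≤ Subgroup.normalizer (A : Set Ω))
    (hSI : S ≤ Subgroup.normalizer ((⨅ A ∈ 𝒜, A : Subgroup Ω) : Set Ω))
    (hNI : ∀ P, F.normalizerHom (⨅ A ∈ 𝒜, A) P ⊆ (Cfsg.innerFusionSystem S).Hom P)
    {X : Subgroup Ω} (hXc : F.IsCentric X) (hSX : S ≤ Subgroup.normalizer (X : Set Ω)) :
    IsPGroup p (F.autGroup X) := by
  classical
  set I := (⨅ A ∈ 𝒜, A) with hIdef
  obtain ⟨A₀, hA₀⟩ := hne
  have hIS : I ≤ S := (iInf₂_le A₀ hA₀).trans (h𝒜 A₀ hA₀).1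
  have hXS : X ≤ S := hXc.1
  have hfn : F.IsFullyNormalized X := isFullyNormalized_of_le_normalizer hXS hSX
  set N := normalizerSystem F X hXS with hNdef
  obtain ⟨L, _, κ, τ, hM, hτs, hτι, hequiv, hker⟩ :=
    CfsgLib.FusionModel.exists_model hS hF hXc hfn hXS N (isNormalizerSystem_normalizerSystem F X hXS)
  have hTS : (normalizerIn S X) = S := normalizerIn_eq_of_le hSX
  have : Finite (normalizerIn S X) := finite_of_le (normalizerIn_le S X)
  have : Finite L := hM.1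
  have hT : IsPGroup p (normalizerIn S X) := hS.to_le (normalizerIn_le S X)
  have hκ : Function.Injective κ := hM.2.1.1
  obtain ⟨P₀, hP₀⟩ := hM.2.2.1
  have hrange : IsPGroup p κ.range := hP₀ ▸ P₀.isPGroup'
  -- the normalizer of `I` in the model is a `p`-group
  have hIT : I ≤ (normalizerIn S X) := hIS.trans hTS.ge
  have hNp : IsPGroup p
      (Subgroup.normalizer (((I.subgroupOf (normalizerIn S X)).map κ : Subgroup L) : Set L)) := by
    rintro ⟨l, hl⟩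
    have h1 := normalizerHom_of_realized (E := N) hM.2.1 (le_normalizerIn hXS) hIT
      (hXS.trans hSI) (hequiv l)
      fun u => (Subgroup.mem_normalizer_iff.1 hl _).1 ⟨Subgroup.inclusion hIT u, u.2, rfl⟩
    obtain ⟨h1a, -, -, ψ, hψ, hag, hIψ⟩ := h1
    have h2 : X.subtype.comp ((τ l : MulAut X) : X ≃* X).toMonoidHom ∈
        F.normalizerHom I X := by
      refine ⟨h1a.1, le_inf hXS (hXS.trans hSI), fun x => ⟨hXS ((τ l : MulAut X) x).2,
        (hXS.trans hSI) ((τ l : MulAut X) x).2⟩, ψ, hψ.1, hag, hIψ⟩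
    obtain ⟨-, g, hg, hv⟩ := hNI X h2
    have h3 : (τ l : MulAut X) ∈ autInducedBy S X := mem_autInducedBy_iff.2 ⟨g, hg, hv⟩
    obtain ⟨k, hk⟩ := isPGroup_autInducedBy hS X ⟨_, h3⟩
    obtain ⟨z, -, hz⟩ := hker (l ^ p ^ k) (by
      refine Subtype.ext ?_
      rw [map_pow, SubgroupClass.coe_pow]
      exact congrArg Subtype.val hk)
    obtain ⟨m, hm⟩ := hT (Subgroup.inclusion (le_normalizerIn hXS) z)
    refine ⟨k + m, Subtype.ext ?_⟩
    rw [SubgroupClass.coe_pow, pow_add, pow_mul, ← hz, ← map_pow, hm, map_one]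
    rfl
  -- the model is a `p`-group
  suffices hLp : IsPGroup p L from hLp.of_surjective τ hτs
  by_contra hLp
  set 𝒮 : Set (Subgroup L) := {H | κ.range ≤ H ∧ ¬ IsPGroup p H}
  obtain ⟨M, ⟨hrM, hMp⟩, hmin⟩ := Set.exists_min_image 𝒮 (fun H => Nat.card H) (Set.toFinite _)
    ⟨⊤, le_top, fun h => hLp (h.of_equiv Subgroup.topEquiv)⟩
  set P : Sylow p M := P₀.subtype (hP₀.le.trans hrM) with hPdef
  have hPv : ∀ x : M, x ∈ (P : Subgroup M) ↔ (x : L) ∈ κ.range := fun x => by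
    rw [hPdef, Sylow.coe_subtype, Subgroup.mem_subgroupOf, hP₀]
  set κ₁ : (normalizerIn S X) →* M := κ.codRestrict M fun t => hrM ⟨t, rfl⟩ with hκ₁
  have hκ₁i : Function.Injective κ₁ := fun a b h => hκ (congrArg Subtype.val h)
  have hκ₁P : ∀ H : Subgroup (normalizerIn S X), H.map κ₁ ≤ (P : Subgroup M) := by
    rintro H _ ⟨t, -, rfl⟩
    exact (hPv _).2 ⟨t, rfl⟩
  have hmax : ∀ H : Subgroup M, (P : Subgroup M) ≤ H → H = (P : Subgroup M) ∨ H = ⊤ := by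
    intro H hPH
    by_cases hH : IsPGroup p H
    · exact Or.inl (P.3 hH hPH)
    · refine Or.inr (Subgroup.eq_top_of_le_card H ?_)
      rw [← Subgroup.card_map_of_injective (K := H) M.subtype_injective]
      refine hmin (H.map M.subtype) ⟨fun x hx => ⟨⟨x, hrM hx⟩, hPH ((hPv _).2 hx), rfl⟩,
        fun h => hH (h.of_equiv (H.equivMapOfInjective M.subtype M.subtype_injective).symm)⟩
  have hcL := hM.2.2.2
  have hc : Subgroup.centralizer (Cfsg.pCore p M : Set M) ≤ Cfsg.pCore p M := by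
    haveI := CfsgLib.Solvable.pCore_normal p L
    have hle : (Cfsg.pCore p L).subgroupOf M ≤ Cfsg.pCore p M :=
      CfsgLib.Solvable.le_pCore inferInstance
        ((CfsgLib.Solvable.pCore_isPGroup p L).comap_of_injective _ M.subtype_injective)
    intro x hx
    refine hle (hcL (Subgroup.mem_centralizer_iff.2 fun y hy => ?_))
    exact congrArg Subtype.val (Subgroup.mem_centralizer_iff.1 hx
      ⟨y, hrM (pCore_le_range hM hy)⟩ (hle hy))
  set 𝒜' : Set (Subgroup M) := (fun A : Subgroup Ω => (A.subgroupOf (normalizerIn S X)).map κ₁) '' 𝒜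
  have hAT : ∀ A ∈ 𝒜, A ≤ (normalizerIn S X) := fun A hA => (h𝒜 A hA).1.trans hTS.ge
  have hI' : ((I.subgroupOf (normalizerIn S X)).map κ₁ : Subgroup M) = ⨅ A ∈ 𝒜', A :=
    (iInf_map_family hκ₁i ⟨A₀, hA₀⟩ hAT).symm
  have hTI : (normalizerIn S X) ≤ Subgroup.normalizer (I : Set Ω) := hTS.le.trans hSI
  have hnorm : ((I.subgroupOf (normalizerIn S X)).map κ₁).Normal := by
    refine normal_of_axiomatic hp2 P hmax hc 𝒜' ?_ ⟨_, A₀, hA₀, rfl⟩ hI' ?_ ?_ ?_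
    · rintro _ ⟨A, hA, rfl⟩
      refine ⟨hκ₁P _, IsMulCommutative.of_setLike_mul_comm ?_⟩
      rintro _ ⟨a, ha, rfl⟩ _ ⟨b, hb, rfl⟩
      have := (h𝒜 A hA).2
      rw [← map_mul, ← map_mul]
      exact congrArg κ₁ (Subtype.ext (setLike_mul_comm (s := A) ha hb))
    · intro x hx
      obtain ⟨t, ht⟩ := (hPv x).1 hx
      have hxt : x = κ₁ t := Subtype.ext ht.symm
      subst hxt
      refine Subgroup.mem_normalizer_fintype ?_
      rintro _ ⟨u, hu, rfl⟩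
      refine ⟨t * u * t⁻¹, (Subgroup.mem_normalizer_iff.1 (hTI t.2) u).1 hu, ?_⟩
      rw [map_mul, map_mul, map_inv]
    · rintro ⟨_, ⟨A, hA, rfl⟩, hAQ⟩
      set R := ((Cfsg.pCore p M).comap κ₁).map (normalizerIn S X).subtype with hR
      have hRT : R ≤ (normalizerIn S X) := Subgroup.map_subtype_le _
      have hmem : ∀ B ∈ 𝒜, (B.subgroupOf (normalizerIn S X)).map κ₁ ≤ Cfsg.pCore p M ↔ B ≤ R := by
        intro B hB
        rw [Subgroup.map_le_iff_le_comap]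
        constructor
        · exact fun h b hb => ⟨⟨b, hAT B hB hb⟩, h hb, rfl⟩
        · intro h b hb
          obtain ⟨b', hb', he⟩ := h hb
          rwa [show b' = b from Subtype.ext he] at hb'
      have hset : {A' | A' ∈ 𝒜' ∧ A' ≤ Cfsg.pCore p M} =
          (fun B : Subgroup Ω => (B.subgroupOf (normalizerIn S X)).map κ₁) '' {B | B ∈ 𝒜 ∧ B ≤ R} := by
        ext A'
        constructor
        · rintro ⟨⟨B, hB, rfl⟩, hBQ⟩
          exact ⟨B, ⟨hB, (hmem B hB).1 hBQ⟩, rfl⟩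
        · rintro ⟨B, ⟨hB, hBR⟩, rfl⟩
          exact ⟨⟨B, hB, rfl⟩, (hmem B hB).2 hBR⟩
      rw [hset, iInf_map_family hκ₁i (𝒮 := {B | B ∈ 𝒜 ∧ B ≤ R}) ⟨A, hA, (hmem A hA).1 hAQ⟩
        fun B hB => hAT B hB.1]
      refine ⟨?_⟩
      rintro _ ⟨t, ht, rfl⟩ m
      haveI := CfsgLib.Solvable.pCore_normal p M
      have hmR : ∀ r : R, (m : L) * κ ⟨r, hRT r.2⟩ * (m : L)⁻¹ ∈ κ.range := by
        rintro ⟨_, r, hr, rfl⟩
        have := CfsgLib.Solvable.pCore_le_sylow P (Subgroup.Normal.conj_mem (H := Cfsg.pCore p M) inferInstance (κ₁ r) hr m)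
        exact (hPv _).1 this
      obtain ⟨φ, hφ, hφv⟩ := realized_subgroup_conj hM.2.1 hRT (m : L) hmR
      have hφR : ∀ r : R, φ r ∈ R := by
        rintro ⟨_, r, hr, rfl⟩
        refine ⟨⟨_, map_mem hφ _⟩, ?_, rfl⟩
        show κ₁ _ ∈ Cfsg.pCore p M
        have he : κ₁ ⟨φ ⟨_, r, hr, rfl⟩, map_mem hφ _⟩ = m * κ₁ r * m⁻¹ :=
          Subtype.ext (hφv ⟨_, r, hr, rfl⟩ (map_mem hφ _))
        rw [he]
        exact Subgroup.Normal.conj_mem (H := Cfsg.pCore p M) inferInstance (κ₁ r) hr m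
      have : Finite R := finite_of_le hRT
      have hRS : R ≤ S := hRT.trans hTS.le
      have hφF : φ ∈ F.Hom R := hφ.1
      obtain ⟨α, hα, hαv⟩ := exists_aut hφF (range_eq_of_le (hom_inj hφF) hφR)
      have htR : (t : Ω) ∈ R := by
        refine (hmem A hA).1 hAQ ?_
        exact (iInf₂_le (f := fun (B : Subgroup Ω) (_ : B ∈ {B | B ∈ 𝒜 ∧ B ≤ R}) => B) A
          ⟨hA, (hmem A hA).1 hAQ⟩) ht
      have h2 := hinv R hRS ⟨A, hA, (hmem A hA).1 hAQ⟩ α hα ⟨t, htR⟩ ht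
      refine ⟨⟨φ ⟨t, htR⟩, map_mem hφ _⟩, ?_, Subtype.ext (hφv ⟨t, htR⟩ (map_mem hφ _))⟩
      show φ ⟨(t : Ω), htR⟩ ∈ (⨅ B ∈ {B | B ∈ 𝒜 ∧ B ≤ R}, B)
      rw [← hαv]
      exact h2
    · intro B hBP hB3 hex
      set Bt := B.comap κ₁ with hBt
      have hBeq : Bt.map κ₁ = B := Subgroup.map_comap_eq_self fun x hx => by
        obtain ⟨t, ht⟩ := (hPv x).1 (hBP hx)
        exact ⟨t, Subtype.ext ht⟩
      set B₀ := Bt.map (normalizerIn S X).subtype with hB₀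
      have hbr : ∀ A ∈ 𝒜, (⁅B, B⁆ ≤ (A.subgroupOf (normalizerIn S X)).map κ₁ ↔ ⁅B₀, B₀⁆ ≤ A) ∧
          (B ≤ (A.subgroupOf (normalizerIn S X)).map κ₁ ↔ B₀ ≤ A) := by
        intro A hA
        constructor
        · rw [← hBeq, ← Subgroup.map_commutator, Subgroup.map_le_map_iff_of_injective hκ₁i, hB₀,
            ← Subgroup.map_commutator, Subgroup.map_le_iff_le_comap]
          rfl
        · rw [← hBeq, Subgroup.map_le_map_iff_of_injective hκ₁i, hB₀, Subgroup.map_le_iff_le_comap]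
          rfl
      obtain ⟨_, ⟨A, hA, rfl⟩, hA1, hA2⟩ := hex
      have h3 : ⁅⁅B₀, B₀⁆, B₀⁆ = ⊥ := by
        rw [hB₀, ← Subgroup.map_commutator, ← Subgroup.map_commutator,
          Subgroup.map_eq_bot_iff_of_injective _ (normalizerIn S X).subtype_injective]
        rw [← hBeq, ← Subgroup.map_commutator, ← Subgroup.map_commutator,
          Subgroup.map_eq_bot_iff_of_injective _ hκ₁i] at hB3
        exact hB3
      obtain ⟨A', hA', hA'1, hA'2, hA'3⟩ := hrep B₀ ((Subgroup.map_subtype_le _).trans hTS.le) h3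
        ⟨A, hA, (hbr A hA).1.1 hA1, fun h => hA2 ((hbr A hA).2.2 h)⟩
      refine ⟨_, ⟨A', hA', rfl⟩, (hbr A' hA').1.2 hA'1, fun h => hA'2 ((hbr A' hA').2.1 h),
        fun b hb => ?_⟩
      rw [← hBeq] at hb
      obtain ⟨t, ht, rfl⟩ := hb
      refine Subgroup.mem_normalizer_fintype ?_
      rintro _ ⟨u, hu, rfl⟩
      refine ⟨t * u * t⁻¹, (Subgroup.mem_normalizer_iff.1 (hA'3 ⟨t, ht, rfl⟩) u).1 hu, ?_⟩
      rw [map_mul, map_mul, map_inv]
  apply hMp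
  refine hNp.to_le fun x hx => ?_
  refine Subgroup.mem_normalizer_fintype ?_
  rintro _ ⟨t, ht, rfl⟩
  obtain ⟨u, hu, he⟩ := hnorm.conj_mem (κ₁ t) ⟨t, ht, rfl⟩ ⟨x, hx⟩
  exact ⟨u, hu, congrArg Subtype.val he⟩

end CfsgLib.FusionControl
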