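import Cfsg.Agent.Lib.Fusion.GlaubermanThompson
import Cfsg.Agent.Lib.PLocal.QuadraticAbelian

/-!
# An axiomatic form of the replacement argument in a group with a maximal Sylow subgroup
-/

set_option autoImplicit false
set_option linter.style.haveILetI false

namespace CfsgLib.FusionControl

open Subgroup CfsgLib.ZJCenter
open scoped commutatorElement

universe u

variable {M : Type u} [Group M] [Finite M] {p : ℕ} [Fact p.Prime]

/-- With a maximal Sylow subgroup, elements acting quadratically on a normal `p`-subgroup with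
`p`-group centralizer lie in the `p`-core. -/
theorem quad_mem_pCore (hp2 : p ≠ 2) (P : Sylow p M)
    (hmax : ∀ H : Subgroup M, (P : Subgroup M) ≤ H → H = (P : Subgroup M) ∨ H = ⊤) {B : Subgroup M}
    [B.Normal] (hBQ : B ≤ Cfsg.pCore p M) (hCB : centralizer (B : Set M) ≤ Cfsg.pCore p M) {a : M}
    (ha : a ∈ (P : Subgroup M)) (hq : ⁅⁅B, zpowers a⁆, zpowers a⁆ = ⊥) : a ∈ Cfsg.pCore p M := by
  set Q := Cfsg.pCore p M with hQ
  haveI : Q.Normal := CfsgLib.Solvable.pCore_normal p M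
  have hQp : IsPGroup p Q := CfsgLib.Solvable.pCore_isPGroup p M
  by_cases hPQ : (P : Subgroup M) ≤ Q
  · exact hPQ ha
  set f := QuotientGroup.mk' Q with hf
  have hfs := QuotientGroup.mk'_surjective Q
  have hker : f.ker = Q := QuotientGroup.ker_mk' Q
  set Pb : Sylow p (M ⧸ Q) := P.mapSurjective hfs with hPb
  have hPbv : (Pb : Subgroup (M ⧸ Q)) = (P : Subgroup M).map f := Sylow.coe_mapSurjective _ _
  have hPbne : (Pb : Subgroup (M ⧸ Q)) ≠ ⊥ := fun h => hPQ fun x hx => by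
    have h1 : f x ∈ (Pb : Subgroup (M ⧸ Q)) := hPbv.ge ⟨x, hx, rfl⟩
    rw [h, mem_bot] at h1
    exact (QuotientGroup.eq_one_iff x).1 h1
  have hpcb : ∀ N : Subgroup (M ⧸ Q), N.Normal → IsPGroup p N → N = ⊥ := by
    intro N hN hNp
    have h1 : N.comap f ≤ Q := CfsgLib.Solvable.le_pCore (hN.comap f)
      (hNp.comap_of_ker_isPGroup f (by rw [hker]; exact hQp))
    rw [← map_comap_eq_self_of_surjective hfs N, eq_bot_iff]
    exact (map_mono h1).trans ((map_eq_bot_iff Q).2 hker.ge).le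
  have hmaxb : ∀ H : Subgroup (M ⧸ Q), (Pb : Subgroup (M ⧸ Q)) ≤ H →
      H = (Pb : Subgroup (M ⧸ Q)) ∨ H = ⊤ := by
    intro H hH
    rcases hmax (H.comap f) (map_le_iff_le_comap.1 (hPbv.ge.trans hH)) with h | h
    · left
      rw [hPbv, ← h, map_comap_eq_self_of_surjective hfs]
    · right
      rw [← map_comap_eq_self_of_surjective hfs H, h, map_top_of_surjective _ hfs]
  have hnpc : Cfsg.HasNormalPComplement p (M ⧸ Q) := by
    refine CfsgLib.GlaubermanThompson.hasNormalPComplement_of_normalizer_zj hp2 (e := 0) (Or.inl rfl) Pb ?_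
    rcases hmaxb (normalizer (zj 0 (Pb : Subgroup (M ⧸ Q)) : Set (M ⧸ Q)))
        (le_normalizer.trans (normalizer_le_normalizer_zj 0 _)) with h | h
    · rw [h]
      obtain ⟨k, hk⟩ := IsPGroup.iff_card.1 Pb.isPGroup'
      exact CfsgLib.NPC.hasNormalPComplement_iff.2 ⟨⊥, inferInstance, by simp, k, by
        rw [index_bot]; exact hk⟩
    · exact absurd (hpcb _ (normalizer_eq_top_iff.1 h) (Pb.isPGroup'.to_le (zj_le 0 _)))
        (zj_ne_bot (Or.inl rfl) Pb.isPGroup' hPbne)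
  obtain ⟨Kb, hKbn, hKbco, k, hkk⟩ := CfsgLib.NPC.hasNormalPComplement_iff.1 hnpc
  haveI := hKbn
  have hinf : ∀ x ∈ Kb, x ∈ (Pb : Subgroup (M ⧸ Q)) → x = 1 := by
    intro x hxK hxP
    obtain ⟨j, hj⟩ := Pb.isPGroup' ⟨x, hxP⟩
    exact orderOf_eq_one_iff.1 (Nat.eq_one_of_dvd_coprimes (hKbco.pow_right j)
      (orderOf_dvd_natCard _ hxK) (orderOf_dvd_of_pow_eq_one (congrArg Subtype.val hj)))
  have hirr : ∀ R : Subgroup (M ⧸ Q), R ≤ Kb →
      (Pb : Subgroup (M ⧸ Q)) ≤ normalizer (R : Set (M ⧸ Q)) → R = ⊥ ∨ R = Kb := by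
    intro R hRK hPR
    rcases hmaxb (R ⊔ (Pb : Subgroup (M ⧸ Q))) le_sup_right with h | h
    · exact Or.inl ((eq_bot_iff_forall _).2 fun x hx => hinf x (hRK hx) (h.le (mem_sup_left hx)))
    · refine Or.inr (le_antisymm hRK fun x hx => ?_)
      have hx' : x ∈ (↑(R ⊔ (Pb : Subgroup (M ⧸ Q))) : Set (M ⧸ Q)) :=
        h.ge (mem_top x)
      rw [Subgroup.coe_mul_of_right_le_normalizer_left R _ hPR] at hx'
      obtain ⟨r, hr, y, hy, rfl⟩ := hx'
      have hyK : y ∈ Kb := by simpa using Kb.mul_mem (Kb.inv_mem (hRK hr)) hx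
      show r * y ∈ R
      rw [hinf y hyK hy, mul_one]
      exact hr
  have hKb1 : Kb ≠ ⊥ := by
    intro h
    rw [h, index_bot] at hkk
    exact hPbne (le_bot_iff.1 (le_top.trans
      (hpcb ⊤ inferInstance ((IsPGroup.of_card hkk).to_subgroup ⊤)).le))
  have hab : ⁅Kb, Kb⁆ = ⊥ := by
    have hKq : ∃ q : ℕ, q.Prime ∧ IsPGroup q Kb := by
      obtain ⟨q, hq, hqd⟩ := Nat.exists_prime_and_dvd
        (fun h : Nat.card Kb = 1 => hKb1 (eq_bot_of_card_eq _ h))
      haveI : Fact q.Prime := ⟨hq⟩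
      haveI : Group.IsNilpotent (Pb : Subgroup (M ⧸ Q)) := Pb.isPGroup'.isNilpotent
      obtain ⟨i, hi⟩ := IsPGroup.iff_card.1 Pb.isPGroup'
      obtain ⟨S, hS⟩ := CfsgLib.Solvable.exists_invariant_sylow (A := (Pb : Subgroup (M ⧸ Q))) (K := Kb)
        (by rw [normalizer_eq_top]; exact le_top) (by rw [hi]; exact hKbco.symm.pow_left i)
        (Or.inl inferInstance) q
      refine ⟨q, hq, ?_⟩
      rcases hirr ((S : Subgroup Kb).map Kb.subtype) (map_subtype_le _) hS with h | h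
      · exact absurd ((map_eq_bot_iff_of_injective _ Kb.subtype_injective).1 h) (S.ne_bot_of_dvd_card hqd)
      · exact h ▸ S.isPGroup'.map _
    obtain ⟨q, hq, hKq⟩ := hKq
    haveI : Fact q.Prime := ⟨hq⟩
    rcases hirr ⁅Kb, Kb⁆ (commutator_le_left Kb Kb) (by rw [normalizer_eq_top]; exact le_top) with h | h
    · exact h
    · exfalso
      haveI : Nontrivial Kb := (Subgroup.nontrivial_iff_ne_bot _).2 hKb1
      apply CfsgLib.PGroup.frattini_ne_top (G := Kb)
      apply top_le_iff.1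
      refine le_trans (le_of_eq ?_) (CfsgLib.PGroup.commutator_le_frattini hKq)
      apply map_injective Kb.subtype_injective
      rw [map_subtype_commutator, ← MonoidHom.range_eq_map, range_subtype, h]
  set K := Kb.comap f with hK
  haveI : K.Normal := hKbn.comap f
  have hKmap : K.map f = Kb := map_comap_eq_self_of_surjective hfs Kb
  have hQK : Q ≤ K := hker ▸ ker_le_comap f Kb
  have hKab : ⁅K, K⁆ ≤ Q := by
    have := hab
    rw [← hKmap, ← map_commutator, Subgroup.map_eq_bot_iff, hker] at this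
    exact this
  have hrel : Q.relIndex K = Nat.card Kb := by
    have h1 : ((⊥ : Subgroup (M ⧸ Q)).comap f).relIndex K =
        (⊥ : Subgroup (M ⧸ Q)).relIndex (K.map f) := relIndex_comap _ _ _
    rwa [MonoidHom.comap_bot, hker, hKmap, relIndex_bot_left] at h1
  have hcom : ∀ y ∈ Kb, f a * y = y * f a := by
    intro y hy
    obtain ⟨k, rfl⟩ := hfs y
    have hg : ⁅a, k⁆ ∈ K := K.mul_mem (Normal.conj_mem inferInstance k hy a) (K.inv_mem hy)
    have hgm : ⁅a, k⁆ ^ Q.relIndex K ∈ Q := Subgroup.pow_index_mem (Q.subgroupOf K) ⟨_, hg⟩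
    obtain ⟨w, hw, hwQ⟩ := CfsgLib.PLoc.exists_coprime_rep (Q := Q) (g := ⁅a, k⁆)
      (show (Q.relIndex K).Coprime p by rw [hrel]; exact hKbco) hgm
    have hwC := CfsgLib.PLoc.coprime_mem_centralizer_of_quadratic hp2 hQp hQK
      (by rw [hrel]; exact hKbco) hKab (U := B) inferInstance hBQ hq hy hw hwQ
    have hgQ : ⁅a, k⁆ ∈ Q := by
      have := Q.mul_mem (hCB hwC) (Q.inv_mem hwQ)
      simpa [mul_assoc] using this
    have h1 : f ⁅a, k⁆ = 1 := (QuotientGroup.eq_one_iff _).2 hgQ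
    rwa [map_commutatorElement, commutatorElement_eq_one_iff_mul_comm] at h1
  set X := (Pb : Subgroup (M ⧸ Q)) ⊓ centralizer (Kb : Set (M ⧸ Q)) with hX
  have hPbn : (Pb : Subgroup (M ⧸ Q)) ≤ normalizer (X : Set (M ⧸ Q)) := fun g hg =>
    mem_normalizer_fintype fun x hx => ⟨(Pb : Subgroup (M ⧸ Q)).mul_mem ((Pb : Subgroup (M ⧸ Q)).mul_mem hg hx.1) ((Pb : Subgroup (M ⧸ Q)).inv_mem hg),
      Normal.conj_mem (inferInstance : (centralizer (Kb : Set (M ⧸ Q))).Normal) x hx.2 g⟩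
  have hKbX : Kb ≤ normalizer (X : Set (M ⧸ Q)) := fun g hg =>
    mem_normalizer_fintype fun x hx => by
      rw [mem_centralizer_iff.1 hx.2 g hg, mul_inv_cancel_right]
      exact hx
  have hXn : X.Normal := by
    rw [← normalizer_eq_top_iff]
    rcases hmaxb _ hPbn with h | h
    · exact absurd ((eq_bot_iff_forall _).2 fun x hx => hinf x hx (h.le (hKbX hx))) hKb1
    · exact h
  have h2 : f a ∈ X := ⟨hPbv.ge ⟨a, ha, rfl⟩, mem_centralizer_iff.2 fun y hy => (hcom y hy).symm⟩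
  rw [hpcb X hXn (Pb.isPGroup'.to_le inf_le_left), mem_bot] at h2
  exact (QuotientGroup.eq_one_iff a).1 h2

/-- **The axiomatic replacement argument.** -/
theorem normal_of_axiomatic (hp2 : p ≠ 2) (P : Sylow p M)
    (hmax : ∀ H : Subgroup M, (P : Subgroup M) ≤ H → H = (P : Subgroup M) ∨ H = ⊤)
    (hc : centralizer (Cfsg.pCore p M : Set M) ≤ Cfsg.pCore p M)
    (𝒜 : Set (Subgroup M)) (h𝒜 : ∀ A ∈ 𝒜, A ≤ (P : Subgroup M) ∧ IsMulCommutative A)
    (hne : 𝒜.Nonempty) {I : Subgroup M} (hI : I = ⨅ A ∈ 𝒜, A)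
    (hPI : (P : Subgroup M) ≤ normalizer (I : Set M))
    (hinv : (∃ A ∈ 𝒜, A ≤ Cfsg.pCore p M) →
      (⨅ A ∈ {A | A ∈ 𝒜 ∧ A ≤ Cfsg.pCore p M}, A).Normal)
    (hrep : ∀ B : Subgroup M, B ≤ (P : Subgroup M) → ⁅⁅B, B⁆, B⁆ = ⊥ →
      (∃ A ∈ 𝒜, ⁅B, B⁆ ≤ A ∧ ¬ B ≤ A) →
      ∃ A ∈ 𝒜, ⁅B, B⁆ ≤ A ∧ ¬ B ≤ A ∧ B ≤ normalizer (A : Set M)) :
    I.Normal := by
  set Q := Cfsg.pCore p M with hQ
  haveI : Q.Normal := CfsgLib.Solvable.pCore_normal p M
  have hQp : IsPGroup p Q := CfsgLib.Solvable.pCore_isPGroup p M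
  have hQP : Q ≤ (P : Subgroup M) := CfsgLib.Solvable.pCore_le_sylow P
  obtain ⟨A₀, hA₀⟩ := hne
  have hIA : ∀ A ∈ 𝒜, I ≤ A := fun A hA => hI.le.trans (iInf₂_le A hA)
  have hIP : I ≤ (P : Subgroup M) := (hIA A₀ hA₀).trans (h𝒜 A₀ hA₀).1
  have hquadA : ∀ (B A : Subgroup M), IsMulCommutative A → B ≤ normalizer (A : Set M) →
      ∀ a ∈ A, ⁅⁅B, zpowers a⁆, zpowers a⁆ = ⊥ := by
    intro B A hA hBA a ha
    have hza : zpowers a ≤ A := zpowers_le.2 ha
    have h1 : ⁅B, zpowers a⁆ ≤ A := by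
      rw [commutator_le]
      intro b hb x hx
      rw [commutatorElement_def]
      exact A.mul_mem ((mem_normalizer_iff.1 (hBA hb) x).1 (hza hx)) (A.inv_mem (hza hx))
    exact le_bot_iff.1 ((commutator_mono h1 hza).trans (Subgroup.commutator_self_eq_bot_iff.mpr hA).le)
  have hIc : IsMulCommutative I := by
    refine IsMulCommutative.of_setLike_mul_comm fun x hx y hy => ?_
    have := (h𝒜 A₀ hA₀).2
    exact setLike_mul_comm (s := A₀) (hIA A₀ hA₀ hx) (hIA A₀ hA₀ hy)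
  have hIQ : I ≤ Q := fun a ha => quad_mem_pCore hp2 P hmax (B := Q) le_rfl hc (hIP ha)
    (hquadA Q I hIc (hQP.trans hPI) a ha)
  suffices main : ∀ B : Subgroup M, B.Normal → B ≤ Q → (I ⊓ B).Normal by
    have := main Q inferInstance le_rfl
    rwa [inf_eq_left.2 hIQ] at this
  intro B
  induction B using (wellFounded_lt (α := Subgroup M)).induction with
  | h B ih =>
  intro hBn hBQ
  have := hBn
  set C := normalClosure ((I ⊓ B : Subgroup M) : Set M) with hC
  have hCB : C ≤ B := normalClosure_le_normal fun x hx => hx.2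
  rcases eq_or_lt_of_le hCB with hCeq | hlt
  swap
  · have h1 := ih C hlt normalClosure_normal (hCB.trans hBQ)
    rwa [show I ⊓ C = I ⊓ B from le_antisymm (inf_le_inf_left _ hCB)
      (le_inf inf_le_left subset_normalClosure)] at h1
  by_cases hB1 : B = ⊥
  · rw [hB1, inf_bot_eq]; infer_instance
  have hBp : IsPGroup p B := hQp.to_le hBQ
  have hlt' : ⁅B, B⁆ < B := lt_of_le_of_ne (commutator_le_left B B)
    (CfsgLib.GlaubermanThompson.commutator_ne_self hBp le_rfl hB1)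
  haveI hI1 : (I ⊓ ⁅B, B⁆).Normal := ih _ hlt' inferInstance (hlt'.le.trans hBQ)
  -- `[B, B]` lies in `I`
  have hBB : ⁅B, B⁆ ≤ I ⊓ ⁅B, B⁆ := by
    set g := QuotientGroup.mk' (I ⊓ ⁅B, B⁆)
    haveI : (B.map g).Normal := hBn.map g (QuotientGroup.mk'_surjective _)
    have hle : B ≤ (centralizer ((B.map g : Subgroup _) : Set _)).comap g := by
      conv_lhs => rw [← hCeq]
      refine normalClosure_le_normal ?_
      rintro x ⟨hxI, hxB⟩
      refine mem_centralizer_iff.2 ?_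
      rintro _ ⟨b, hb, rfl⟩
      have h1 : ⁅b, x⁆ ∈ I ⊓ ⁅B, B⁆ := by
        refine ⟨?_, commutator_mem_commutator hb hxB⟩
        rw [commutatorElement_def]
        exact I.mul_mem ((mem_normalizer_iff.1 (hPI (hQP (hBQ hb))) x).1 hxI) (I.inv_mem hxI)
      have h2 : g ⁅b, x⁆ = 1 := (QuotientGroup.eq_one_iff _).2 h1
      rwa [map_commutatorElement, commutatorElement_eq_one_iff_mul_comm] at h2
    rw [commutator_le]
    intro x hx y hy
    refine (QuotientGroup.eq_one_iff _).1 ?_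
    show g ⁅x, y⁆ = 1
    rw [map_commutatorElement, commutatorElement_eq_one_iff_mul_comm]
    exact mem_centralizer_iff.1 (hle hy) _ ⟨x, hx, rfl⟩
  have hclass : ⁅⁅B, B⁆, B⁆ = ⊥ := by
    rw [commutator_eq_bot_iff_le_centralizer]
    refine (Subgroup.le_centralizer_iff).1 ?_
    conv_lhs => rw [← hCeq]
    refine normalClosure_le_normal ?_
    rintro x ⟨hxI, -⟩
    exact mem_centralizer_iff.2 fun y hy => setLike_mul_comm (s := I) ((hBB hy).1) hxI
  by_cases hCQ : centralizer (B : Set M) ≤ Q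
  · suffices hBI : B ≤ I by
      rw [inf_eq_right.2 hBI]; exact hBn
    refine (le_iInf₂ fun A hA => ?_).trans hI.ge
    by_contra hAB
    obtain ⟨A', hA', hA'1, hA'2, hA'3⟩ := hrep B (hBQ.trans hQP) hclass
      ⟨A, hA, (hBB.trans inf_le_left).trans (hIA A hA), hAB⟩
    have hA'Q : A' ≤ Q := fun a ha => quad_mem_pCore hp2 P hmax hBQ hCQ ((h𝒜 A' hA').1 ha)
      (hquadA B A' (h𝒜 A' hA').2 hA'3 a ha)
    haveI := hinv ⟨A', hA', hA'Q⟩
    refine hA'2 ?_
    conv_lhs => rw [← hCeq]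
    refine (normalClosure_le_normal (N := ⨅ A ∈ {A | A ∈ 𝒜 ∧ A ≤ Q}, A) ?_).trans
      (iInf₂_le A' (show A' ∈ {A | A ∈ 𝒜 ∧ A ≤ Q} from ⟨hA', hA'Q⟩))
    exact fun x hx => (le_iInf₂ (a := I) fun A'' hA'' => hIA A'' hA''.1) hx.1
  · rw [← normalizer_eq_top_iff]
    have hPn : (P : Subgroup M) ≤ normalizer ((I ⊓ B : Subgroup M) : Set M) := fun g hg =>
      mem_normalizer_fintype fun x hx => ⟨(mem_normalizer_iff.1 (hPI hg) x).1 hx.1,
        hBn.conj_mem x hx.2 g⟩
    rcases hmax _ hPn with h | h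
    · exfalso
      apply hCQ
      have hle : centralizer (B : Set M) ≤ (P : Subgroup M) := fun c hc' => h.le
        (mem_normalizer_fintype fun x hx => by
          rw [← mem_centralizer_iff.1 hc' x hx.2, mul_inv_cancel_right]
          exact hx)
      exact CfsgLib.Solvable.le_pCore inferInstance (P.isPGroup'.to_le hle)
    · exact h

end CfsgLib.FusionControl
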