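import Cfsg.Agent.Lib.FusionControl.NormalStep

/-!
# Central elements in constrained local systems
-/

set_option autoImplicit false

namespace CfsgLib.FusionControl

open Cfsg Cfsg.FusionSystem CfsgLib.Fusion

universe u
variable {Ω : Type u} [Group Ω] {S T : Subgroup Ω} {F : Cfsg.FusionSystem S}
variable {E : Cfsg.FusionSystem T} {p : ℕ} {W : ∀ (Q : Type u) [Group Q], Subgroup Q}

/-- Central elements of `S` lie in the core of a constrained local system. -/
theorem center_mem_core [Finite S] (hE : IsLocal F p E) (hC : centralizerIn T E.core ≤ E.core)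
    {a : Ω} (ha : a ∈ S) (hc : a ∈ Subgroup.centralizer (S : Set Ω)) : a ∈ E.core :=
  (hE.core_centric hC).2.2 _ (isConj_refl F (hE.core_centric hC).2.1)
    ⟨ha, Subgroup.centralizer_le (SetLike.coe_subset_coe.2 (hE.core_centric hC).2.1) hc⟩

/-- A map of a centralizer system fixes the centralized elements in its source. -/
theorem centralizerHom_fix {A P : Subgroup Ω} {φ : P →* Ω} (h : φ ∈ F.centralizerHom A P) {a : Ω}
    (haA : a ∈ A) (haP : a ∈ P) : φ ⟨a, haP⟩ = a := by
  obtain ⟨-, -, -, ψ, -, hag, hfix⟩ := h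
  rw [← hag ⟨a, haP⟩]
  exact hfix ⟨a, haA⟩

/-- Automorphisms of the core centralize `a` as soon as those normalizing the chosen subgroup do
and the image of `a` is then central modulo `Z`. -/
theorem fix_of_central_mod [Finite S] [Fact p.Prime] (hS : IsPGroup p S)
    (hE : IsLocal F p E) {Z : Subgroup Ω} (hZ : E.IsNormal Z) (hp : IsPGroup p (E.autGroup Z))
    (hlt : Z < E.core) (D : CoreData F E p E.core) {a : E.core}
    (haS : (a : Ω) ∈ Subgroup.centralizer (S : Set Ω)) [hn : ((Z.subgroupOf T).map D.ι).Normal]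
    (hcentral : ∀ x : D.L ⧸ (Z.subgroupOf T).map D.ι,
      x * QuotientGroup.mk' _ (D.ι (Subgroup.inclusion D.hle a)) =
        QuotientGroup.mk' _ (D.ι (Subgroup.inclusion D.hle a)) * x)
    (l : D.L) : (D.τ l : MulAut E.core) a = a := by
  have := hE.finite
  have hT := hE.isPGroup hS
  have : Finite Z := finite_of_le hZ.1
  let K : Subgroup D.L :=
    { carrier := {g | (D.τ g : MulAut E.core) a = a}
      one_mem' := by simp
      mul_mem' := fun {g h} hg hh => by
        show (D.τ (g * h) : MulAut E.core) a = a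
        rw [map_mul, Subgroup.coe_mul, MulAut.mul_apply, hh, hg]
      inv_mem' := fun {g} hg => by
        show (D.τ g⁻¹ : MulAut E.core) a = a
        conv_lhs => rw [← hg]
        rw [map_inv, Subgroup.coe_inv, MulAut.inv_def]
        exact MulEquiv.symm_apply_apply _ _ }
  suffices hK : K = ⊤ from hK.ge (Subgroup.mem_top l)
  have hrange : D.ι.range ≤ K := by
    rintro _ ⟨t, rfl⟩
    refine Subtype.ext ?_
    rw [D.τ_ι, Subgroup.mem_centralizer_iff.1 haS _ (hE.le_S t.2), mul_inv_cancel_right]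
  have hco : ∀ g : D.L, Nat.Coprime (orderOf g) p → g ∈ K := by
    intro g hg
    have h1 := hcentral (QuotientGroup.mk' _ g)
    rw [← map_mul, ← map_mul] at h1
    obtain ⟨z, hz, hzv⟩ := QuotientGroup.eq.1 h1.symm
    set u := D.ι (Subgroup.inclusion D.hle a)
    set v := Subgroup.inclusion D.hle ((D.τ g : MulAut E.core) a)
    have hv : g * u = D.ι v * g := by
      rw [← D.equiv g a, inv_mul_cancel_right]
    -- `τ g a = a * z'` with `z' ∈ Z`
    have hd : (a : Ω)⁻¹ * (((D.τ g : MulAut E.core) a : E.core) : Ω) ∈ Z := by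
      have h2 : D.ι ((Subgroup.inclusion D.hle a)⁻¹ * v) = g * D.ι z * g⁻¹ := by
        rw [hzv, map_mul, map_inv, hv]
        simp [mul_assoc]
        rfl
      have h3 : g * D.ι z * g⁻¹ ∈ (Z.subgroupOf T).map D.ι := hn.conj_mem _ ⟨z, hz, rfl⟩ g
      rw [← h2] at h3
      obtain ⟨w, hw, hwv⟩ := h3
      have h4 : w = (Subgroup.inclusion D.hle a)⁻¹ * v := D.model.2.1.1 hwv
      rw [h4] at hw
      exact hw
    set c : Z := ⟨_, hd⟩
    have hy : ∀ k : ℕ, (((D.τ g : MulAut E.core) ^ k) a : E.core).1 = (a : Ω) * (c : Ω) ^ k := by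
      intro k
      induction k with
      | zero => simp
      | succ k ih =>
        have he : ((D.τ g : MulAut E.core) ^ k) a = a * (Subgroup.inclusion hlt.le c) ^ k :=
          Subtype.ext (ih.trans (by simp))
        rw [pow_succ', MulAut.mul_apply, he, map_mul, map_pow, Subgroup.coe_mul,
          SubgroupClass.coe_pow, D.fix_of_coprime hZ hlt.le hp hg c, pow_succ', ← mul_assoc]
        congr 1
        exact (mul_inv_cancel_left (a : Ω) _).symm
    have h1 := hy (orderOf g)
    rw [← SubgroupClass.coe_pow, ← map_pow, pow_orderOf_eq_one, map_one] at h1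
    have hc1 : (c : Ω) ^ orderOf g = 1 := mul_left_cancel (h1.symm.trans (mul_one _).symm)
    obtain ⟨j, hj⟩ := hT (Subgroup.inclusion hZ.1 c)
    have hcj : (c : Ω) ^ p ^ j = 1 := congrArg Subtype.val hj
    have hc0 : (c : Ω) = 1 := orderOf_eq_one_iff.1 (Nat.eq_one_of_dvd_coprimes (hg.pow_right j)
      (orderOf_dvd_of_pow_eq_one hc1) (orderOf_dvd_of_pow_eq_one hcj))
    exact Subtype.ext (inv_mul_eq_one.1 hc0).symm
  by_contra hne
  obtain ⟨q, hq, hqd⟩ := Nat.exists_prime_and_dvd (mt Subgroup.index_eq_one.1 hne)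
  have : Fact q.Prime := ⟨hq⟩
  by_cases hqp : q = p
  · subst hqp
    obtain ⟨P₀, hP₀⟩ := D.model.2.2.1
    exact P₀.not_dvd_index (hqd.trans (Subgroup.index_dvd_of_le (hP₀.le.trans hrange)))
  · obtain ⟨Q⟩ : Nonempty (Sylow q D.L) := inferInstance
    refine Q.not_dvd_index (hqd.trans (Subgroup.index_dvd_of_le fun x hx => hco x ?_))
    obtain ⟨k, hk⟩ := Q.isPGroup' ⟨x, hx⟩
    exact Nat.Coprime.coprime_dvd_left (orderOf_dvd_of_pow_eq_one (congrArg Subtype.val hk))
      (((Nat.coprime_primes hq Fact.out).2 hqp).pow_left k)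

end CfsgLib.FusionControl
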