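import Cfsg.Agent.Lib.PLocal.GlaubermanReplacement
import Cfsg.Agent.Lib.PLocal.Families
import Mathlib.RingTheory.Nilpotent.Basic
import Mathlib.Data.Nat.Choose.Dvd
import Mathlib.Algebra.Ring.GeomSum

/-!
# Normal subgroups centralizing powers of an abelian normal `p`-subgroup

`exists_normal_fix`: if some `p`-element outside `Q` acts on the abelian normal subgroup `V`
trivially enough, a normal subgroup not meeting the Sylow subgroup in `Q` centralizes `V ^ k`.
-/

set_option autoImplicit false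

namespace CfsgLib.FusionControl

open Subgroup
open scoped commutatorElement

variable {H : Type*} [Group H]

theorem conj_eq_of_commutator {a v : H} (h : ⁅a, v⁆ = 1) : a * v * a⁻¹ = v :=
  mul_inv_eq_one.1 (by simpa [commutatorElement_def] using h)

/-- An element of order prime to `p` fixing the elements of order `p` of a normal abelian
`p`-subgroup centralizes it. -/
theorem commute_of_fix_omega {p : ℕ} [Fact p.Prime] {V : Subgroup H} [V.Normal]
    (hVc : IsMulCommutative V) (hV : IsPGroup p V) {m : H} (hm : Nat.Coprime (orderOf m) p)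
    (h : ∀ v ∈ V, v ^ p = 1 → Commute m v) : ∀ v ∈ V, Commute m v := by
  have hV' := ‹V.Normal›
  suffices main : ∀ (k : ℕ) (v : H), v ∈ V → v ^ p ^ k = 1 → Commute m v by
    intro v hv
    obtain ⟨k, hk⟩ := hV ⟨v, hv⟩
    exact main k v hv (congrArg Subtype.val hk)
  intro k
  induction k with
  | zero =>
    intro v _ hv
    rw [pow_zero, pow_one] at hv
    exact hv ▸ Commute.one_right m
  | succ k ih =>
    intro v hv hk
    have h1 : Commute m (v ^ p) := ih _ (V.pow_mem hv p) (by rwa [← pow_mul, ← pow_succ'])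
    set c := v⁻¹ * (m * v * m⁻¹) with hc
    have hcV : c ∈ V := V.mul_mem (V.inv_mem hv) (hV'.conj_mem v hv m)
    have hcp : c ^ p = 1 := by
      have hcomm : Commute v⁻¹ (m * v * m⁻¹) :=
        Subgroup.mul_comm_of_mem_isMulCommutative V (V.inv_mem hv) (hV'.conj_mem v hv m)
      rw [hc, hcomm.mul_pow, conj_pow, h1.eq, mul_inv_cancel_right, inv_pow, inv_mul_cancel]
    have hmc : Commute m c := h c hcV hcp
    have hn : ∀ n : ℕ, m ^ n * v * (m ^ n)⁻¹ = v * c ^ n := by
      intro n
      induction n with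
      | zero => simp
      | succ n ih =>
        calc m ^ (n + 1) * v * (m ^ (n + 1))⁻¹ = m * (m ^ n * v * (m ^ n)⁻¹) * m⁻¹ := by
              rw [pow_succ']; simp [mul_assoc]
          _ = m * v * m⁻¹ * (m * c ^ n * m⁻¹) := by rw [ih]; simp [mul_assoc]
          _ = v * c * c ^ n := by
              rw [(hmc.pow_right n).eq, mul_inv_cancel_right]
              congr 1
              rw [hc, mul_inv_cancel_left]
          _ = v * c ^ (n + 1) := by rw [pow_succ', mul_assoc]
    have h2 := hn (orderOf m)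
    rw [pow_orderOf_eq_one, one_mul, inv_one, mul_one] at h2
    have hcn : c ^ orderOf m = 1 := mul_left_cancel (a := v) (h2.symm.trans (mul_one v).symm)
    have hc1 : c = 1 := orderOf_eq_one_iff.1 (Nat.eq_one_of_dvd_coprimes hm
      (orderOf_dvd_of_pow_eq_one hcn) (orderOf_dvd_of_pow_eq_one hcp))
    show m * v = v * m
    rw [hc, inv_mul_eq_one] at hc1
    exact mul_inv_eq_iff_eq_mul.1 hc1.symm

/-- The centralizer of the elements of a normal subgroup satisfying an invariant property. -/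
theorem normal_centralizer_set {V : Subgroup H} [V.Normal] (f : H → Prop)
    (hf : ∀ g v, f v → f (g * v * g⁻¹)) :
    (Subgroup.centralizer {v : H | v ∈ V ∧ f v}).Normal := by
  refine ⟨fun m hm g => Subgroup.mem_centralizer_iff.2 fun v hv => ?_⟩
  have h1 := Subgroup.mem_centralizer_iff.1 hm (g⁻¹ * v * g⁻¹⁻¹)
    ⟨‹V.Normal›.conj_mem v hv.1 g⁻¹, hf g⁻¹ v hv.2⟩
  rw [inv_inv] at h1
  calc v * (g * m * g⁻¹) = g * (g⁻¹ * v * g * m) * g⁻¹ := by simp [mul_assoc]
    _ = g * (m * (g⁻¹ * v * g)) * g⁻¹ := by rw [h1]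
    _ = g * m * g⁻¹ * v := by simp [mul_assoc]

variable [Finite H] {p : ℕ} [Fact p.Prime]

/-- Either a normal subgroup centralizing `V` by elements of order prime to `p` meets `P` outside
`Q`, or the elements of `P` fixing the elements of order `p` of `V` centralize `V`. -/
theorem omega_cases {V Q P : Subgroup H} [V.Normal] (hVc : IsMulCommutative V) (hV : IsPGroup p V)
    (hQV : Q ≤ Subgroup.centralizer (V : Set H)) :
    (∃ M : Subgroup H, M.Normal ∧ ¬ M ⊓ P ≤ Q ∧
      ∀ m ∈ M, Nat.Coprime (orderOf m) p → ∀ v ∈ V, Commute m v) ∨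
    ∀ a ∈ P, (∀ v ∈ V, v ^ p = 1 → Commute a v) → a ∈ Q ∧ ∀ v ∈ V, Commute a v := by
  set R := Subgroup.centralizer {v : H | v ∈ V ∧ v ^ p = 1}
  by_cases hR : R ⊓ P ≤ Q
  · refine Or.inr fun a ha h => ?_
    have haQ : a ∈ Q := hR ⟨Subgroup.mem_centralizer_iff.2 fun v hv => (h v hv.1 hv.2).eq.symm, ha⟩
    exact ⟨haQ, fun v hv => (Subgroup.mem_centralizer_iff.1 (hQV haQ) v hv).symm⟩
  · refine Or.inl ⟨R, normal_centralizer_set _ fun g v hv => by rw [conj_pow, hv]; simp, hR,
      fun m hm hco => commute_of_fix_omega hVc hV hco fun v hv hvp => ?_⟩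
    exact (Subgroup.mem_centralizer_iff.1 hm v ⟨hv, hvp⟩).symm

/-- Either a normal subgroup fixes the `k`-th powers of `V`, or every `a` fixing them is in `Q`. -/
theorem exists_normal_fix {V Q P : Subgroup H} [V.Normal] {k : ℕ} {a : H} (ha : a ∈ P) (haQ : a ∉ Q)
    (hfix : ∀ v ∈ V, Commute a (v ^ k)) :
    ∃ M : Subgroup H, M.Normal ∧ ¬ M ⊓ P ≤ Q ∧
      ∀ m ∈ M, ∀ v ∈ V, Commute m (v ^ k) := by
  refine ⟨Subgroup.centralizer {v : H | v ∈ V ∧ ∃ w ∈ V, v = w ^ k},
    normal_centralizer_set _ fun g v ⟨w, hw, hv⟩ =>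
      ⟨g * w * g⁻¹, ‹V.Normal›.conj_mem w hw g, by rw [conj_pow, hv]⟩,
    fun h => haQ (h ⟨Subgroup.mem_centralizer_iff.2 ?_, ha⟩), fun m hm v hv => ?_⟩
  · rintro _ ⟨-, w, hw, rfl⟩
    exact (hfix w hw).eq.symm
  · exact (Subgroup.mem_centralizer_iff.1 hm _ ⟨V.pow_mem hv k, v, hv, rfl⟩).symm

/-- If the subgroup generated by the abelian subgroups of largest order is not inside `Q`, a normal
subgroup not meeting `P` in `Q` fixes the `p`-th powers of `V` by its `p'`-elements. -/
theorem exists_normal_fix_of_joinMaxAb {V Q P : Subgroup H} [V.Normal] (hVc : IsMulCommutative V)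
    (hV : IsPGroup p V) (hP : IsPGroup p P) (hVP : V ≤ P)
    (hQV : Q ≤ Subgroup.centralizer (V : Set H))
    (hJ : ¬ CfsgLib.PLoc.joinMaxAb 0 P ≤ Q) :
    ∃ M : Subgroup H, M.Normal ∧ ¬ M ⊓ P ≤ Q ∧
      ∀ m ∈ M, Nat.Coprime (orderOf m) p → ∀ v ∈ V, Commute m (v ^ p) := by
  rcases omega_cases (P := P) hVc hV hQV with ⟨M, h1, h2, h3⟩ | hR
  · exact ⟨M, h1, h2, fun m hm hco v hv => (h3 m hm hco v hv).pow_right p⟩
  -- a maximal abelian subgroup not centralizing `V`
  set S : Set (Subgroup H) :=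
    {A | CfsgLib.PLoc.IsMaxAb 0 P A ∧ ¬ A ≤ Subgroup.centralizer (V : Set H)}
  have hS : S.Nonempty := by
    by_contra hne
    rw [Set.not_nonempty_iff_eq_empty, Set.eq_empty_iff_forall_notMem] at hne
    refine hJ (sSup_le fun A hA a haA => (hR a (hA.le haA) fun v hv _ => ?_).1)
    have hAC : A ≤ Subgroup.centralizer (V : Set H) := by_contra fun h => hne A ⟨hA, h⟩
    exact (Subgroup.mem_centralizer_iff.1 (hAC haA) v hv).symm
  obtain ⟨A, ⟨hA, hAV⟩, hmax⟩ :=
    Set.exists_max_image S (fun A => Nat.card ↥(A ⊓ V)) (Set.toFinite S) hS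
  have hVN : V ≤ Subgroup.normalizer (A : Set H) := by
    by_contra hnot
    have : (V.subgroupOf P).Normal := inferInstance
    have hnot' : ¬ V.subgroupOf P ≤ Subgroup.normalizer (A.subgroupOf P : Set P) := by
      intro h
      refine hnot fun v hv => Subgroup.mem_normalizer_fintype fun x hx => ?_
      exact (Subgroup.mem_normalizer_iff.1
        (h (show (⟨v, hVP hv⟩ : P) ∈ V.subgroupOf P from hv)) ⟨x, hA.le hx⟩).1 hx
    obtain ⟨b, hb, hbN, hbA⟩ := CfsgLib.PLoc.exists_mem_normalizer_normalizer hP hnot'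
    have hAc : IsMulCommutative (A.subgroupOf P) := IsMulCommutative.of_setLike_mul_comm fun x hx y hy =>
      Subtype.ext (by have := hA.comm; exact setLike_mul_comm (s := A) hx hy)
    have hVc' : IsMulCommutative (V.subgroupOf P) := IsMulCommutative.of_setLike_mul_comm fun x hx y hy =>
      Subtype.ext (setLike_mul_comm (s := V) hx hy)
    have hcomm : ⁅V.subgroupOf P, V.subgroupOf P⁆ ≤ A.subgroupOf P :=
      (Subgroup.commutator_self_eq_bot_iff.mpr hVc').le.trans bot_le
    obtain ⟨h1, h2, -, h4, h5, -, -, -, -, -⟩ :=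
      CfsgLib.PLoc.replacement hP (fun _ => hVc') hAc hcomm hb hbN hbA
    set A' := CfsgLib.PLoc.starSub (A.subgroupOf P) b
    have hcard : Nat.card ↥(A'.map P.subtype) = Nat.card A := by
      rw [Subgroup.card_map_of_injective P.subtype_injective, h1,
        Nat.card_congr (Subgroup.subgroupOfEquivOfLe hA.le).toEquiv]
    have hA' : CfsgLib.PLoc.IsMaxAb 0 P (A'.map P.subtype) :=
      ⟨Subgroup.map_subtype_le _, Subgroup.map_isMulCommutative A' (f := P.subtype),
        fun _ _ => pow_zero _, fun C hC hc hce => hcard ▸ hA.max C hC hc hce⟩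
    by_cases hcen : A'.map P.subtype ≤ Subgroup.centralizer (V : Set H)
    · refine h5.ne (inf_eq_right.2 fun v hv => ?_)
      obtain ⟨w, hw, hwv⟩ := CfsgLib.PLoc.mem_of_commute hA' v.2 (pow_zero _) fun x hx =>
        (Subgroup.mem_centralizer_iff.1 (hcen hx) v hv).symm
      exact P.subtype_injective hwv ▸ hw
    · refine absurd (hmax _ ⟨hA', hcen⟩) (not_le.2 ?_)
      have hlt : A ⊓ V < A'.map P.subtype ⊓ V := by
        have := Subgroup.map_lt_map_iff_of_injective P.subtype_injective |>.2 h4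
        rwa [Subgroup.map_inf _ _ _ P.subtype_injective, Subgroup.map_inf _ _ _ P.subtype_injective,
          Subgroup.subgroupOf_map_subtype, Subgroup.subgroupOf_map_subtype, inf_eq_left.2 hA.le,
          inf_eq_left.2 hVP] at this
      exact lt_of_not_ge fun hge => hlt.ne (Subgroup.eq_of_le_of_card_ge hlt.le hge)
  obtain ⟨a, haA, hav⟩ := SetLike.not_le_iff_exists.1 hAV
  -- `a` acts quadratically
  have hquad : ∀ v ∈ V, ⁅a, v⁆ ∈ V ∧ Commute a ⁅a, v⁆ := by
    intro v hv
    have hAc := hA.comm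
    refine ⟨V.mul_mem (‹V.Normal›.conj_mem v hv a) (V.inv_mem hv), ?_⟩
    refine setLike_mul_comm (s := A) haA ?_
    rw [commutatorElement_def, show a * v * a⁻¹ * v⁻¹ = a * (v * a⁻¹ * v⁻¹) by simp [mul_assoc]]
    exact A.mul_mem haA ((Subgroup.mem_normalizer_iff.1 (hVN hv) _).1 (A.inv_mem haA))
  have hpow : ∀ v ∈ V, ∀ n : ℕ, a ^ n * v * (a ^ n)⁻¹ = v * ⁅a, v⁆ ^ n := by
    intro v hv n
    obtain ⟨hdV, hd⟩ := hquad v hv
    have hvd : Commute v ⁅a, v⁆ := setLike_mul_comm (s := V) hv hdV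
    induction n with
    | zero => simp
    | succ n ih =>
      calc a ^ (n + 1) * v * (a ^ (n + 1))⁻¹ = a * (a ^ n * v * (a ^ n)⁻¹) * a⁻¹ := by
            rw [pow_succ']; simp [mul_assoc]
        _ = a * v * a⁻¹ * (a * ⁅a, v⁆ ^ n * a⁻¹) := by rw [ih]; simp [mul_assoc]
        _ = a * v * a⁻¹ * ⁅a, v⁆ ^ n := by rw [(hd.pow_right n).eq, mul_inv_cancel_right]
        _ = ⁅a, v⁆ * v * ⁅a, v⁆ ^ n := by rw [commutatorElement_def, inv_mul_cancel_right]
        _ = v * ⁅a, v⁆ ^ (n + 1) := by rw [← hvd.eq, pow_succ', mul_assoc]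
  have hap : a ^ p ∈ Q ∧ ∀ v ∈ V, Commute (a ^ p) v := by
    refine hR _ (P.pow_mem (hA.le haA) p) fun v hv hvp => ?_
    have hdp : ⁅a, v⁆ ^ p = 1 := by
      obtain ⟨hdV, -⟩ := hquad v hv
      rw [commutatorElement_def,
        (show Commute (a * v * a⁻¹) v⁻¹ from setLike_mul_comm (s := V)
          (‹V.Normal›.conj_mem v hv a) (V.inv_mem hv)).mul_pow, conj_pow, hvp, inv_pow, hvp]
      simp
    have h1 := hpow v hv p
    rw [hdp, mul_one] at h1
    exact mul_inv_eq_iff_eq_mul.1 h1
  obtain ⟨M, h1, h2, h3⟩ := exists_normal_fix (V := V) (Q := Q) (k := p) (hA.le haA)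
    (fun h => hav (hQV h)) fun v hv => by
    obtain ⟨hdV, hd⟩ := hquad v hv
    have hdp : ⁅a, v⁆ ^ p = 1 := by
      have e1 := hpow v hv p
      rw [(hap.2 v hv).eq, mul_inv_cancel_right] at e1
      exact mul_left_cancel (a := v) (e1.symm.trans (mul_one v).symm)
    show a * v ^ p = v ^ p * a
    refine mul_inv_eq_iff_eq_mul.1 ?_
    have hvd : Commute v ⁅a, v⁆ := setLike_mul_comm (s := V) hv hdV
    rw [← conj_pow, show a * v * a⁻¹ = ⁅a, v⁆ * v by rw [commutatorElement_def, inv_mul_cancel_right],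
      hvd.symm.mul_pow, hdp, one_mul]
  exact ⟨M, h1, h2, fun m hm _ v hv => h3 m hm v hv⟩

/-- In a ring, `(1 + x) ^ p = 1` and `x ^ (n (p - 1) + 1) = 0` give `p ^ n x = 0`. -/
theorem pow_mul_eq_zero_of_unipotent {R : Type*} [Ring R] {p : ℕ} [Fact p.Prime] {x : R} {n : ℕ}
    (h1 : (1 + x) ^ p = 1) (hx : x ^ (n * (p - 1) + 1) = 0) : (p : R) ^ n * x = 0 := by
  have hp := (Fact.out : p.Prime)
  have hp2 := hp.two_le
  -- `p x w + x ^ p = 0` with `w - 1` a multiple of `x`
  set s : R := ∑ i ∈ Finset.range (p - 2), x ^ i * ((p.choose (i + 2) / p : ℕ) : R)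
  have hcomm : Commute x s :=
    Commute.sum_right _ _ _ fun i _ => ((Commute.refl x).pow_right i).mul_right (Nat.cast_commute _ x).symm
  have key : (p : R) * x * (1 + x * s) + x ^ p = 0 := by
    have e := (Commute.one_left x).symm.add_pow p
    rw [add_comm x 1, h1] at e
    simp only [one_pow, mul_one] at e
    rw [show p + 1 = (p - 2) + 1 + 1 + 1 by omega, Finset.sum_range_succ, Finset.sum_range_succ',
      Finset.sum_range_succ'] at e
    simp only [pow_zero, Nat.choose_zero_right, Nat.cast_one, mul_one] at e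
    rw [show p - 2 + 1 + 1 = p by omega] at e
    simp only [Nat.choose_self, Nat.cast_one, mul_one, zero_add, pow_one, Nat.choose_one_right] at e
    have hterm : ∀ i ∈ Finset.range (p - 2), x ^ (i + 1 + 1) * ((p.choose (i + 1 + 1) : ℕ) : R) =
        (p : R) * x * (x * (x ^ i * ((p.choose (i + 2) / p : ℕ) : R))) := by
      intro i hi
      have hd : p ∣ p.choose (i + 2) :=
        hp.dvd_choose_self (by omega) (by have := Finset.mem_range.1 hi; omega)
      conv_lhs => rw [show i + 1 + 1 = i + 2 by rfl, ← Nat.mul_div_cancel' hd, Nat.cast_mul,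
        pow_succ', pow_succ']
      rw [← mul_assoc, ← (Nat.cast_commute p (x * (x * x ^ i))).eq]
      simp only [mul_assoc]
    rw [Finset.sum_congr rfl hterm, ← Finset.mul_sum, ← Finset.mul_sum] at e
    have e2 : (p : R) * x * (1 + x * s) + x ^ p + 1 = 1 := by
      conv_rhs => rw [e]
      rw [mul_add, mul_one, ← (Nat.cast_commute p x).eq]
      abel
    exact add_eq_right.1 e2
  set w := 1 + x * s with hw
  have hwx : Commute w x := (Commute.one_left x).add_left ((Commute.refl x).mul_left hcomm.symm)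
  have hind : ∀ k : ℕ, w ^ k * ((p : R) ^ k * x) = (-1) ^ k * x ^ (k * (p - 1) + 1) := by
    intro k
    induction k with
    | zero => simp
    | succ k ih =>
      have hpx : w * ((p : R) * x) = - x ^ p := by
        rw [((Nat.cast_commute p w).symm.mul_right hwx).eq]
        exact eq_neg_of_add_eq_zero_left key
      have hexp : p + k * (p - 1) = (k + 1) * (p - 1) + 1 := by rw [Nat.add_mul, one_mul]; omega
      calc w ^ (k + 1) * ((p : R) ^ (k + 1) * x)
          = w * (p : R) * (w ^ k * ((p : R) ^ k * x)) := by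
            rw [pow_succ' w, pow_succ' (p : R)]
            simp only [mul_assoc]
            congr 1
            rw [← mul_assoc (w ^ k), ← ((Nat.cast_commute p (w ^ k))).eq, mul_assoc]
        _ = w * (p : R) * ((-1) ^ k * x ^ (k * (p - 1) + 1)) := by rw [ih]
        _ = (-1) ^ k * (w * ((p : R) * x) * x ^ (k * (p - 1))) := by
            rw [← mul_assoc (w * (p : R)), ((Commute.neg_one_right (w * (p : R))).pow_right k).eq,
              pow_succ' x]
            simp only [mul_assoc]
        _ = (-1) ^ (k + 1) * x ^ ((k + 1) * (p - 1) + 1) := by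
            rw [hpx, neg_mul, ← pow_add, hexp, mul_neg, pow_succ (-1 : R) k, mul_neg_one, neg_mul]
  have hnil : IsNilpotent (x * s) := ⟨n * (p - 1) + 1, by rw [hcomm.mul_pow, hx, zero_mul]⟩
  have h := hind n
  rw [hx, mul_zero] at h
  exact ((hnil.isUnit_one_add).pow n).mul_right_eq_zero.1 h

end CfsgLib.FusionControl
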