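import Cfsg.Agent.Lib.FusionControl.OffenderTorus
import Cfsg.Agent.Lib.FusionControl.Step
import Cfsg.Agent.Lib.FusionControl.CenterStep
import Cfsg.Agent.Lib.PLocal.Replacement
import Cfsg.Agent.S5220

/-!
# Central subgroups whose stabilizer contains the normalizer of `J`

`exists_conj_torus`: the group-theoretic content; `exists_torus`: its reading in a model of a
constrained local system.
-/

set_option autoImplicit false

namespace CfsgLib.OffenderPair

open CfsgLib.LocalEven.Pair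

/-- In a finite group, `T ≤ Z(P)` inside the abelian normal `p`-subgroup `V`: if `N(J(P))` lies in the
proper stabilizer `M` of `T`, then `M` has an element of order prime to `p` that moves `T`
transitively on its nontrivial commutators. -/
theorem exists_conj_torus {H : Type*} [Group H] [Finite H] {p : ℕ} [Fact p.Prime] (hp : p ≠ 2)
    (V Tb M : Subgroup H) [hVn : V.Normal] (hVc : ∀ a ∈ V, ∀ b ∈ V, a * b = b * a)
    (P : Sylow p H) (hVP : V ≤ (P : Subgroup H)) (hTV : Tb ≤ V) (hPM : (P : Subgroup H) ≤ M)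
    (hM : M ≠ ⊤) (hPT : (P : Subgroup H) ≤ Subgroup.centralizer (Tb : Set H))
    (hstab : ∀ m ∈ M, ∀ t ∈ Tb, m * t * m⁻¹ ∈ Tb)
    (hfix : Subgroup.centralizer (Tb : Set H) ≤ M)
    (hN : Subgroup.normalizer (CfsgLib.PLoc.joinMaxAb 0 (P : Subgroup H) : Set H) ≤ M) :
    ∃ h ∈ M, Nat.Coprime (orderOf h) p ∧ (∃ t ∈ Tb, h * t * h⁻¹ ≠ t) ∧
      ∀ t₁ ∈ Tb, ∀ t₂ ∈ Tb, h * t₁ * h⁻¹ ≠ t₁ → h * t₂ * h⁻¹ ≠ t₂ →
        ∃ k : ℕ, h ^ k * (h * t₁ * h⁻¹ * t₁⁻¹) * (h ^ k)⁻¹ = h * t₂ * h⁻¹ * t₂⁻¹ := by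
  classical
  letI : CommGroup V := { (inferInstance : Group V) with
    mul_comm := fun a b => Subtype.ext (hVc a a.2 b b.2) }
  let ρ : H →* AddMonoid.End (Additive V) :=
    { toFun := fun g => AddMonoidHom.mk'
        (fun v => Additive.ofMul ⟨g * (v.toMul : H) * g⁻¹, hVn.conj_mem _ v.toMul.2 g⟩) fun v w => by
          apply Additive.toMul.injective
          apply Subtype.ext
          simp [mul_assoc]
      map_one' := by
        refine AddMonoidHom.ext fun v => ?_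
        apply Additive.toMul.injective
        apply Subtype.ext
        show (1 : H) * v.toMul * (1 : H)⁻¹ = v.toMul
        simp
      map_mul' := fun x y => by
        refine AddMonoidHom.ext fun v => ?_
        apply Additive.toMul.injective
        apply Subtype.ext
        show x * y * v.toMul * (x * y)⁻¹ = x * (y * v.toMul * y⁻¹) * x⁻¹
        simp [mul_assoc] }
  have hρ : ∀ (g : H) (v : Additive V), (((ρ g v).toMul : V) : H) = g * v.toMul * g⁻¹ :=
    fun g v => rfl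
  have hext : ∀ v w : Additive V, ((v.toMul : V) : H) = ((w.toMul : V) : H) → v = w :=
    fun v w h => Additive.toMul.injective (Subtype.ext h)
  let T : AddSubgroup (Additive V) := Subgroup.toAddSubgroup (Tb.subgroupOf V)
  have hT : ∀ {v : Additive V}, v ∈ T ↔ ((v.toMul : V) : H) ∈ Tb := Iff.rfl
  obtain ⟨m, hm⟩ := IsPGroup.iff_card.1 (P.2.to_le hVP)
  have hW : ∀ v : Additive V, p ^ m • v = 0 := fun v => by
    apply Additive.toMul.injective
    rw [toMul_nsmul, toMul_zero, ← hm, pow_card_eq_one']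
  have hfixiff : ∀ (g : H) (v : Additive V),
      ρ g v = v ↔ g * ((v.toMul : V) : H) = ((v.toMul : V) : H) * g := fun g v =>
    ⟨fun h => mul_inv_eq_iff_eq_mul.1 ((hρ g v).symm.trans (congrArg (fun u => ((u.toMul : V) : H)) h)),
      fun h => hext _ _ ((hρ g v).trans (mul_inv_eq_iff_eq_mul.2 h))⟩
  have hS : Setting p ρ M T := by
    refine ⟨hM, fun g hg t ht => ?_, fun X hX hXp t ht x hx => ?_, fun g hg => hfix ?_⟩
    · rw [hT, hρ]
      exact hstab g hg _ (hT.1 ht)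
    · obtain ⟨Q, hQ⟩ := (IsPGroup.of_equiv hXp
        (Subgroup.subgroupOfEquivOfLe hX).symm).exists_le_sylow
      obtain ⟨m, hm⟩ := MulAction.exists_smul_eq M Q (P.subtype hPM)
      have h1 : (⟨x, hX hx⟩ : M) ∈ (Q : Subgroup M) := hQ hx
      have h2 : m * ⟨x, hX hx⟩ * m⁻¹ ∈ ((P.subtype hPM : Sylow p M) : Subgroup M) := by
        rw [← hm, Sylow.coe_subgroup_smul]
        exact ⟨_, h1, rfl⟩
      have h3 : (m : H) * x * (m : H)⁻¹ ∈ (P : Subgroup H) := h2
      have h4 := Subgroup.mem_centralizer_iff.1 (hPT h3) _ (hstab m m.2 _ (hT.1 ht))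
      rw [hfixiff]
      generalize ((t.toMul : V) : H) = s at h4 ⊢
      have h5 := congrArg (fun z => (m : H)⁻¹ * z * (m : H)) h4
      simp only [mul_assoc, inv_mul_cancel_left, inv_mul_cancel, mul_one] at h5
      exact h5.symm
    · rw [Subgroup.mem_centralizer_iff]
      intro t ht
      exact ((hfixiff g (Additive.ofMul ⟨t, hTV ht⟩)).1
        (hg (Additive.ofMul ⟨t, hTV ht⟩) (hT.2 ht))).symm
  let ℱ : Set (Subgroup H) := {A | ∃ (g : H) (B : Subgroup H),
    CfsgLib.PLoc.IsMaxAb 0 (P : Subgroup H) B ∧ A = B.map (MulAut.conj g).toMonoidHom}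
  have hconj : ∀ A ∈ ℱ, ∀ g : H, A.map (MulAut.conj g).toMonoidHom ∈ ℱ := by
    rintro _ ⟨g, B, hB, rfl⟩ g'
    refine ⟨g' * g, B, hB, ?_⟩
    rw [Subgroup.map_map]
    congr 1
    ext x
    simp [mul_assoc]
  have hcomm : ∀ A ∈ ℱ, ∀ a ∈ A, ∀ b ∈ A, a * b = b * a := by
    rintro _ ⟨g, B, hB, rfl⟩ _ ⟨a, ha, rfl⟩ _ ⟨b, hb, rfl⟩
    have := hB.comm
    rw [← map_mul, ← map_mul, setLike_mul_comm (s := B) ha hb]
  have hbestB : ∀ B, CfsgLib.PLoc.IsMaxAb 0 (P : Subgroup H) B → ∀ Y ≤ B, meas ρ Y ≤ meas ρ B := by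
    intro B hB Y hY
    have hBc := hB.comm
    set C := V ⊓ Subgroup.centralizer (Y : Set H) with hC
    have hfc : ∀ X : Subgroup H, Nat.card (fix ρ X) = Nat.card ↥(V ⊓ Subgroup.centralizer (X : Set H)) :=
      fun X => Nat.card_congr
        { toFun := fun v => ⟨(((v : Additive V).toMul : V) : H), (v : Additive V).toMul.2,
            Subgroup.mem_centralizer_iff.2 fun x hx => (hfixiff x v).1 (v.2 x hx)⟩
          invFun := fun u => ⟨Additive.ofMul ⟨u, u.2.1⟩, fun x hx =>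
            (hfixiff x _).2 (Subgroup.mem_centralizer_iff.1 u.2.2 x hx)⟩
          left_inv := fun v => rfl
          right_inv := fun u => rfl }
    rw [meas, meas, hfc, hfc]
    have hcommYC : ∀ a ∈ ((Y : Set H) ∪ (C : Set H)), ∀ b ∈ ((Y : Set H) ∪ (C : Set H)),
        a * b = b * a := by
      rintro a (ha | ha) b (hb | hb)
      · exact setLike_mul_comm (s := B) (hY ha) (hY hb)
      · exact Subgroup.mem_centralizer_iff.1 hb.2 a ha
      · exact (Subgroup.mem_centralizer_iff.1 ha.2 b hb).symm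
      · exact hVc a ha.1 b hb.1
    have habel : IsMulCommutative (Y ⊔ C : Subgroup H) := by
      rw [Subgroup.sup_eq_closure]
      exact Subgroup.isMulCommutative_closure hcommYC
    have h1 : Nat.card ↥(Y ⊔ C) ≤ Nat.card B :=
      hB.max _ (sup_le (hY.trans hB.le) (inf_le_left.trans hVP)) habel fun a _ => pow_zero a
    have h2 : Nat.card ↥(Y ⊓ C) ≤ Nat.card ↥(V ⊓ Subgroup.centralizer (B : Set H)) :=
      Nat.le_of_dvd Nat.card_pos (Subgroup.card_dvd_of_le fun a ha => ⟨ha.2.1,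
        Subgroup.mem_centralizer_iff.2 fun b hb => setLike_mul_comm (s := B) hb (hY ha.1)⟩)
    exact (CfsgLib.PLocal.card_mul_card_le_sup_inf Y C).trans (Nat.mul_le_mul h1 h2)
  have hbest : ∀ A ∈ ℱ, ∀ X ≤ A, meas ρ X ≤ meas ρ A := by
    rintro _ ⟨g, B, hB, rfl⟩ X hX
    set Y := X.comap (MulAut.conj g).toMonoidHom
    have hY : Y.map (MulAut.conj g).toMonoidHom = X :=
      Subgroup.map_comap_eq_self_of_surjective (MulAut.conj g).surjective X
    rw [← hY, meas_map_conj, meas_map_conj]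
    refine hbestB B hB Y ?_
    rw [← Subgroup.comap_map_eq_self_of_injective (f := (MulAut.conj g).toMonoidHom)
      (MulAut.conj g).injective B]
    exact Subgroup.comap_mono hX
  have hJ : famJoin ℱ (P : Subgroup H) = CfsgLib.PLoc.joinMaxAb 0 (P : Subgroup H) := by
    refine le_antisymm (sSup_le ?_) (sSup_le fun B hB => le_famJoin
      ⟨1, B, hB, (Subgroup.map_id B).symm.trans (by rw [map_one]; rfl)⟩ hB.le)
    rintro _ ⟨⟨g, B, hB, rfl⟩, hle⟩
    refine CfsgLib.PLoc.le_joinMaxAb ⟨hle, ?_, fun a _ => pow_zero a, fun C hC hc he => ?_⟩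
    · have := hB.comm
      exact Subgroup.map_isMulCommutative B (f := (MulAut.conj g).toMonoidHom)
    · rw [Subgroup.card_map_of_injective (MulAut.conj g).injective]
      exact hB.max C hC hc he
  obtain ⟨h, hh, hco, ⟨t, ht, hne⟩, htr⟩ :=
    exists_good (σ := ρ) hp hW hS P hPM ℱ hconj hcomm hbest (hJ ▸ hN)
  refine ⟨h, hh, hco, ⟨_, hT.1 ht, fun e => hne (hext _ _ ((hρ h t).trans e))⟩,
    fun t₁ h1 t₂ h2 n1 n2 => ?_⟩
  have hne' : ∀ (t : H) (htb : t ∈ Tb), h * t * h⁻¹ ≠ t →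
      ρ h (Additive.ofMul ⟨t, hTV htb⟩) ≠ Additive.ofMul ⟨t, hTV htb⟩ := fun t htb n e =>
    n ((hρ h (Additive.ofMul ⟨t, hTV htb⟩)).symm.trans
      (congrArg (fun u : Additive V => ((u.toMul : V) : H)) e))
  obtain ⟨k, hk⟩ := htr _ (hT.2 (show ((Additive.ofMul (⟨t₁, hTV h1⟩ : V)).toMul : H) ∈ Tb from h1))
    _ (hT.2 (show ((Additive.ofMul (⟨t₂, hTV h2⟩ : V)).toMul : H) ∈ Tb from h2))
    (hne' t₁ h1 n1) (hne' t₂ h2 n2)
  refine ⟨k, ?_⟩
  have hk' := congrArg (fun u : Additive V => ((u.toMul : V) : H)) hk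
  simp only [hρ, toMul_sub, Subgroup.coe_div, toMul_ofMul, div_eq_mul_inv] at hk'
  exact hk'

end CfsgLib.OffenderPair

namespace CfsgLib.FusionControl

open Cfsg Cfsg.FusionSystem CfsgLib.Fusion
open Cfsg.Agent.S5220 (jW jW_natural jW_map)

universe u
variable {Ω : Type u} [Group Ω] {S R : Subgroup Ω} {F : Cfsg.FusionSystem S}
variable {E : Cfsg.FusionSystem R} {p : ℕ}

/-- The conclusion: a cyclic `p'`-group of automorphisms transitive on its commutator. -/
def HasTorus (F : Cfsg.FusionSystem S) (p : ℕ) (T : Subgroup Ω) : Prop :=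
  ∃ X : Subgroup (MulAut ↥T), X ≤ F.autGroup T ∧ X ≠ ⊥ ∧ IsCyclic ↥X ∧ (Nat.card ↥X).Coprime p ∧
    ∀ a b : ↥T, a ∈ Subgroup.closure {y : ↥T | ∃ ψ ∈ X, ∃ t : ↥T, y = ψ t * t⁻¹} →
      b ∈ Subgroup.closure {y : ↥T | ∃ ψ ∈ X, ∃ t : ↥T, y = ψ t * t⁻¹} → a ≠ 1 → b ≠ 1 →
      ∃ ψ ∈ X, ψ a = b

/-- In a model, an automorphism of the core moving `T` off itself gives a torus. -/
theorem exists_torus [Finite S] [Fact p.Prime] (hS : IsPGroup p S) (hp2 : p ≠ 2)
    (hE : IsLocal F p E) {Z : Subgroup Ω} (hZ : E.IsNormal Z) (hZp : IsPGroup p (E.autGroup Z))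
    (hlt : Z < E.core) (D : CoreData F E p E.core) {T : Subgroup Ω} (hTY : T ≤ E.core)
    (hTc : T ≤ Subgroup.centralizer (S : Set Ω)) {U : Subgroup Ω} (hU : U ∈ liftSub jW Z R)
    (hNU : ∀ l ∈ Subgroup.normalizer (((U.subgroupOf R).map D.ι : Subgroup D.L) : Set D.L),
      ∀ y : E.core, (y : Ω) ∈ T → (((D.τ l : MulAut E.core) y : E.core) : Ω) ∈ T)
    {l₀ : D.L} {y₀ : E.core} (hy₀ : (y₀ : Ω) ∈ T)
    (hmove : (((D.τ l₀ : MulAut E.core) y₀ : E.core) : Ω) ∉ T) : HasTorus F p T := by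
  classical
  have := hE.finite
  have hR := hE.isPGroup hS
  have hYS : E.core ≤ S := D.hle.trans hE.le_S
  have hfinY : Finite E.core := finite_of_le hYS
  have hfinT : Finite T := finite_of_le (hTY.trans hYS)
  have hn : ((Z.subgroupOf R).map D.ι).Normal := D.normal_map hZ hlt.le
  set Z' := (Z.subgroupOf R).map D.ι with hZ'
  set mk := QuotientGroup.mk' Z' with hmk
  -- the image of an element of the core
  let j : E.core → D.L := fun y => D.ι (Subgroup.inclusion D.hle y)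
  have hjconj : ∀ l y, j ((D.τ l : MulAut E.core) y) = l * j y * l⁻¹ := fun l y => (D.equiv l y).symm
  have hjmul : ∀ y y', j (y * y') = j y * j y' := fun y y' => by simp only [j, map_mul]
  have hjinv : ∀ y, j y⁻¹ = (j y)⁻¹ := fun y => by simp only [j, map_inv]
  -- the stabilizer of `T` and the centralizer of `T`
  have hcen : ∀ (r : R) (y : E.core), (y : Ω) ∈ T → ((D.τ (D.ι r) : MulAut E.core) y) = y := by
    intro r y hy
    refine Subtype.ext ?_
    rw [D.τ_ι, Subgroup.mem_centralizer_iff.1 (hTc hy) _ (hE.le_S r.2), mul_inv_cancel_right]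
  let TY : Subgroup E.core := T.subgroupOf E.core
  let ML : Subgroup D.L :=
    { carrier := {l | ∀ y : E.core, (y : Ω) ∈ T → (((D.τ l : MulAut E.core) y : E.core) : Ω) ∈ T}
      one_mem' := fun y hy => by simpa using hy
      mul_mem' := fun {a b} ha hb y hy => by
        rw [map_mul, Subgroup.coe_mul, MulAut.mul_apply]
        exact ha _ (hb y hy)
      inv_mem' := fun {a} ha y hy => by
        let f : {y : E.core // (y : Ω) ∈ T} → {y : E.core // (y : Ω) ∈ T} :=
          fun y => ⟨(D.τ a : MulAut E.core) y, ha y y.2⟩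
        have hf : Function.Injective f := fun u v h =>
          Subtype.ext ((D.τ a : MulAut E.core).injective (congrArg Subtype.val h))
        obtain ⟨w, hw⟩ := (Finite.injective_iff_surjective.1 hf) ⟨y, hy⟩
        have hw' : (D.τ a : MulAut E.core) w.1 = y := congrArg Subtype.val hw
        rw [← hw', map_inv, Subgroup.coe_inv, MulAut.inv_apply_self]
        exact w.2 }
  let Fx : Subgroup D.L :=
    { carrier := {l | ∀ y : E.core, (y : Ω) ∈ T → (D.τ l : MulAut E.core) y = y}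
      one_mem' := fun y _ => by simp
      mul_mem' := fun {a b} ha hb y hy => by
        rw [map_mul, Subgroup.coe_mul, MulAut.mul_apply, hb y hy, ha y hy]
      inv_mem' := fun {a} ha y hy => by
        conv_lhs => rw [← ha y hy]
        rw [map_inv, Subgroup.coe_inv, MulAut.inv_apply_self] }
  have hFxM : Fx ≤ ML := fun l hl y hy => by rw [hl y hy]; exact hy
  have hrange : D.ι.range ≤ Fx := by
    rintro _ ⟨r, rfl⟩ y hy
    exact hcen r y hy
  have hZM : Z' ≤ ML := (Subgroup.map_le_range _ _).trans (hrange.trans hFxM)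
  -- coprime elements centralizing `T` modulo `Z`
  have hcop : ∀ l : D.L, Nat.Coprime (orderOf l) p → ∀ y : E.core, (y : Ω) ∈ T →
      (y : Ω)⁻¹ * (((D.τ l : MulAut E.core) y : E.core) : Ω) ∈ Z → (D.τ l : MulAut E.core) y = y := by
    intro g hg a _ hd
    set c : Z := ⟨_, hd⟩
    have : Finite Z := finite_of_le hZ.1
    have hy : ∀ k : ℕ, (((D.τ g : MulAut E.core) ^ k) a : E.core).1 = (a : Ω) * (c : Ω) ^ k := by
      intro k
      induction k with
      | zero => simp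
      | succ k ih =>
        have he : ((D.τ g : MulAut E.core) ^ k) a = a * (Subgroup.inclusion hlt.le c) ^ k :=
          Subtype.ext (ih.trans (by simp))
        rw [pow_succ', MulAut.mul_apply, he, map_mul, map_pow, Subgroup.coe_mul,
          SubgroupClass.coe_pow, D.fix_of_coprime hZ hlt.le hZp hg c, pow_succ', ← mul_assoc]
        congr 1
        exact (mul_inv_cancel_left (a : Ω) _).symm
    have h1 := hy (orderOf g)
    rw [← SubgroupClass.coe_pow, ← map_pow, pow_orderOf_eq_one, map_one] at h1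
    have hc1 : (c : Ω) ^ orderOf g = 1 := mul_left_cancel (h1.symm.trans (mul_one _).symm)
    obtain ⟨i, hi⟩ := hR (Subgroup.inclusion hZ.1 c)
    have hci : (c : Ω) ^ p ^ i = 1 := congrArg Subtype.val hi
    have hc0 : (c : Ω) = 1 := orderOf_eq_one_iff.1 (Nat.eq_one_of_dvd_coprimes (hg.pow_right i)
      (orderOf_dvd_of_pow_eq_one hc1) (orderOf_dvd_of_pow_eq_one hci))
    exact Subtype.ext (inv_mul_eq_one.1 hc0).symm
  have hmkj : ∀ y y' : E.core, mk (j y) = mk (j y') ↔ (y : Ω)⁻¹ * (y' : Ω) ∈ Z := by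
    intro y y'
    constructor
    · intro h
      obtain ⟨z, hz, hzv⟩ := QuotientGroup.eq.1 h
      rw [← hjinv, ← hjmul] at hzv
      have h2 := congrArg Subtype.val (D.model.2.1.1 hzv)
      exact (show (z : Ω) = (y : Ω)⁻¹ * (y' : Ω) from h2) ▸ hz
    · intro h
      refine QuotientGroup.eq.2 ⟨Subgroup.inclusion D.hle (y⁻¹ * y'), h, ?_⟩
      show j (y⁻¹ * y') = _
      rw [hjmul, hjinv]
  -- the quotient data
  obtain ⟨P₀, hP₀⟩ := D.model.2.2.1
  set P := P₀.mapSurjective (QuotientGroup.mk'_surjective Z') with hPdef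
  have hP : (P : Subgroup _) = D.ι.range.map mk := by
    rw [hPdef, ← hP₀]
    rfl
  set Q : Subgroup (D.L ⧸ Z') := (D.ι.comp (Subgroup.inclusion D.hle)).range.map mk with hQ
  have hQn : Q.Normal := by
    refine Subgroup.Normal.map ⟨?_⟩ _ (QuotientGroup.mk'_surjective _)
    rintro _ ⟨y, rfl⟩ l
    exact ⟨_, (D.equiv l y).symm⟩
  set V : Subgroup (D.L ⧸ Z') := Q ⊓ Subgroup.centralizer (Q : Set _) with hV
  have : V.Normal := Subgroup.normal_inf_normal _ _
  let jT : T →* D.L := (D.ι.comp (Subgroup.inclusion D.hle)).comp (Subgroup.inclusion hTY)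
  set Tb : Subgroup (D.L ⧸ Z') := (mk.comp jT).range with hTb
  have hTbV : Tb ≤ V := by
    rintro _ ⟨t, rfl⟩
    refine ⟨⟨_, ⟨Subgroup.inclusion hTY t, rfl⟩, rfl⟩, Subgroup.mem_centralizer_iff.2 ?_⟩
    rintro _ ⟨_, ⟨y, rfl⟩, rfl⟩
    show mk (j y) * mk (j (Subgroup.inclusion hTY t)) = mk (j (Subgroup.inclusion hTY t)) * mk (j y)
    rw [← map_mul mk, ← map_mul mk, ← hjmul, ← hjmul]
    congr 2
    exact Subtype.ext (Subgroup.mem_centralizer_iff.1 (hTc t.2) _ (hYS y.2))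
  set Mb := ML.map mk with hMb
  have hMbc : Mb.comap mk = ML := Subgroup.comap_map_eq_self (by rw [QuotientGroup.ker_mk']; exact hZM)
  have hMne : Mb ≠ ⊤ := by
    intro h
    refine hmove ?_
    have h1 : l₀ ∈ ML := by rw [← hMbc, h]; exact Subgroup.mem_top _
    exact h1 y₀ hy₀
  have hPMb : (P : Subgroup _) ≤ Mb := hP ▸ Subgroup.map_mono (hrange.trans hFxM)
  have hVP : V ≤ (P : Subgroup _) := by
    rw [hP]
    exact inf_le_left.trans (Subgroup.map_mono (by rintro _ ⟨y, rfl⟩; exact ⟨_, rfl⟩))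
  have hPT : (P : Subgroup _) ≤ Subgroup.centralizer (Tb : Set (D.L ⧸ Z')) := by
    rw [hP]
    rintro _ ⟨_, ⟨r, rfl⟩, rfl⟩
    rw [Subgroup.mem_centralizer_iff]
    rintro _ ⟨t, rfl⟩
    show mk (j (Subgroup.inclusion hTY t)) * mk (D.ι r) = mk (D.ι r) * mk (j (Subgroup.inclusion hTY t))
    rw [← map_mul mk, ← map_mul mk]
    congr 1
    have h := hjconj (D.ι r) (Subgroup.inclusion hTY t)
    rw [hcen r (Subgroup.inclusion hTY t) t.2] at h
    exact eq_mul_inv_iff_mul_eq.1 h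
  have hstab : ∀ m ∈ Mb, ∀ t ∈ Tb, m * t * m⁻¹ ∈ Tb := by
    rintro _ ⟨l, hl, rfl⟩ _ ⟨t, rfl⟩
    refine ⟨⟨_, hl (Subgroup.inclusion hTY t) t.2⟩, ?_⟩
    show mk (j ((D.τ l : MulAut E.core) (Subgroup.inclusion hTY t))) = _
    rw [hjconj, map_mul, map_mul, map_inv]
    rfl
  have hfix : Subgroup.centralizer (Tb : Set (D.L ⧸ Z')) ≤ Mb := by
    intro x hx
    set C := (Subgroup.centralizer (Tb : Set (D.L ⧸ Z'))).comap mk with hC
    obtain ⟨l, rfl⟩ := QuotientGroup.mk'_surjective _ x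
    refine ⟨l, hFxM (?_ : l ∈ Fx), rfl⟩
    have hCR : D.ι.range ≤ C := fun r hr => hPT (hP ▸ ⟨r, hr, rfl⟩)
    have hco : ∀ g ∈ C, Nat.Coprime (orderOf g) p → g ∈ Fx := by
      intro g hgC hg y hy
      refine hcop g hg y hy ((hmkj _ _).1 ?_)
      have h1 := Subgroup.mem_centralizer_iff.1 hgC _ ⟨⟨(y : Ω), hy⟩, rfl⟩
      change mk (j y) * mk g = mk g * mk (j y) at h1
      rw [hjconj, map_mul, map_mul, map_inv, ← h1, mul_inv_cancel_right]
    suffices C ≤ Fx from this hx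
    rw [← Subgroup.relIndex_eq_one]
    by_contra hne
    obtain ⟨q, hq, hqd⟩ := Nat.exists_prime_and_dvd hne
    have : Fact q.Prime := ⟨hq⟩
    by_cases hqp : q = p
    · subst hqp
      have h1 : (D.ι.range).relIndex C ∣ D.ι.range.index := Subgroup.relIndex_dvd_index_of_le hCR
      have h2 : Fx.relIndex C ∣ D.ι.range.relIndex C := Subgroup.relIndex_dvd_of_le_left C hrange
      exact P₀.not_dvd_index (hP₀.symm ▸ hqd.trans (h2.trans h1))
    · obtain ⟨Q₀⟩ : Nonempty (Sylow q C) := inferInstance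
      refine Q₀.not_dvd_index (hqd.trans (Subgroup.index_dvd_of_le fun g hg => ?_))
      obtain ⟨k, hk⟩ := Q₀.isPGroup' ⟨g, hg⟩
      have hk' : (g : D.L) ^ q ^ k = 1 := congrArg (fun z : Q₀ => ((z : C) : D.L)) hk
      exact hco _ g.2 (Nat.Coprime.coprime_dvd_left (orderOf_dvd_of_pow_eq_one hk')
        (((Nat.coprime_primes hq Fact.out).2 hqp).pow_left k))
  have hN : Subgroup.normalizer (CfsgLib.PLoc.joinMaxAb 0 (P : Subgroup (D.L ⧸ Z')) : Set (D.L ⧸ Z')) ≤ Mb := by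
    intro x hx
    obtain ⟨l, rfl⟩ := QuotientGroup.mk'_surjective _ x
    refine ⟨l, fun y hy => hNU l ?_ y hy, rfl⟩
    refine (mem_normalizer_liftSub jW_natural hR D.model.2.1.1 hU _ hP l).1 ?_
    rwa [jW_map]
  obtain ⟨h, ⟨g₁, hg₁, rfl⟩, hco, hmv, htr⟩ := CfsgLib.OffenderPair.exists_conj_torus hp2 V Tb Mb
    (fun a ha b hb => (Subgroup.mem_centralizer_iff.1 hb.2 a ha.1)) P hVP hTbV hPMb hMne hPT hstab
    hfix hN
  obtain ⟨n, hn', hno⟩ := CfsgLib.OffenderPair.exists_coprime_lift mk hco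
  rw [← hn'] at hmv htr
  set g := g₁ ^ n with hg
  have hgM : g ∈ ML := pow_mem hg₁ n
  -- the automorphism of `T`
  have hmem : IsFIso E ((D.τ g : MulAut E.core) : E.core ≃* E.core) :=
    (mem_autGroup_iff D.hle).1 (D.τ g).2
  have hF : E.core.subtype.comp ((D.τ g : MulAut E.core) : E.core ≃* E.core).toMonoidHom ∈ F.Hom E.core :=
    hE.1 _ hmem
  have hFT := restrict_mem hF hTY
  obtain ⟨α, hα, hαv⟩ := exists_aut hFT (range_eq_of_le (hom_inj hFT) fun t =>
    hgM (Subgroup.inclusion hTY t) t.2)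
  have hαY : ∀ t : T, Subgroup.inclusion hTY (α t) = (D.τ g : MulAut E.core) (Subgroup.inclusion hTY t) :=
    fun t => Subtype.ext (hαv t)
  have hb : ∀ t : T, mk (jT (α t)) = mk g * mk (jT t) * (mk g)⁻¹ := fun t => by
    show mk (j (Subgroup.inclusion hTY (α t))) = _
    rw [hαY, hjconj, map_mul, map_mul, map_inv]
    rfl
  have hbk : ∀ (k : ℕ) (t : T), mk (jT ((α ^ k) t)) = mk g ^ k * mk (jT t) * (mk g ^ k)⁻¹ := by
    intro k
    induction k with
    | zero => intro t; simp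
    | succ k ih =>
      intro t
      rw [pow_succ', MulAut.mul_apply, hb, ih, pow_succ']
      group
  have hTcomm : ∀ a b : T, a * b = b * a := fun a b =>
    Subtype.ext (Subgroup.mem_centralizer_iff.1 (hTc b.2) _ ((hTY.trans hYS) a.2))
  let δ : T →* T := MonoidHom.mk' (fun t => α t * t⁻¹) fun a b => by
    rw [map_mul, mul_inv_rev, hTcomm b⁻¹ a⁻¹, mul_assoc, ← mul_assoc (α b), hTcomm (α b) a⁻¹]
    simp only [mul_assoc]
  have hδ : ∀ t, δ t = α t * t⁻¹ := fun t => rfl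
  -- `δ t ∈ Z` forces `δ t = 1`
  have hδZ : ∀ t : T, mk (jT (δ t)) = 1 → δ t = 1 := by
    intro t ht
    rw [hδ, map_mul, map_mul, map_inv, map_inv, mul_inv_eq_one] at ht
    have h1 := hcop g hno (Subgroup.inclusion hTY t) t.2 ((hmkj _ _).1 (by
      rw [← hαY]; exact ht.symm))
    rw [hδ, show α t = t from Subgroup.inclusion_injective hTY ((hαY t).trans h1), mul_inv_cancel]
  have hαo : orderOf α ∣ orderOf g := by
    refine orderOf_dvd_of_pow_eq_one (MulEquiv.ext fun t => ?_)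
    have hk : ∀ k : ℕ, Subgroup.inclusion hTY ((α ^ k) t) =
        ((D.τ g : MulAut E.core) ^ k) (Subgroup.inclusion hTY t) := by
      intro k
      induction k with
      | zero => rfl
      | succ k ih => rw [pow_succ', pow_succ', MulAut.mul_apply, MulAut.mul_apply, hαY, ih]
    apply Subgroup.inclusion_injective hTY
    rw [hk, ← SubgroupClass.coe_pow, ← map_pow, pow_orderOf_eq_one, map_one]
    rfl
  have hαfin : Finite (MulAut T) := finite_mulAut
  have hcl : Subgroup.closure {y : ↥T | ∃ ψ ∈ Subgroup.zpowers α, ∃ t : ↥T, y = ψ t * t⁻¹} ≤ δ.range := by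
    refine (Subgroup.closure_le _).2 ?_
    rintro _ ⟨ψ, hψ, t, rfl⟩
    obtain ⟨k, rfl⟩ := mem_powers_iff_mem_zpowers.2 hψ
    induction k generalizing t with
    | zero => exact ⟨1, by simp⟩
    | succ k ih =>
      have h1 := δ.range.mul_mem (ih (α t) ⟨k, rfl⟩) ⟨t, rfl⟩
      show (α ^ (k + 1)) t * t⁻¹ ∈ δ.range
      rw [pow_succ, MulAut.mul_apply]
      simpa [hδ, mul_assoc] using h1
  refine ⟨Subgroup.zpowers α, Subgroup.zpowers_le.2 hα, ?_, inferInstance, ?_,
    fun a b ha hb' ha1 hb1 => ?_⟩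
  · rw [Ne, Subgroup.zpowers_eq_bot]
    intro h
    obtain ⟨_, ⟨t, rfl⟩, hne⟩ := hmv
    apply hne
    show mk g * mk (jT t) * (mk g)⁻¹ = mk (jT t)
    rw [← hb, h]
    rfl
  · rw [Nat.card_zpowers]
    exact hno.coprime_dvd_left hαo
  · obtain ⟨t₁, rfl⟩ := hcl ha
    obtain ⟨t₂, rfl⟩ := hcl hb'
    have hneq : ∀ t : T, δ t ≠ 1 → mk g * mk (jT t) * (mk g)⁻¹ ≠ mk (jT t) := fun t h e => h (hδZ t (by
      rw [hδ, map_mul, map_mul, map_inv, map_inv, hb, e, mul_inv_cancel]))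
    obtain ⟨k, hk⟩ := htr _ ⟨t₁, rfl⟩ _ ⟨t₂, rfl⟩ (hneq t₁ ha1) (hneq t₂ hb1)
    refine ⟨α ^ k, Subgroup.pow_mem _ (Subgroup.mem_zpowers α) k, ?_⟩
    have hbδ : ∀ t : T, mk (jT (δ t)) = mk g * mk (jT t) * (mk g)⁻¹ * (mk (jT t))⁻¹ := fun t => by
      rw [hδ, map_mul, map_mul, map_inv, map_inv, hb]
    change (mk g) ^ k * (mk g * mk (jT t₁) * (mk g)⁻¹ * (mk (jT t₁))⁻¹) * ((mk g) ^ k)⁻¹ =
      mk g * mk (jT t₂) * (mk g)⁻¹ * (mk (jT t₂))⁻¹ at hk
    rw [← hbδ, ← hbδ, ← hbk] at hk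
    have hdd : (α ^ k) (δ t₁) = δ ((α ^ k) t₁) := by
      rw [hδ, hδ, map_mul, map_inv]
      congr 1
      rw [← MulAut.mul_apply, ← MulAut.mul_apply, ← pow_succ, ← pow_succ']
    rw [hdd] at hk ⊢
    have h2 : δ ((α ^ k) t₁ * t₂⁻¹) = 1 := hδZ _ (by
      rw [map_mul δ, map_inv δ, map_mul, map_mul, map_inv, map_inv, hk, mul_inv_cancel])
    rw [map_mul, map_inv, mul_inv_eq_one] at h2
    exact h2

end CfsgLib.FusionControl
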