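import Cfsg.Agent.Lib.FusionControl.Systems
import Cfsg.Agent.Lib.Fusion.Descent

/-!
# From local to global: control of a saturated fusion system

`control`: to show that the maps of a local system `E` lie in a system `G` it suffices to know it
for the maps normalizing the chosen subgroups of the Sylow group, and to settle the constrained
local systems.
-/

set_option autoImplicit false

namespace CfsgLib.FusionControl

open Cfsg Cfsg.FusionSystem CfsgLib.Fusion

universe u
variable {Ω : Type u} [Group Ω] {S T : Subgroup Ω} {F G : Cfsg.FusionSystem S}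
variable {E : Cfsg.FusionSystem T} {p : ℕ}

/-- The chosen subgroups for `Z < R` lie properly above `Z` and are invariant under the elements
normalizing both `R` and `Z`. -/
def IsGoodChoice (S : Subgroup Ω) (Ch : Subgroup Ω → Subgroup Ω → Set (Subgroup Ω)) : Prop :=
  ∀ Z R U : Subgroup Ω, Z < R → R ≤ S → U ∈ Ch Z R →
    Z < U ∧ U ≤ R ∧ ∀ g : Ω, g ∈ Subgroup.normalizer (R : Set Ω) →
      g ∈ Subgroup.normalizer (Z : Set Ω) → g ∈ Subgroup.normalizer (U : Set Ω)

/-- The maps normalizing the chosen subgroups lie in `G`. -/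
def Covered (G : Cfsg.FusionSystem S) (Ch : Subgroup Ω → Subgroup Ω → Set (Subgroup Ω))
    {T : Subgroup Ω} (E : Cfsg.FusionSystem T) (Z : Subgroup Ω) : Prop :=
  Z < T → ∀ U ∈ Ch Z T, ∀ P, E.normalizerHom U P ⊆ G.Hom P

variable {Ch : Subgroup Ω → Subgroup Ω → Set (Subgroup Ω)}

theorem Covered.mono {T' : Subgroup Ω} {E' : Cfsg.FusionSystem T'} {Z : Subgroup Ω}
    (h : Covered G Ch E Z) (hTT : T' = T) (hle : E'.IsSubsystemOf E) : Covered G Ch E' Z := by
  subst hTT
  intro hZ U hU P φ hφ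
  obtain ⟨hφE, hP, hv, ψ, hψ, hag, hUψ⟩ := hφ
  exact h hZ U hU P ⟨hle _ hφE, hP, hv, ψ, hle _ hψ, hag, hUψ⟩

theorem autGroup_mono {T' : Subgroup Ω} {E' : Cfsg.FusionSystem T'} {Z : Subgroup Ω}
    (hle : E'.IsSubsystemOf E) (hZ' : Z ≤ T') (hZ : Z ≤ T) :
    E'.autGroup Z ≤ E.autGroup Z := fun a ha =>
  (mem_autGroup_iff hZ).2 (hle _ ((mem_autGroup_iff hZ').1 ha : IsFIso E' a))

theorem isPGroup_autGroup_mono {T' : Subgroup Ω} {E' : Cfsg.FusionSystem T'} {Z : Subgroup Ω}
    (hle : E'.IsSubsystemOf E) (hZ' : Z ≤ T') (hZ : Z ≤ T) (h : IsPGroup p (E.autGroup Z)) :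
    IsPGroup p (E'.autGroup Z) :=
  h.of_injective (Subgroup.inclusion (autGroup_mono hle hZ' hZ)) (Subgroup.inclusion_injective _)

theorem size_normalizerSystem_lt [Finite T] {X : Subgroup Ω} (hX : X ≤ T) (h : ¬ E.IsNormal X) :
    size (normalizerSystem E X hX) < size E := by
  by_cases hall : ∀ (P : Subgroup Ω) (φ : P →* Ω), φ ∈ E.Hom P → φ ∈ E.normalizerHom X P
  · exact absurd ⟨hX, fun P φ hφ => (hall P φ hφ).2.2.2⟩ h
  · push Not at hall
    obtain ⟨P, φ, hφ, hn⟩ := hall
    exact size_lt (normalizerSystem_le hX) hφ hn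

theorem mem_normalizer_of_map {H : Subgroup Ω} {g : Ω}
    (h : H.map (MulAut.conj g).toMonoidHom = H) : g ∈ Subgroup.normalizer (H : Set Ω) := by
  rw [Subgroup.mem_normalizer_iff]
  intro x
  constructor
  · exact fun hx => h ▸ ⟨x, hx, rfl⟩
  · intro hx
    rw [← h] at hx
    obtain ⟨y, hy, hyx⟩ := hx
    simpa [(MulAut.conj g).injective hyx] using hy

theorem map_conj_of_mem_normalizer {H : Subgroup Ω} {g : Ω}
    (hg : g ∈ Subgroup.normalizer (H : Set Ω)) : H.map (MulAut.conj g).toMonoidHom = H := by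
  ext x
  constructor
  · rintro ⟨y, hy, rfl⟩
    exact (Subgroup.mem_normalizer_iff.1 hg y).1 hy
  · intro hx
    exact ⟨g⁻¹ * x * g, (Subgroup.mem_normalizer_iff''.1 hg x).1 hx, by simp [mul_assoc]⟩

theorem mem_normalizer_sup {A B : Subgroup Ω} {g : Ω} (hA : g ∈ Subgroup.normalizer (A : Set Ω))
    (hB : g ∈ Subgroup.normalizer (B : Set Ω)) :
    g ∈ Subgroup.normalizer ((A ⊔ B : Subgroup Ω) : Set Ω) :=
  mem_normalizer_of_map (by
    rw [Subgroup.map_sup, map_conj_of_mem_normalizer hA, map_conj_of_mem_normalizer hB])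

theorem mem_normalizer_inf {A B : Subgroup Ω} {g : Ω} (hA : g ∈ Subgroup.normalizer (A : Set Ω))
    (hB : g ∈ Subgroup.normalizer (B : Set Ω)) :
    g ∈ Subgroup.normalizer ((A ⊓ B : Subgroup Ω) : Set Ω) :=
  mem_normalizer_of_map (by
    rw [Subgroup.map_inf _ _ _ (MulAut.conj g).injective, map_conj_of_mem_normalizer hA,
      map_conj_of_mem_normalizer hB])

theorem mem_normalizer_centralizer {A : Subgroup Ω} {g : Ω}
    (hA : g ∈ Subgroup.normalizer (A : Set Ω)) :
    g ∈ Subgroup.normalizer ((Subgroup.centralizer (A : Set Ω) : Subgroup Ω) : Set Ω) := by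
  rw [Subgroup.mem_normalizer_iff]
  intro x
  simp only [Subgroup.mem_centralizer_iff, SetLike.mem_coe]
  constructor
  · intro hx a ha
    have h1 := hx (g⁻¹ * a * g) ((Subgroup.mem_normalizer_iff''.1 hA a).1 ha)
    calc a * (g * x * g⁻¹) = g * (g⁻¹ * a * g * x) * g⁻¹ := by simp [mul_assoc]
      _ = g * (x * (g⁻¹ * a * g)) * g⁻¹ := by rw [h1]
      _ = g * x * g⁻¹ * a := by simp [mul_assoc]
  · intro hx a ha
    have h1 := hx (g * a * g⁻¹) ((Subgroup.mem_normalizer_iff.1 hA a).1 ha)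
    calc a * x = g⁻¹ * (g * a * g⁻¹ * (g * x * g⁻¹)) * g := by simp [mul_assoc]
      _ = g⁻¹ * (g * x * g⁻¹ * (g * a * g⁻¹)) * g := by rw [h1]
      _ = x * a := by simp [mul_assoc]

theorem normalizerIn_eq_of_le {X : Subgroup Ω} (h : T ≤ Subgroup.normalizer (X : Set Ω)) :
    normalizerIn T X = T :=
  le_antisymm (normalizerIn_le T X) (le_inf le_rfl h)

/-- Maps normalizing `V` are in `G` once those normalizing a conjugate `V'` are, when the conjugating
map is in `G`. -/
theorem normalizerHom_subset_of_conj [Finite T] {V V' : Subgroup Ω} (hVT : V ≤ T) (hV'T : V' ≤ T)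
    {δ : normalizerIn T V →* Ω} (hδ : δ ∈ E.Hom (normalizerIn T V))
    (hδG : δ ∈ G.Hom (normalizerIn T V))
    (hv : ∀ x, δ x ∈ normalizerIn T V') {e : V ≃* V'}
    (hag : ∀ x : V, δ ⟨x, le_normalizerIn hVT x.2⟩ = (e x : Ω))
    (h : ∀ P, E.normalizerHom V' P ⊆ G.Hom P) (P : Subgroup Ω) :
    E.normalizerHom V P ⊆ G.Hom P := by
  rintro φ ⟨-, hP, hφv, ψ, hψ, hψag, hVψ⟩
  have hPV : P ⊔ V ≤ normalizerIn T V := sup_le hP (le_normalizerIn hVT)
  have hψv : ∀ x, ψ x ∈ normalizerIn T V :=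
    forall_mem_of_sup (fun x => by rw [hψag]; exact hφv x) fun x =>
      le_normalizerIn hVT (mem_of_map_subgroupOf_sup_eq hVψ x)
  set δ₁ := δ.comp (Subgroup.inclusion hPV) with hδ₁def
  have hδ₁ : δ₁ ∈ E.Hom (P ⊔ V) := restrict_mem hδ hPV
  obtain ⟨ρ, hρ, hρv⟩ := E.inv_mem hδ₁
  have hρmem : ∀ y : δ₁.range, ρ y ∈ P ⊔ V := by
    rintro ⟨_, x, rfl⟩
    rw [hρv]
    exact x.2
  set ω := δ.comp ((ψ.comp (ρ.codRestrict _ hρmem)).codRestrict _ fun y => hψv _) with hωdef
  have hω : ω ∈ E.Hom δ₁.range := E.comp_mem (E.comp_mem hρ hψ hρmem) hδ (fun y => hψv _)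
  have hωval : ∀ x : ↥(P ⊔ V), ω ⟨δ₁ x, x, rfl⟩ = δ ⟨ψ x, hψv x⟩ := by
    intro x
    show δ ⟨ψ ⟨ρ ⟨δ₁ x, x, rfl⟩, _⟩, _⟩ = _
    congr 1
    refine Subtype.ext (congrArg ψ (Subtype.ext (hρv x)))
  have hV'D : V' ≤ δ₁.range := fun y hy =>
    ⟨Subgroup.inclusion le_sup_right (e.symm ⟨y, hy⟩), by
      refine (hag (e.symm ⟨y, hy⟩)).trans ?_
      rw [MulEquiv.apply_symm_apply]⟩
  have hωG : ω ∈ G.Hom δ₁.range := by
    refine h _ ⟨hω, ?_, fun y => hv _, ω.comp (Subgroup.inclusion (sup_le le_rfl hV'D)),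
      restrict_mem hω _, fun y => rfl, ?_⟩
    · rintro _ ⟨x, rfl⟩
      exact hv _
    · have : Finite V' := finite_of_le hV'T
      rw [← range_comp_inclusion le_sup_right]
      refine range_eq_of_le ((hom_inj hω).comp ((Subgroup.inclusion_injective _).comp
        (Subgroup.inclusion_injective _))) fun y => ?_
      show ω ⟨(y : Ω), hV'D y.2⟩ ∈ V'
      obtain ⟨v, rfl⟩ := e.surjective y
      have h1 : (⟨(e v : Ω), hV'D (e v).2⟩ : δ₁.range) =
          ⟨δ₁ (Subgroup.inclusion le_sup_right v), _, rfl⟩ := Subtype.ext (hag v).symm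
      rw [h1, hωval]
      have hmem := mem_of_map_subgroupOf_sup_eq hVψ v
      rw [show (⟨ψ (Subgroup.inclusion le_sup_right v), hψv _⟩ : normalizerIn T V) =
        ⟨((⟨_, hmem⟩ : V) : Ω), le_normalizerIn hVT hmem⟩ from rfl, hag]
      exact (e _).2
  have hδ₁G : δ₁ ∈ G.Hom (P ⊔ V) := restrict_mem hδG hPV
  obtain ⟨θ, hθ, hθv⟩ := G.inv_mem hδG
  have hωθ : ∀ x : ↥(P ⊔ V), (ω.comp (δ₁.codRestrict _ fun x => ⟨x, rfl⟩)) x ∈ δ.range := fun x =>
    ⟨⟨ψ x, hψv x⟩, (hωval x).symm⟩
  have hψG : ψ ∈ G.Hom (P ⊔ V) := by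
    refine mem_of_comp (G.comp_mem hδ₁G hωG fun x => ⟨x, rfl⟩) hθ hωθ _ fun x => ?_
    exact ((congrArg θ (Subtype.ext (hωval x) :
      (⟨_, hωθ x⟩ : δ.range) = ⟨δ ⟨ψ x, hψv x⟩, _, rfl⟩)).trans (hθv ⟨ψ x, hψv x⟩)).symm
  exact mem_of_restrict hψG le_sup_left φ fun x => (hψag x).symm

/-- The climb: normalizers of subgroups above the core are covered. -/
theorem climb [Finite S] [Fact p.Prime] (hS : IsPGroup p S) (hCh : IsGoodChoice S Ch)
    {Z : Subgroup Ω} (hE : IsLocal F p E) (hZ : E.IsNormal Z) (hp : IsPGroup p (E.autGroup Z))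
    (hcore : E.core = Z) (hcov : Covered G Ch E Z) {n : ℕ}
    (hbig : ∀ R : Subgroup Ω, n < Nat.card R → E.Hom R ⊆ G.Hom R)
    (hrec : ∀ {T' : Subgroup Ω} (E' : Cfsg.FusionSystem T'), IsLocal F p E' → E'.IsNormal Z →
      IsPGroup p (E'.autGroup Z) → Covered G Ch E' Z → size E' < size E → E'.IsSubsystemOf G) :
    ∀ X, E.IsFullyNormalized X → Z < X → n ≤ Nat.card (normalizerIn T X) →
      ∀ P, E.normalizerHom X P ⊆ G.Hom P := by
  have := hE.finite
  have hT := hE.isPGroup hS
  suffices hk : ∀ (k : ℕ) X, Nat.card T ≤ Nat.card (normalizerIn T X) + k →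
      E.IsFullyNormalized X → Z < X → n ≤ Nat.card (normalizerIn T X) →
      ∀ P, E.normalizerHom X P ⊆ G.Hom P from fun X => hk (Nat.card T) X (Nat.le_add_left _ _)
  intro k
  induction k using Nat.strong_induction_on with
  | _ k ih =>
    intro X hk hX hZX hn
    have hXT : X ≤ T := hX.1
    have hZN : Z ≤ normalizerIn T X := hZX.le.trans (le_normalizerIn hXT)
    have hnot : ¬ E.IsNormal X := fun h => absurd (CfsgLib.FusionQuot.le_core _ h)
      (fun hle => hZX.not_ge (hle.trans_eq hcore))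
    refine hrec (normalizerSystem E X hX.1) (isLocal_normalizerSystem hS hE hX (hcore ▸ hZN))
      (isNormal_normalizerSystem hX.1 hZ hZN) (isPGroup_autGroup_mono (normalizerSystem_le _) hZN hZ.1 hp)
      ?_ (size_normalizerSystem_lt _ hnot)
    rcases eq_or_lt_of_le (normalizerIn_le T X) with heq | hlt
    · exact hcov.mono heq (normalizerSystem_le _)
    intro hZT'' V hV P φ hφ
    obtain ⟨hZV, hVN, hVinv⟩ := hCh Z _ V hZT'' ((normalizerIn_le T X).trans hE.le_S) hV
    have hVT : V ≤ T := hVN.trans (normalizerIn_le T X)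
    have hNN : normalizerIn T (normalizerIn T X) ≤ normalizerIn T V := fun g hg =>
      ⟨hg.1, hVinv g hg.2 (stronglyClosed_le_normalizer (isNormal_stronglyClosed hZ) hg.1)⟩
    have hcard : Nat.card (normalizerIn T X) < Nat.card (normalizerIn T V) :=
      Descent.card_lt_card_of_lt (normalizerIn_le T V) ((lt_normalizerIn hT hlt).trans_le hNN)
    obtain ⟨V', hVV', hV'⟩ := exists_isFullyNormalized E hVT
    obtain ⟨e, he, δ, hδ, hδv, hag⟩ := exists_normalizer_map hT hE.2.1 hV' hVV'
    have hδG : δ ∈ G.Hom _ := hbig _ (hn.trans_lt hcard) hδ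
    have hle : Nat.card (normalizerIn T V) ≤ Nat.card (normalizerIn T V') := by
      have : Finite (normalizerIn T V') := finite_of_le (normalizerIn_le T V')
      exact Nat.card_le_card_of_injective (fun x => (⟨δ x, hδv x⟩ : normalizerIn T V'))
        fun a b h => hom_inj hδ (congrArg Subtype.val h)
    have hZV' : Z < V' := by
      have hfinV : Finite V := finite_of_le hVT
      have hfinZ : Finite Z := finite_of_le hZ.1
      have hzero := range_eq_of_le (φ := (V'.subtype.comp e.toMonoidHom).comp (Subgroup.inclusion hZV.le))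
        ((Subgroup.subtype_injective _).comp (e.injective.comp (Subgroup.inclusion_injective _)))
        fun z => by
          show ((e (Subgroup.inclusion hZV.le z) : V') : Ω) ∈ Z
          rw [← hag]
          exact (isNormal_stronglyClosed hZ).2 _ le_rfl _
            (restrict_mem hδ ((hZV.le.trans (le_normalizerIn hVT)))) z
      refine lt_of_le_of_ne ?_ fun h => ?_
      · rw [← hzero]
        rintro _ ⟨z, rfl⟩
        exact (e _).2
      · exact (Descent.card_lt_card_of_lt hVT hZV).ne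
          ((congrArg (fun H : Subgroup Ω => Nat.card H) h).trans (isConj_card_eq hVV').symm)
    have hV'G := ih (Nat.card T - Nat.card (normalizerIn T V'))
      (by have := Descent.card_le_of_le (S := T) (normalizerIn_le T V'); omega) V' (by omega) hV' hZV'
      (by omega)
    obtain ⟨hφE, hP, hv, ψ, hψ, hψag, hVψ⟩ := hφ
    have hN2 : normalizerIn (normalizerIn T X) V ≤ normalizerIn T V :=
      inf_le_inf_right _ (normalizerIn_le T X)
    exact normalizerHom_subset_of_conj hVT hV'.1 hδ hδG hδv hag hV'G P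
      ⟨hφE.1, hP.trans hN2, fun x => hN2 (hv x), ψ, hψ.1, hψag, hVψ⟩

theorem isPGroup_autGroup_of_tc [Finite T] [Fact p.Prime] (hT : IsPGroup p T) {Y : Subgroup Ω}
    (hY : E.IsNormal Y) (h : ∀ P, E.Hom P ⊆ (tcSystem E Y hY).Hom P) :
    IsPGroup p (E.autGroup Y) := by
  have hle : E.autGroup Y ≤ autInducedBy T Y := by
    intro a ha
    obtain ⟨-, ψ, -, hag, t, ht, ht'⟩ := h _ ((mem_autGroup_iff hY.1).1 ha : IsFIso E a)
    refine mem_autInducedBy_iff.2 ⟨t, ht, fun y => ?_⟩
    rw [← ht' y]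
    exact (hag y).symm
  exact (isPGroup_autInducedBy hT Y).of_injective (Subgroup.inclusion hle)
    (Subgroup.inclusion_injective _)

/-- Every map is a product of a map normalizing `Y C_T(Y)` and one in `T C_E(Y)`. -/
theorem le_of_tc_of_normalizer [Finite T] [Fact p.Prime] (hT : IsPGroup p T)
    (hE : E.IsSaturated p) {Y : Subgroup Ω} (hY : E.IsNormal Y)
    (hU : Y ⊔ centralizerIn T Y ≤ T) (h₁ : (tcSystem E Y hY).IsSubsystemOf G)
    (h₂ : (normalizerSystem E (Y ⊔ centralizerIn T Y) hU).IsSubsystemOf G) :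
    E.IsSubsystemOf G := by
  intro P φ hφ
  obtain ⟨ψ, hψ, hag, hYψ⟩ := hY.2 P φ hφ
  have hTY : T ≤ Subgroup.normalizer (Y : Set Ω) :=
    stronglyClosed_le_normalizer (isNormal_stronglyClosed hY)
  have : Finite Y := finite_of_le hY.1
  obtain ⟨a, ha, hav⟩ := exists_aut (restrict_mem hψ (le_sup_right : Y ≤ P ⊔ Y))
    (range_eq_of_le (hom_inj (restrict_mem hψ le_sup_right)) fun y =>
      mem_of_map_subgroupOf_sup_eq hYψ y)
  have hfn : E.IsFullyNormalized Y := isFullyNormalized_of_le_normalizer hY.1 hTY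
  have hPY : P ⊔ Y ≤ T := dom_le hψ
  set R := P ⊔ Y ⊔ centralizerIn T Y with hR
  have hRT : R ≤ T := sup_le hPY (centralizerIn_le T Y)
  have hRext : R ≤ extender T Y (Y.subtype.comp (a : Y ≃* Y).toMonoidHom) := by
    refine sup_le (fun g hg => ?_) (centralizerIn_le_extender _)
    refine (mem_extender_iff_congr (a : Y ≃* Y) (fun _ => rfl) (hPY hg) (hTY (hPY hg))).2 ?_
    rw [congr_conjAut_eq_of_extends (R := P ⊔ Y) le_sup_right (fun y => (hav y).symm) hg]
    exact conjAut_mem_autInducedBy (map_mem hψ _) _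
  obtain ⟨χ, hχ, -, hχa⟩ := ((mem_autGroup_iff hY.1).1 ha : IsFIso E a).exists_extension
    (isReceptive_of_isFullyNormalized hT hE hfn) (le_sup_right.trans le_sup_left)
    (le_inf hRT (hRT.trans hTY)) fun g hg =>
      (mem_extender_iff_congr (a : Y ≃* Y) (fun _ => rfl) (hRT hg) (hTY (hRT hg))).1 (hRext hg)
  have hYR : Y ≤ R := le_sup_right.trans le_sup_left
  have hUR : Y ⊔ centralizerIn T Y ≤ R := sup_le hYR le_sup_right
  have hTU : T ≤ Subgroup.normalizer ((Y ⊔ centralizerIn T Y : Subgroup Ω) : Set Ω) := by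
    have hC : T ≤ Subgroup.normalizer (centralizerIn T Y : Set Ω) := fun g hg =>
      mem_normalizer_inf (Subgroup.le_normalizer hg) (mem_normalizer_centralizer (hTY hg))
    exact fun g hg => mem_normalizer_sup (hTY hg) (hC hg)
  have hχU : χ ∈ E.normalizerHom (Y ⊔ centralizerIn T Y) R := by
    refine ⟨hχ, le_inf hRT (hRT.trans hTU), fun x => ⟨map_mem hχ x, hTU (map_mem hχ x)⟩,
      χ.comp (Subgroup.inclusion (sup_le le_rfl hUR)), restrict_mem hχ _, fun x => rfl, ?_⟩
    have hfinU : Finite ↥(Y ⊔ centralizerIn T Y) := finite_of_le hU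
    rw [← range_comp_inclusion le_sup_right]
    refine range_eq_of_le ((hom_inj hχ).comp ((Subgroup.inclusion_injective _).comp
      (Subgroup.inclusion_injective _))) fun x => ?_
    show χ (Subgroup.inclusion hUR x) ∈ _
    refine forall_mem_of_sup (φ := χ.comp (Subgroup.inclusion hUR)) (fun y => ?_) (fun c => ?_) x
    · show χ ⟨y, _⟩ ∈ _
      rw [show χ ⟨y, _⟩ = (a y : Ω) from hχa y]
      exact le_sup_left (b := centralizerIn T Y) (a y).2
    · show χ ⟨c, _⟩ ∈ _
      exact le_sup_right (a := Y) ⟨map_mem hχ _,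
        (map_mem_centralizer_iff_of_extends hYR (fun y => hχa y) (hUR (le_sup_right (a := Y) c.2))
          (hTY c.2.1)).2 c.2.2⟩
  have hχG : χ.comp (Subgroup.inclusion (le_sup_left : P ⊔ Y ≤ R)) ∈ G.Hom (P ⊔ Y) :=
    restrict_mem (h₂ _ hχU) _
  set χ₁ := χ.comp (Subgroup.inclusion (le_sup_left : P ⊔ Y ≤ R)) with hχ₁def
  have hχ₁ : χ₁ ∈ E.Hom (P ⊔ Y) := restrict_mem hχ _
  obtain ⟨ρ, hρ, hρv⟩ := E.inv_mem hχ₁
  have hρmem : ∀ y : χ₁.range, ρ y ∈ P ⊔ Y := by
    rintro ⟨_, x, rfl⟩
    rw [hρv]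
    exact x.2
  have hμ := E.comp_mem hρ hψ hρmem
  set μ := ψ.comp (ρ.codRestrict _ hρmem) with hμdef
  have hμval : ∀ x : ↥(P ⊔ Y), μ ⟨χ₁ x, x, rfl⟩ = ψ x := fun x =>
    congrArg ψ (Subtype.ext (hρv x))
  have hYrange : Y ≤ χ₁.range := fun y hy =>
    ⟨Subgroup.inclusion le_sup_right ((a : Y ≃* Y).symm ⟨y, hy⟩), by
      refine (hχa ((a : Y ≃* Y).symm ⟨y, hy⟩)).trans ?_
      rw [MulEquiv.apply_symm_apply]⟩
  have hμG : μ ∈ G.Hom χ₁.range := by
    refine h₁ _ ⟨hμ, μ.comp (Subgroup.inclusion (sup_le le_rfl hYrange)), restrict_mem hμ _,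
      fun x => rfl, 1, one_mem _, fun y => ?_⟩
    obtain ⟨w, rfl⟩ := (a : Y ≃* Y).surjective y
    show μ ⟨((a w : Y) : Ω), _⟩ = _
    rw [show (⟨((a w : Y) : Ω), hYrange (a w).2⟩ : χ₁.range) =
      ⟨χ₁ (Subgroup.inclusion le_sup_right w), _, rfl⟩ from Subtype.ext (hχa w).symm, hμval]
    simp [hav w]
  have hψG : ψ ∈ G.Hom (P ⊔ Y) :=
    mem_of_comp hχG hμG (fun x => ⟨x, rfl⟩) ψ fun x => (hμval x).symm
  exact mem_of_restrict hψG le_sup_left φ fun x => (hag x).symm

/-- **Control theorem.**  A local system lies in `G` if the maps normalizing the chosen subgroups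
do, provided this holds for the constrained local systems. -/
theorem control [Finite S] [Fact p.Prime] (hS : IsPGroup p S) (hCh : IsGoodChoice S Ch)
    (hcons : ∀ {T : Subgroup Ω} (E : Cfsg.FusionSystem T) (Z : Subgroup Ω), IsLocal F p E →
      E.IsNormal Z → IsPGroup p (E.autGroup Z) → Z < E.core →
      centralizerIn T E.core ≤ E.core → Covered G Ch E Z →
      (∀ {T' : Subgroup Ω} (E' : Cfsg.FusionSystem T') (Z' : Subgroup Ω), IsLocal F p E' →
        E'.IsNormal Z' → IsPGroup p (E'.autGroup Z') → Covered G Ch E' Z' →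
        size E' < size E → E'.IsSubsystemOf G) →
      E.IsSubsystemOf G)
    (hE : IsLocal F p E) {Z : Subgroup Ω} (hZ : E.IsNormal Z) (hp : IsPGroup p (E.autGroup Z))
    (hcov : Covered G Ch E Z) : E.IsSubsystemOf G := by
  suffices main : ∀ (s d : ℕ) {T : Subgroup Ω} (E : Cfsg.FusionSystem T) (Z : Subgroup Ω),
      size E = s → Nat.card T ≤ Nat.card Z + d → IsLocal F p E → E.IsNormal Z →
      IsPGroup p (E.autGroup Z) → Covered G Ch E Z → E.IsSubsystemOf G from
    main _ (Nat.card T) E Z rfl (Nat.le_add_left _ _) hE hZ hp hcov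
  intro s
  induction s using Nat.strong_induction_on with
  | _ s ihs =>
  intro d
  induction d using Nat.strong_induction_on with
  | _ d ihd =>
    intro T E Z hs hd hE hZ hp hcov
    have := hE.finite
    have hT := hE.isPGroup hS
    have hrec : ∀ {T' : Subgroup Ω} (E' : Cfsg.FusionSystem T') (Z' : Subgroup Ω), IsLocal F p E' →
        E'.IsNormal Z' → IsPGroup p (E'.autGroup Z') → Covered G Ch E' Z' →
        size E' < size E → E'.IsSubsystemOf G := fun {T'} E' Z' h₁ h₂ h₃ h₄ h₅ =>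
      ihs (size E') (hs ▸ h₅) (Nat.card T') E' Z' rfl (Nat.le_add_left _ _) h₁ h₂ h₃ h₄
    have hY : E.IsNormal E.core := CfsgLib.FusionQuot.isNormal_core E
    have hTY : T ≤ Subgroup.normalizer (E.core : Set Ω) :=
      stronglyClosed_le_normalizer (isNormal_stronglyClosed hY)
    rcases eq_or_lt_of_le (CfsgLib.FusionQuot.le_core _ hZ) with heq | hlt
    · -- `Z` is the largest normal subgroup
      intro P φ hφ
      refine (Descent.hom_le_of_aut_centric (E := restrictSystem G hE.le_S) hT hE.2.1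
        (fun Q hQn hQc hbig => ?_) P hφ).1
      clear hφ φ P
      intro α hα
      have hα' : IsFIso E (α : Q ≃* Q) := (mem_autGroup_iff hQn.1).1 hα
      have hbigG : ∀ R : Subgroup Ω, Nat.card Q < Nat.card R → E.Hom R ⊆ G.Hom R :=
        fun R hR φ hφ => (hbig R hR hφ).1
      refine (mem_autGroup_iff hQn.1).2 ⟨?_, hQn.1, fun x => map_mem hα' x⟩
      by_cases hZQ : Z ≤ Q
      · rcases eq_or_lt_of_le hZQ with rfl | hZQ'
        · -- automorphisms of `Z` come from `T`
          obtain ⟨-, P₀, hP₀⟩ := isFullyAutomized_of_isFullyNormalized hT hE.2.1 hQn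
          have htop := P₀.3 (hp.of_equiv Subgroup.topEquiv.symm) le_top
          have hmem : (⟨α, hα⟩ : E.autGroup Z) ∈ (P₀ : Subgroup (E.autGroup Z)) := htop ▸ trivial
          rw [hP₀, Subgroup.mem_subgroupOf] at hmem
          obtain ⟨t, ht, ht'⟩ := mem_autInducedBy_iff.1 hmem
          refine mem_of_restrict (G.conj_mem (hZ.1.trans hE.le_S) (hE.le_S ht)) le_rfl _ fun x => ?_
          exact ht' x
        · have hfinN : Finite (normalizerIn T Q) := finite_of_le (normalizerIn_le T Q)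
          exact climb hS hCh hE hZ hp heq.symm hcov hbigG (fun E' => hrec E' Z) Q hQn hZQ'
            (Nat.card_le_card_of_injective _
              (Subgroup.inclusion_injective (le_normalizerIn hQn.1)))
            Q ⟨hα', le_normalizerIn hQn.1, fun x => le_normalizerIn hQn.1 ((α : Q ≃* Q) x).2,
              (Q.subtype.comp (α : Q ≃* Q).toMonoidHom).comp (Subgroup.inclusion (sup_le le_rfl le_rfl)),
              restrict_mem hα' _, fun x => rfl, by
                ext y
                rw [mem_map_subgroupOf]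
                constructor
                · rintro ⟨x, hx, hxQ, rfl⟩
                  exact ((α : Q ≃* Q) _).2
                · intro hy
                  refine ⟨(α : Q ≃* Q).symm ⟨y, hy⟩, le_sup_left (b := Q) (SetLike.coe_mem _),
                    SetLike.coe_mem _, ?_⟩
                  show ((α : Q ≃* Q) ((α : Q ≃* Q).symm ⟨y, hy⟩) : Ω) = y
                  rw [MulEquiv.apply_symm_apply]⟩
      · obtain ⟨ψ, hψ, hag, -⟩ := hZ.2 _ _ hα'
        exact mem_of_restrict (hbigG _ (Descent.card_lt_card_of_lt (sup_le hQn.1 hZ.1)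
          (lt_of_le_of_ne le_sup_left fun h => hZQ (le_sup_right.trans_eq h.symm))) hψ) le_sup_left _
          fun x => (hag x).symm
    · by_cases htc : ∀ P, E.Hom P ⊆ (tcSystem E E.core hY).Hom P
      · -- move up to the core
        refine ihd (Nat.card T - Nat.card E.core)
          (by
            have := Descent.card_lt_card_of_lt hY.1 hlt
            have := Descent.card_le_of_le (S := T) hY.1
            omega)
          E E.core hs (by omega) hE hY (isPGroup_autGroup_of_tc hT hY htc) ?_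
        intro hYT V hV P
        obtain ⟨hYV, hVT, hVinv⟩ := hCh _ _ V hYT hE.le_S hV
        have hTV : T ≤ Subgroup.normalizer (V : Set Ω) := fun g hg =>
          hVinv g (Subgroup.le_normalizer hg) (hTY hg)
        have hfn := isFullyNormalized_of_le_normalizer (E := E) hVT hTV
        have hN : ∀ Y' : Subgroup Ω, Y' ≤ T → Y' ≤ normalizerIn T V := fun Y' h => by
          rwa [normalizerIn_eq_of_le hTV]
        refine hrec (normalizerSystem E V hVT) Z (isLocal_normalizerSystem hS hE hfn (hN _ hY.1))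
          (isNormal_normalizerSystem hVT hZ (hN _ hZ.1))
          (isPGroup_autGroup_mono (normalizerSystem_le _) (hN _ hZ.1) hZ.1 hp)
          (hcov.mono (normalizerIn_eq_of_le hTV) (normalizerSystem_le _))
          (size_normalizerSystem_lt _ fun h => hYV.not_ge (CfsgLib.FusionQuot.le_core _ h)) P
      · by_cases hC : centralizerIn T E.core ≤ E.core
        · exact hcons E Z hE hZ hp hlt hC hcov hrec
        have hU : E.core ⊔ centralizerIn T E.core ≤ T := sup_le hY.1 (centralizerIn_le T _)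
        have hTU : T ≤ Subgroup.normalizer ((E.core ⊔ centralizerIn T E.core : Subgroup Ω) : Set Ω) :=
          fun g hg => mem_normalizer_sup (hTY hg)
            (mem_normalizer_inf (Subgroup.le_normalizer hg) (mem_normalizer_centralizer (hTY hg)))
        have hfn := isFullyNormalized_of_le_normalizer (E := E) hU hTU
        have hN : ∀ Y' : Subgroup Ω, Y' ≤ T → Y' ≤ normalizerIn T (E.core ⊔ centralizerIn T E.core) :=
          fun Y' h => by rwa [normalizerIn_eq_of_le hTU]
        refine le_of_tc_of_normalizer hT hE.2.1 hY hU ?_ ?_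
        · push Not at htc
          obtain ⟨P, hP⟩ := htc
          obtain ⟨φ, hφ, hn⟩ := Set.not_subset.1 hP
          exact hrec (tcSystem E E.core hY) Z (isLocal_tcSystem hS hE hY) (isNormal_tcSystem hY hZ)
            (isPGroup_autGroup_mono (tcSystem_le _ hY) hZ.1 hZ.1 hp)
            (hcov.mono rfl (tcSystem_le _ hY)) (size_lt (tcSystem_le _ hY) hφ hn)
        · exact hrec _ Z (isLocal_normalizerSystem hS hE hfn (hN _ hY.1))
            (isNormal_normalizerSystem hU hZ (hN _ hZ.1))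
            (isPGroup_autGroup_mono (normalizerSystem_le _) (hN _ hZ.1) hZ.1 hp)
            (hcov.mono (normalizerIn_eq_of_le hTU) (normalizerSystem_le _))
            (size_normalizerSystem_lt _ fun h =>
              hC (le_sup_right.trans (CfsgLib.FusionQuot.le_core _ h)))

/-- The control theorem for the whole system. -/
theorem control_top [Finite S] [Fact p.Prime] (hS : IsPGroup p S) (hF : F.IsSaturated p)
    (hCh : IsGoodChoice S Ch)
    (hcons : ∀ {T : Subgroup Ω} (E : Cfsg.FusionSystem T) (Z : Subgroup Ω), IsLocal F p E →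
      E.IsNormal Z → IsPGroup p (E.autGroup Z) → Z < E.core →
      centralizerIn T E.core ≤ E.core → Covered G Ch E Z →
      (∀ {T' : Subgroup Ω} (E' : Cfsg.FusionSystem T') (Z' : Subgroup Ω), IsLocal F p E' →
        E'.IsNormal Z' → IsPGroup p (E'.autGroup Z') → Covered G Ch E' Z' →
        size E' < size E → E'.IsSubsystemOf G) →
      E.IsSubsystemOf G)
    (hcov : ⊥ < S → ∀ U ∈ Ch ⊥ S, ∀ P, F.normalizerHom U P ⊆ G.Hom P) : F.IsSubsystemOf G := by
  refine control hS hCh hcons (isLocal_self hF) (Z := ⊥) ⟨bot_le, fun P φ hφ => ?_⟩ ?_ hcov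
  · refine ⟨φ.comp (Subgroup.inclusion (sup_le le_rfl bot_le)), restrict_mem hφ _, fun x => rfl, ?_⟩
    ext y
    rw [mem_map_subgroupOf]
    constructor
    · rintro ⟨x, hx, hx1, rfl⟩
      have : (⟨x, hx⟩ : ↥(P ⊔ ⊥)) = 1 := Subtype.ext (Subgroup.mem_bot.1 hx1)
      rw [this, map_one]
      exact one_mem _
    · intro hy
      rw [Subgroup.mem_bot] at hy
      exact ⟨1, one_mem _, one_mem _, by rw [hy]; exact map_one _⟩
  · exact fun a => ⟨0, Subtype.ext (MulEquiv.ext fun x => Subsingleton.elim _ _)⟩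

end CfsgLib.FusionControl
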