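import Cfsg.Agent.Lib.LocalEven.PairSplit
import Cfsg.Agent.Lib.PLocal.SylowAux
import Mathlib.Algebra.CharP.Lemmas

/-!
# Quadratic offenders and pairs generating a group

`exists_pair`: if the normalizer of the subgroup generated by the members of a conjugation-invariant
family in a Sylow subgroup lies in a proper subgroup `M`, some member `B` lies in a subgroup `L` not
inside `M`, all of whose proper subgroups over `B` lie in `M`, while `B` is in no normal `p`-subgroup
of `L`.  `exists_quadratic`: minimal offenders are quadratic of exponent `p`.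
-/

set_option autoImplicit false

namespace CfsgLib.OffenderPair

open CfsgLib.LocalEven.Pair

variable {G : Type*} [Group G]

/-! ### Subgroups all of whose proper overgroups lie in `M` -/

/-- `M` contains every proper subgroup over `B`, and `B` is in no normal `p`-subgroup. -/
structure PairTop (p : ℕ) (M B : Subgroup G) : Prop where
  ne_top : M ≠ ⊤
  le : B ≤ M
  isP : IsPGroup p B
  cover : ∀ R : Subgroup G, B ≤ R → R ≠ ⊤ → R ≤ M
  notNormal : ∀ N : Subgroup G, N.Normal → IsPGroup p N → ¬ B ≤ N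

namespace PairTop

variable {p : ℕ} {M B : Subgroup G} [Finite G] [Fact p.Prime]

theorem sylow_le (h : PairTop p M B) {T : Sylow p G} (hBT : B ≤ (T : Subgroup G)) :
    (T : Subgroup G) ≤ M :=
  h.cover _ hBT fun he => h.notNormal _ (by rw [he]; infer_instance) T.2 hBT

theorem exists_sylow (h : PairTop p M B) :
    ∃ T : Sylow p G, B ≤ (T : Subgroup G) ∧ (T : Subgroup G) ≤ M ∧ ¬ (T : Subgroup G).Normal := by
  obtain ⟨T, hT⟩ := h.isP.exists_le_sylow
  exact ⟨T, hT, h.sylow_le hT, fun hn => h.notNormal _ hn T.2 hT⟩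

theorem isCoatom (h : PairTop p M B) : IsCoatom M :=
  ⟨h.ne_top, fun R hR => by_contra fun hne => hR.not_ge (h.cover R (h.le.trans hR.le) hne)⟩

theorem not_normal (h : PairTop p M B) : ¬ M.Normal := by
  intro hn
  obtain ⟨T, hBT, hTM, hTn⟩ := h.exists_sylow
  have hf := CfsgLib.PLocal.frattini_inf T M
  rw [inf_eq_left.2 hTM] at hf
  have hN : Subgroup.normalizer ((T : Subgroup G) : Set G) ≤ M :=
    h.cover _ (hBT.trans Subgroup.le_normalizer) fun he => hTn (Subgroup.normalizer_eq_top_iff.1 he)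
  rw [sup_eq_left.2 hN] at hf
  exact h.ne_top hf

theorem gen (h : PairTop p M B) {x : G} (hx : x ∉ M) :
    B ⊔ B.map (MulAut.conj x).toMonoidHom = ⊤ := by
  by_contra hne
  have h1 := h.cover _ le_sup_left hne
  have h2 : M ≤ M.map (MulAut.conj x).toMonoidHom := by
    have hBM : B ≤ M.comap (MulAut.conj x).toMonoidHom :=
      Subgroup.map_le_iff_le_comap.1 (le_sup_right.trans h1)
    have hcs : Function.Surjective (MulAut.conj x).toMonoidHom := (MulAut.conj x).surjective
    have hMx : M.comap (MulAut.conj x).toMonoidHom ≤ M := h.cover _ hBM fun he => h.ne_top (by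
      have := congrArg (Subgroup.map (MulAut.conj x).toMonoidHom) he
      rwa [Subgroup.map_comap_eq_self_of_surjective hcs,
        Subgroup.map_top_of_surjective _ hcs] at this)
    calc M = (M.comap (MulAut.conj x).toMonoidHom).map (MulAut.conj x).toMonoidHom :=
          (Subgroup.map_comap_eq_self_of_surjective hcs _).symm
      _ ≤ M.map (MulAut.conj x).toMonoidHom := Subgroup.map_mono hMx
  have h3 : M = M.map (MulAut.conj x).toMonoidHom :=
    Subgroup.eq_of_le_of_card_ge h2 (Subgroup.card_map_of_injective (MulAut.conj x).injective).le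
  refine hx (h.cover (Subgroup.normalizer (M : Set G)) (h.le.trans Subgroup.le_normalizer)
    (fun he => h.not_normal (Subgroup.normalizer_eq_top_iff.1 he)) ?_)
  rw [Subgroup.mem_normalizer_iff]
  intro y
  constructor
  · exact fun hy => h3.ge ⟨y, hy, rfl⟩
  · intro hy
    obtain ⟨z, hz, hzy⟩ := h3.le hy
    have hzy' : (MulAut.conj x) z = (MulAut.conj x) y := hzy
    rwa [← (MulAut.conj x).injective hzy']

/-- The image in the quotient by a normal subgroup `K ≤ M`. -/
theorem map {H : Type*} [Group H] [Finite H] (h : PairTop p M B) (π : G →* H)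
    (hπ : Function.Surjective π) (hK : π.ker ≤ M)
    (hnn : ∀ N : Subgroup H, N.Normal → IsPGroup p N → ¬ B.map π ≤ N) :
    PairTop p (M.map π) (B.map π) := by
  have hc : (M.map π).comap π = M := Subgroup.comap_map_eq_self hK
  refine ⟨fun he => h.ne_top ?_, Subgroup.map_mono h.le, h.isP.map π, fun R hBR hR => ?_, hnn⟩
  · rw [← hc, he, Subgroup.comap_top]
  · have h1 : R.comap π ≤ M := h.cover _ (Subgroup.map_le_iff_le_comap.1 hBR) fun he => hR (by
      rw [← Subgroup.map_comap_eq_self_of_surjective hπ R, he, Subgroup.map_top_of_surjective _ hπ])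
    rw [← Subgroup.map_comap_eq_self_of_surjective hπ R]
    exact Subgroup.map_mono h1

/-- A normal subgroup `K` with `BK` proper lies in `M`. -/
theorem le_of_sup_ne (h : PairTop p M B) {K : Subgroup G} (hK : B ⊔ K ≠ ⊤) : K ≤ M :=
  le_sup_right.trans (h.cover _ le_sup_left hK)

/-- Modulo a normal subgroup `K ≤ M` containing all normal `p`-subgroups the `p`-core is trivial. -/
theorem quotient_core_eq_bot {H : Type*} [Group H] [Finite H] (h : PairTop p M B) (π : G →* H)
    (hπ : Function.Surjective π) (hK : π.ker ≤ M)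
    (hN : ∀ N : Subgroup G, N.Normal → IsPGroup p N → N ≤ π.ker)
    {Y : Subgroup H} (hY : Y.Normal) (hYp : IsPGroup p Y) : Y = ⊥ := by
  obtain ⟨T, hBT, hTM, -⟩ := h.exists_sylow
  have hX : (Y.comap π).Normal := hY.comap π
  have hYT : Y ≤ (T : Subgroup G).map π := by
    obtain ⟨T', hT'⟩ : ∃ T' : Sylow p H, (T' : Subgroup H) = (T : Subgroup G).map π :=
      ⟨T.mapSurjective hπ, rfl⟩
    have h1 : IsPGroup p ((Y ⊔ T' : Subgroup H)) := IsPGroup.to_sup_of_normal_left hYp T'.2
    rw [← hT', ← T'.3 h1 le_sup_right]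
    exact le_sup_left
  have hXe : Y.comap π ≤ π.ker ⊔ ((T : Subgroup G) ⊓ Y.comap π) := by
    intro g hg
    obtain ⟨t, ht, htg⟩ := hYT hg
    have h1 : g * t⁻¹ ∈ π.ker := by
      rw [MonoidHom.mem_ker, map_mul, map_inv, htg, mul_inv_cancel]
    have h2 : t ∈ Y.comap π := by
      rw [Subgroup.mem_comap, htg]
      exact hg
    have h3 := Subgroup.mul_mem_sup h1 (show t ∈ (T : Subgroup G) ⊓ Y.comap π from ⟨ht, h2⟩)
    rwa [inv_mul_cancel_right] at h3
  have hXX : Y.comap π = π.ker ⊔ ((T : Subgroup G) ⊓ Y.comap π) :=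
    le_antisymm hXe (sup_le (fun g hg => by
      rw [Subgroup.mem_comap, MonoidHom.mem_ker.1 hg]; exact one_mem _) inf_le_right)
  have hf := CfsgLib.PLocal.frattini_inf T (Y.comap π)
  set Nm := Subgroup.normalizer (((T : Subgroup G) ⊓ Y.comap π : Subgroup G) : Set G) with hNm
  have hsub : (T : Subgroup G) ⊓ Y.comap π ≤ Nm := Subgroup.le_normalizer
  have hf' : π.ker ⊔ Nm = ⊤ := by
    rw [eq_top_iff, ← hf]
    refine sup_le ?_ le_sup_right
    exact hXX.le.trans (sup_le le_sup_left (hsub.trans le_sup_right))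
  have hBN : B ≤ Nm := hBT.trans fun t ht => by
    rw [hNm, Subgroup.mem_normalizer_iff]
    intro y
    simp only [Subgroup.mem_inf, SetLike.mem_coe]
    constructor
    · rintro ⟨hy1, hy2⟩
      exact ⟨mul_mem (mul_mem ht hy1) (inv_mem ht), hX.conj_mem y hy2 t⟩
    · rintro ⟨hy1, hy2⟩
      have h1 := mul_mem (mul_mem (inv_mem ht) hy1) ht
      have h2 := hX.conj_mem _ hy2 t⁻¹
      simp only [mul_assoc, inv_mul_cancel, mul_one, inv_mul_cancel_left, inv_inv] at h1 h2
      exact ⟨h1, h2⟩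
  have htop : Nm = ⊤ := by
    by_contra hne
    exact h.ne_top (top_le_iff.1 (hf'.ge.trans (sup_le hK (h.cover _ hBN hne))))
  have hD : (T : Subgroup G) ⊓ Y.comap π ≤ π.ker :=
    hN _ (Subgroup.normalizer_eq_top_iff.1 htop) (T.2.to_le inf_le_left)
  rw [sup_eq_left.2 hD] at hXX
  rw [eq_bot_iff, ← Subgroup.map_comap_eq_self_of_surjective hπ Y, hXX,
    Subgroup.map_le_iff_le_comap]
  exact fun g hg => by rw [Subgroup.mem_comap, MonoidHom.mem_ker.1 hg]; exact one_mem _

end PairTop

/-- The join of the members of `ℱ` inside `X`. -/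
def famJoin (ℱ : Set (Subgroup G)) (X : Subgroup G) : Subgroup G := sSup {F | F ∈ ℱ ∧ F ≤ X}

theorem famJoin_le (ℱ : Set (Subgroup G)) (X : Subgroup G) : famJoin ℱ X ≤ X :=
  sSup_le fun _ hF => hF.2

theorem le_famJoin {ℱ : Set (Subgroup G)} {F X : Subgroup G} (hF : F ∈ ℱ) (h : F ≤ X) :
    F ≤ famJoin ℱ X := le_sSup ⟨hF, h⟩

theorem famJoin_map_le {ℱ : Set (Subgroup G)}
    (hconj : ∀ F ∈ ℱ, ∀ g : G, F.map (MulAut.conj g).toMonoidHom ∈ ℱ) (g : G) (X : Subgroup G) :
    (famJoin ℱ X).map (MulAut.conj g).toMonoidHom ≤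
      famJoin ℱ (X.map (MulAut.conj g).toMonoidHom) := by
  rw [Subgroup.map_le_iff_le_comap]
  refine sSup_le fun F hF => ?_
  rw [← Subgroup.map_le_iff_le_comap]
  exact le_famJoin (hconj F hF.1 g) (Subgroup.map_mono hF.2)

theorem normalizer_le_normalizer_famJoin {ℱ : Set (Subgroup G)}
    (hconj : ∀ F ∈ ℱ, ∀ g : G, F.map (MulAut.conj g).toMonoidHom ∈ ℱ) (X : Subgroup G) :
    Subgroup.normalizer (X : Set G) ≤ Subgroup.normalizer (famJoin ℱ X : Set G) := by
  have key : ∀ g ∈ Subgroup.normalizer (X : Set G), ∀ y ∈ famJoin ℱ X,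
      g * y * g⁻¹ ∈ famJoin ℱ X := by
    intro g hg y hy
    have h1 := famJoin_map_le hconj g X ⟨y, hy, rfl⟩
    rwa [CfsgLib.PLocal.map_conj_eq_of_mem_normalizer hg] at h1
  intro g hg
  rw [Subgroup.mem_normalizer_iff]
  refine fun y => ⟨key g hg y, fun hy => ?_⟩
  have h1 := key g⁻¹ (inv_mem hg) _ hy
  simpa [mul_assoc] using h1

/-- The pair lemma. -/
theorem exists_pair [Finite G] {p : ℕ} [Fact p.Prime] {M : Subgroup G} (hM : M ≠ ⊤)
    (P : Sylow p G) (hPM : (P : Subgroup G) ≤ M) (ℱ : Set (Subgroup G))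
    (hconj : ∀ F ∈ ℱ, ∀ g : G, F.map (MulAut.conj g).toMonoidHom ∈ ℱ)
    (hN : Subgroup.normalizer (famJoin ℱ (P : Subgroup G) : Set G) ≤ M) :
    ∃ L B : Subgroup G, B ∈ ℱ ∧ B ≤ L ∧
      PairTop p (M.subgroupOf L) (B.subgroupOf L) := by
  classical
  let 𝓡 : Set (Subgroup G) := {R | R ≤ (P : Subgroup G) ∧ famJoin ℱ R = R ∧
    ¬ Subgroup.normalizer (R : Set G) ≤ M}
  have h0 : (⊥ : Subgroup G) ∈ 𝓡 := ⟨bot_le, le_bot_iff.1 (famJoin_le ℱ ⊥), fun h => hM (top_le_iff.1
    ((Subgroup.normalizer_eq_top (H := (⊥ : Subgroup G))).ge.trans h))⟩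
  obtain ⟨R, hR, hRmax⟩ := Set.exists_max_image 𝓡 (fun R => Nat.card R) (Set.toFinite _) ⟨⊥, h0⟩
  obtain ⟨hRP, hRF, hRN⟩ := hR
  set N := (P : Subgroup G) ⊓ Subgroup.normalizer (R : Set G) with hNdef
  have hRle : R ≤ N := le_inf hRP Subgroup.le_normalizer
  obtain ⟨B, hB, hBN, hBR⟩ : ∃ B ∈ ℱ, B ≤ N ∧ ¬ B ≤ R := by
    by_contra hcon
    push Not at hcon
    have hJ : famJoin ℱ N = R := le_antisymm (sSup_le fun F hF => hcon F hF.1 hF.2)
      (hRF.ge.trans (sSup_le fun F hF => le_famJoin hF.1 (hF.2.trans hRle)))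
    have hNP : N = (P : Subgroup G) := by
      by_contra hne
      have hlt : N.subgroupOf (P : Subgroup G) < ⊤ := by
        rw [lt_top_iff_ne_top, Ne, Subgroup.subgroupOf_eq_top]
        exact fun h => hne (le_antisymm inf_le_left h)
      have : Group.IsNilpotent (P : Subgroup G) := P.2.isNilpotent
      have h2 := Group.normalizerCondition_of_isNilpotent (G := (P : Subgroup G)) _ hlt
      obtain ⟨g, hgn, hgN⟩ := Set.exists_of_ssubset h2
      refine hgN ?_
      refine Subgroup.mem_subgroupOf.2 ⟨g.2, ?_⟩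
      have hgN' : (g : G) ∈ Subgroup.normalizer (N : Set G) := by
        rw [Subgroup.mem_normalizer_iff]
        intro y
        constructor
        · intro hy
          exact (Subgroup.mem_normalizer_iff.1 hgn ⟨y, hy.1⟩).1 hy
        · intro hy
          have hy' : y ∈ (P : Subgroup G) := by
            have h3 := mul_mem (mul_mem (inv_mem g.2) hy.1) g.2
            simpa [mul_assoc] using h3
          exact (Subgroup.mem_normalizer_iff.1 hgn ⟨y, hy'⟩).2 hy
      exact hJ ▸ normalizer_le_normalizer_famJoin hconj N hgN'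
    exact hRN (by rw [← hJ, hNP]; exact hN)
  obtain ⟨L, hLmin, hLle⟩ : ∃ L, (L ∈ {L : Subgroup G | L ≤ Subgroup.normalizer (R : Set G) ∧
      B ≤ L ∧ ¬ L ≤ M}) ∧ ∀ L', (L' ∈ {L : Subgroup G | L ≤ Subgroup.normalizer (R : Set G) ∧
      B ≤ L ∧ ¬ L ≤ M}) → Nat.card L ≤ Nat.card L' :=
    Set.exists_min_image {L : Subgroup G | L ≤ Subgroup.normalizer (R : Set G) ∧ B ≤ L ∧ ¬ L ≤ M}
      (fun L => Nat.card L) (Set.toFinite _)
      ⟨_, le_rfl, hBN.trans inf_le_right, hRN⟩
  obtain ⟨hLR, hBL, hLM⟩ := hLmin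
  have hmin : ∀ K : Subgroup G, B ≤ K → K ≤ L → K ≠ L → K ≤ M := by
    intro K hBK hKL hne
    by_contra h
    exact hne (Subgroup.eq_of_le_of_card_ge hKL (hLle K ⟨hKL.trans hLR, hBK, h⟩))
  have hBM : B ≤ M := (hBN.trans inf_le_left).trans hPM
  -- no `p`-subgroup of `M ∩ L` containing `B` is normalized by `L`
  have hnoY : ∀ Y : Subgroup G, Y ≤ L → Y ≤ M → B ≤ Y → IsPGroup p Y →
      L ≤ Subgroup.normalizer (Y : Set G) → False := by
    intro Y hYL hYM hBY hYp hLY
    have hYN : Y ≤ Subgroup.normalizer (R : Set G) := hYL.trans hLR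
    have hZp : IsPGroup p (R ⊔ Y : Subgroup G) :=
      (P.2.to_le hRP).to_sup_of_normal_left' hYp hYN
    have hZM : R ⊔ Y ≤ M := sup_le (hRP.trans hPM) hYM
    set R' := famJoin ℱ (R ⊔ Y) with hR'
    have hLN : L ≤ Subgroup.normalizer (R' : Set G) := by
      refine le_trans (fun l hl => ?_) (normalizer_le_normalizer_famJoin hconj (R ⊔ Y))
      refine CfsgLib.PLocal.mem_normalizer_of_map_conj_eq ?_
      rw [Subgroup.map_sup, CfsgLib.PLocal.map_conj_eq_of_mem_normalizer (hLR hl),
        CfsgLib.PLocal.map_conj_eq_of_mem_normalizer (hLY hl)]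
    have hBR' : B ≤ R' := le_famJoin hB (hBY.trans le_sup_right)
    have hRR' : R ≤ R' := hRF.ge.trans (sSup_le fun F hF => le_famJoin hF.1 (hF.2.trans le_sup_left))
    obtain ⟨Q, hQ⟩ := (IsPGroup.of_equiv hZp
      (Subgroup.subgroupOfEquivOfLe hZM).symm).exists_le_sylow
    obtain ⟨m, hm⟩ := MulAction.exists_smul_eq M Q (P.subtype hPM)
    set c := (MulAut.conj (m : G)).toMonoidHom with hc
    have hmP : (R ⊔ Y).map c ≤ (P : Subgroup G) := by
      rintro _ ⟨y, hy, rfl⟩
      have h1 : (⟨y, hZM hy⟩ : M) ∈ (Q : Subgroup M) := hQ hy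
      have h2 : m * ⟨y, hZM hy⟩ * m⁻¹ ∈ ((P.subtype hPM : Sylow p M) : Subgroup M) := by
        rw [← hm, Sylow.coe_subgroup_smul]
        exact ⟨_, h1, rfl⟩
      exact h2
    have h1 : R'.map c ∈ 𝓡 := by
      refine ⟨(Subgroup.map_mono (famJoin_le ℱ _)).trans hmP, ?_, fun hle => hLM fun l hl => ?_⟩
      · refine le_antisymm (famJoin_le _ _) ?_
        rw [Subgroup.map_le_iff_le_comap]
        refine sSup_le fun F hF => ?_
        rw [← Subgroup.map_le_iff_le_comap]
        exact le_famJoin (hconj F hF.1 _) (Subgroup.map_mono (le_famJoin hF.1 hF.2))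
      · have h3 : (m : G) * l * (m : G)⁻¹ ∈ Subgroup.normalizer (R'.map c : Set G) := by
          rw [hc, ← Subgroup.map_equiv_normalizer_eq]
          exact ⟨l, hLN hl, rfl⟩
        have h4 := hle h3
        have h5 := mul_mem (mul_mem (inv_mem m.2) h4) m.2
        simpa [mul_assoc] using h5
    have h2 := hRmax _ h1
    have h3 : Nat.card (R'.map c) = Nat.card R' :=
      Subgroup.card_map_of_injective (MulAut.conj (m : G)).injective
    exact hBR (hBR'.trans (Subgroup.eq_of_le_of_card_ge hRR' (by omega)).ge)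
  refine ⟨L, B, hB, hBL, ⟨fun he => hLM (Subgroup.subgroupOf_eq_top.1 he), fun y hy => hBM hy,
    (P.2.to_le (hBN.trans inf_le_left)).of_equiv (Subgroup.subgroupOfEquivOfLe hBL).symm,
    fun K hBK hK y hy => ?_, fun N hN hNp hBN' => ?_⟩⟩
  · have h1 : B ≤ K.map L.subtype := fun b hb => ⟨⟨b, hBL hb⟩, hBK hb, rfl⟩
    exact hmin _ h1 (Subgroup.map_subtype_le _) (fun he => hK (by
      refine Subgroup.map_injective L.subtype_injective ?_
      rw [he, ← MonoidHom.range_eq_map, Subgroup.range_subtype])) ⟨y, hy, rfl⟩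
  · have hBN'' : B ≤ N.map L.subtype := fun b hb => ⟨⟨b, hBL hb⟩, hBN' hb, rfl⟩
    have hnorm : L ≤ Subgroup.normalizer ((N.map L.subtype : Subgroup G) : Set G) := by
      have h1 := Subgroup.le_normalizer_map (H := N) L.subtype
      rw [Subgroup.normalizer_eq_top_iff.2 hN, ← MonoidHom.range_eq_map, Subgroup.range_subtype] at h1
      exact h1
    by_cases hNL : N = ⊤
    · -- `L` is a `p`-group
      have hLp : IsPGroup p L := (hNL ▸ hNp).of_equiv Subgroup.topEquiv
      set W := M ⊓ L with hW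
      have : Group.IsNilpotent L := hLp.isNilpotent
      have hlt : W.subgroupOf L < ⊤ := by
        rw [lt_top_iff_ne_top, Ne, Subgroup.subgroupOf_eq_top]
        exact fun h => hLM (h.trans inf_le_left)
      obtain ⟨g, hgn, hgW⟩ := Set.exists_of_ssubset
        (Group.normalizerCondition_of_isNilpotent (G := L) _ hlt)
      have hgn' : (g : G) ∈ L ⊓ Subgroup.normalizer (W : Set G) := by
        refine ⟨g.2, ?_⟩
        show (g : G) ∈ Subgroup.normalizer (W : Set G)
        rw [Subgroup.mem_normalizer_iff]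
        intro y
        constructor
        · intro hy
          exact (Subgroup.mem_normalizer_iff.1 hgn ⟨y, hy.2⟩).1 hy
        · intro hy
          have hy' : y ∈ L := by
            have h3 := mul_mem (mul_mem (inv_mem g.2) hy.2) g.2
            simpa [mul_assoc] using h3
          exact (Subgroup.mem_normalizer_iff.1 hgn ⟨y, hy'⟩).2 hy
      have hall : L ⊓ Subgroup.normalizer (W : Set G) = L := by
        by_contra hne
        have h1 := hmin _ (le_inf hBL ((le_inf hBM hBL : B ≤ W).trans Subgroup.le_normalizer))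
          inf_le_left hne hgn'
        exact hgW (Subgroup.mem_subgroupOf.2 ⟨h1, g.2⟩)
      exact hnoY W inf_le_right inf_le_left (le_inf hBM hBL) (hLp.to_le inf_le_right)
        (hall.ge.trans inf_le_right)
    · refine hnoY _ (Subgroup.map_subtype_le _) (hmin _ hBN'' (Subgroup.map_subtype_le _) fun he => hNL
        (Subgroup.map_injective L.subtype_injective (by
          rw [he, ← MonoidHom.range_eq_map, Subgroup.range_subtype]))) hBN'' (hNp.map L.subtype) hnorm

/-! ### Actions on abelian groups -/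

variable {V : Type*} [AddCommGroup V] (ρ : G →* AddMonoid.End V)

theorem fix_anti {X Y : Subgroup G} (h : X ≤ Y) : fix ρ Y ≤ fix ρ X := fun _ hv x hx => hv x (h hx)

/-- The offender measure `|X| |C_V(X)|`. -/
noncomputable def meas (X : Subgroup G) : ℕ := Nat.card X * Nat.card (fix ρ X)

theorem fix_bot : fix ρ (⊥ : Subgroup G) = ⊤ := by
  rw [eq_top_iff]
  intro v _ x hx
  rw [Subgroup.mem_bot.1 hx, act_one]

theorem meas_bot : meas ρ (⊥ : Subgroup G) = Nat.card V := by
  rw [meas, Subgroup.card_bot, one_mul, fix_bot, AddSubgroup.card_top]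

theorem card_fix_map_conj [Finite V] (X : Subgroup G) (g : G) :
    Nat.card (fix ρ (X.map (MulAut.conj g).toMonoidHom)) = Nat.card (fix ρ X) :=
  Nat.card_congr
    { toFun := fun v => ⟨ρ g⁻¹ v, (mem_fix_conj ρ).1 v.2⟩
      invFun := fun v => ⟨ρ g v, (mem_fix_conj ρ).2 (by rw [act_inv_act]; exact v.2)⟩
      left_inv := fun v => Subtype.ext (act_act_inv ρ g v)
      right_inv := fun v => Subtype.ext (act_inv_act ρ g v) }

theorem meas_map_conj [Finite V] (X : Subgroup G) (g : G) :
    meas ρ (X.map (MulAut.conj g).toMonoidHom) = meas ρ X := by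
  rw [meas, meas, card_fix_map_conj,
    Subgroup.card_map_of_injective (MulAut.conj g).injective]

/-- Indices of fixed points can only drop in an invariant subgroup. -/
theorem card_fix_inf_mul [Finite V] {X B : Subgroup G} (h : X ≤ B) (D : AddSubgroup V) :
    Nat.card ↥(D ⊓ fix ρ X) * Nat.card (fix ρ B) ≤
      Nat.card (fix ρ X) * Nat.card ↥(D ⊓ fix ρ B) :=
  CfsgLib.LocalEven.Pair.card_mul_card_le inf_le_right (fix_anti ρ h)
    fun _ h1 h2 => ⟨h1.1, h2⟩

theorem act_sub_one (g : G) (v : V) : (ρ g - 1) v = ρ g v - v := rfl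

/-- A `p`-element acts unipotently. -/
theorem isNilpotent_sub_one {p : ℕ} [Fact p.Prime] {m : ℕ} (hV : ∀ v : V, p ^ m • v = 0) {b : G}
    (hb : ∃ j, b ^ p ^ j = 1) : IsNilpotent (ρ b - 1) := by
  obtain ⟨j, hj⟩ := hb
  set N := ρ b - 1 with hN
  obtain ⟨r, hr⟩ := Commute.exists_add_pow_prime_pow_eq (Fact.out : p.Prime) (Commute.one_right N) j
  rw [one_pow, show N + 1 = ρ b by rw [hN, sub_add_cancel], ← map_pow, hj, map_one] at hr
  have hNp : N ^ p ^ j = -((p : AddMonoid.End V) * N * 1 * r) := by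
    rw [eq_neg_iff_add_eq_zero]
    have h1 := sub_eq_zero.2 hr.symm
    rw [← h1]
    abel
  have hp : IsNilpotent (p : AddMonoid.End V) := by
    refine ⟨m, AddMonoidHom.ext fun v => ?_⟩
    rw [← Nat.cast_pow]
    show ((p ^ m : ℕ) : AddMonoid.End V) v = 0
    rw [AddMonoid.End.natCast_apply]
    exact hV v
  obtain ⟨n, hn⟩ := (Commute.isNilpotent_mul_right (Nat.cast_commute p (N * 1 * r)) hp : IsNilpotent
    ((p : AddMonoid.End V) * (N * 1 * r))).neg
  refine ⟨p ^ j * n, ?_⟩
  rw [pow_mul, hNp, mul_assoc (p : AddMonoid.End V), mul_assoc (p : AddMonoid.End V)]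
  exact hn

variable {ρ}

theorem act_comm {a b : G} (h : a * b = b * a) (v : V) : ρ a (ρ b v) = ρ b (ρ a v) := by
  rw [← act_mul, ← act_mul, h]

/-- Minimal offenders act quadratically, and `p`-power commutators vanish. -/
theorem exists_quadratic [Finite G] [Finite V] {p : ℕ} [Fact p.Prime] {m : ℕ}
    (hV : ∀ v : V, p ^ m • v = 0) (hρ : Function.Injective ρ) {B : Subgroup G} (hBp : IsPGroup p B)
    (hBc : ∀ a ∈ B, ∀ b ∈ B, a * b = b * a) (hB1 : B ≠ ⊥) (hoff : Nat.card V ≤ meas ρ B)
    (hmin : ∀ X, X ≤ B → X ≠ ⊥ → X ≠ B → meas ρ X < Nat.card V) :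
    (∀ a ∈ B, ∀ b ∈ B, ∀ v, ρ b (ρ a v - v) = ρ a v - v) ∧
      (∀ b ∈ B, b ^ p = 1) ∧ ∀ b ∈ B, ∀ v, p • (ρ b v - v) = 0 := by
  classical
  -- Thompson replacement
  have hquad : ∀ a ∈ B, ∀ b ∈ B, ∀ v, ρ b (ρ a v - v) = ρ a v - v := by
    by_contra hnq
    push Not at hnq
    obtain ⟨a₀, ha₀, b₀, hb₀, v, hv⟩ := hnq
    let B' : Subgroup G :=
      { carrier := {b | b ∈ B ∧ ∀ a ∈ B, ρ b (ρ a v - v) = ρ a v - v}
        one_mem' := ⟨one_mem _, fun a _ => act_one ρ _⟩
        mul_mem' := fun {x y} hx hy => ⟨mul_mem hx.1 hy.1, fun a ha => by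
          rw [act_mul, hy.2 a ha, hx.2 a ha]⟩
        inv_mem' := fun {x} hx => ⟨inv_mem hx.1, fun a ha => by
          conv_lhs => rw [← hx.2 a ha]
          exact act_inv_act ρ x _⟩ }
    have hB'le : B' ≤ B := fun x hx => hx.1
    let U : AddSubgroup V := AddSubgroup.closure {y | ∃ a ∈ B, ρ a v - v = y} ⊔ fix ρ B
    have hUfix : U ≤ fix ρ B' := by
      refine sup_le ((AddSubgroup.closure_le _).2 ?_) (fix_anti ρ hB'le)
      rintro _ ⟨a, ha, rfl⟩ b hb
      exact hb.2 a ha
    let δ : B → U ⧸ (fix ρ B).addSubgroupOf U := fun b => QuotientAddGroup.mk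
      ⟨ρ b v - v, AddSubgroup.mem_sup_left (AddSubgroup.subset_closure ⟨b, b.2, rfl⟩)⟩
    have hδ : ∀ a b : B, δ a = δ b → (a : G)⁻¹ * b ∈ B' := by
      intro a b h
      have h1 : -(ρ (a : G) v - v) + (ρ (b : G) v - v) ∈ fix ρ B :=
        (QuotientAddGroup.eq (s := (fix ρ B).addSubgroupOf U)).1 h
      set c : G := (a : G)⁻¹ * b with hc
      have hcB : c ∈ B := mul_mem (inv_mem a.2) b.2
      have h2 : -(ρ (a : G) v - v) + (ρ (b : G) v - v) = ρ (a : G) (ρ c v - v) := by
        rw [map_sub, hc, act_mul, act_act_inv]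
        abel
      have h3 : ρ c v - v ∈ fix ρ B := by
        intro d hd
        apply act_injective ρ (a : G)
        rw [act_comm (hBc _ a.2 _ hd), ← h2]
        exact h1 d hd
      refine ⟨hcB, fun d hd => ?_⟩
      have h4 : ρ d (ρ c v - v) = ρ c v - v := h3 d hd
      rw [map_sub, act_comm (hBc _ hd _ hcB)] at h4
      rw [map_sub]
      have h5 := h4
      rw [sub_eq_sub_iff_add_eq_add] at h5 ⊢
      rw [h5]
      abel
    have hcard : Nat.card B ≤ Nat.card B' * Nat.card (U ⧸ (fix ρ B).addSubgroupOf U) := by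
      rw [mul_comm, ← Nat.card_prod]
      let f : B → (U ⧸ (fix ρ B).addSubgroupOf U) × B' := fun b =>
        (δ b, ⟨((Classical.choose (⟨b, rfl⟩ : ∃ a, δ a = δ b) : B) : G)⁻¹ * b,
          hδ _ _ (Classical.choose_spec (⟨b, rfl⟩ : ∃ a, δ a = δ b))⟩)
      refine Nat.card_le_card_of_injective f fun x y h => ?_
      obtain ⟨h1, h2⟩ := Prod.ext_iff.1 h
      have h2' := congrArg Subtype.val h2
      simp only [f] at h1 h2'
      have hch : ∀ {q q' : U ⧸ (fix ρ B).addSubgroupOf U} (hq : ∃ a, δ a = q) (hq' : ∃ a, δ a = q'),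
          q = q' → Classical.choose hq = Classical.choose hq' := by
        rintro q q' hq hq' rfl
        rfl
      rw [hch ⟨x, rfl⟩ ⟨y, rfl⟩ h1] at h2'
      exact Subtype.ext (mul_left_cancel h2')
    have hle : meas ρ B ≤ Nat.card B' * Nat.card U := by
      rw [meas]
      refine (Nat.mul_le_mul_right _ hcard).trans (le_of_eq ?_)
      rw [mul_assoc]
      congr 1
      rw [AddSubgroup.card_eq_card_quotient_mul_card_addSubgroup ((fix ρ B).addSubgroupOf U)]
      congr 1
      exact Nat.card_congr (AddSubgroup.addSubgroupOfEquivOfLe (le_sup_right : fix ρ B ≤ U)).symm.toEquiv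
    by_cases hB' : B' = ⊥
    · -- then `V = [v, B] + C_V(B)`
      have hUtop : U = ⊤ := AddSubgroup.eq_top_of_le_card _ (by
        have h1 := hoff.trans hle
        rwa [hB', Subgroup.card_bot, one_mul] at h1)
      let D : AddSubgroup V := AddSubgroup.closure {y | ∃ a ∈ B, ∃ w, ρ a w - w = y}
      have hVD : (⊤ : AddSubgroup V) ≤ D ⊔ fix ρ B := by
        rw [← hUtop]
        refine sup_le_sup_right ((AddSubgroup.closure_le _).2 ?_) _
        rintro _ ⟨a, ha, rfl⟩
        exact AddSubgroup.subset_closure ⟨a, ha, v, rfl⟩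
      let img : G → AddSubgroup V := fun a => D.map (ρ a - 1 : AddMonoid.End V)
      have hDimg : D ≤ (B : Set G).toFinite.toFinset.sup img := by
        refine (AddSubgroup.closure_le _).2 ?_
        rintro _ ⟨a, ha, w, rfl⟩
        obtain ⟨d, hd, c, hc, rfl⟩ := AddSubgroup.mem_sup.1 (hVD (AddSubgroup.mem_top w))
        refine Finset.le_sup (f := img) ((B : Set G).toFinite.mem_toFinset.2 ha) ⟨d, hd, ?_⟩
        show ρ a d - d = _
        rw [map_add, hc a ha]
        abel
      have hDinv : ∀ a ∈ B, ∀ d ∈ D, (ρ a - 1) d ∈ D := fun a ha d _ =>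
        AddSubgroup.subset_closure ⟨a, ha, d, rfl⟩
      have key : ∀ s : Finset G, (∀ a ∈ s, a ∈ B) → D ≤ s.sup img → D = ⊥ := by
        intro s
        induction s using Finset.induction_on with
        | empty => exact fun _ h => le_bot_iff.1 (by simpa using h)
        | insert x s hxs ih =>
          intro hs h
          rw [Finset.sup_insert] at h
          refine ih (fun a ha => hs a (Finset.mem_insert_of_mem ha)) ?_
          obtain ⟨n, hn⟩ := isNilpotent_sub_one ρ hV (b := x) (by
            obtain ⟨j, hj⟩ := hBp ⟨x, hs x (Finset.mem_insert_self _ _)⟩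
            exact ⟨j, congrArg Subtype.val hj⟩)
          have hstable : ∀ d ∈ s.sup img, (ρ x - 1) d ∈ s.sup img := by
            intro d hd
            have : s.sup img ≤ (s.sup img).comap (ρ x - 1 : AddMonoid.End V) := by
              refine Finset.sup_le fun a ha => ?_
              rintro _ ⟨e, he, rfl⟩
              refine Finset.le_sup (f := img) ha ⟨(ρ x - 1) e,
                hDinv x (hs x (Finset.mem_insert_self _ _)) e he, ?_⟩
              show ρ a (ρ x e - e) - (ρ x e - e) = ρ x (ρ a e - e) - (ρ a e - e)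
              rw [map_sub, map_sub, act_comm (hBc _ (hs a (Finset.mem_insert_of_mem ha)) _
                (hs x (Finset.mem_insert_self _ _)))]
              abel
            exact this hd
          have hit : ∀ k : ℕ, D ≤ D.map ((ρ x - 1) ^ k : AddMonoid.End V) ⊔ s.sup img := by
            intro k
            induction k with
            | zero =>
              intro d hd
              exact AddSubgroup.mem_sup_left ⟨d, hd, by rw [pow_zero]; rfl⟩
            | succ k ihk =>
              refine h.trans (sup_le ?_ le_sup_right)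
              rintro _ ⟨d, hd, rfl⟩
              obtain ⟨d₁, ⟨d₂, hd₂, rfl⟩, d₃, hd₃, rfl⟩ := AddSubgroup.mem_sup.1 (ihk hd)
              refine ((map_add (ρ x - 1 : AddMonoid.End V) _ _).symm ▸ AddSubgroup.add_mem_sup ⟨d₂, hd₂, ?_⟩
                (hstable d₃ hd₃))
              rw [pow_succ']
              rfl
          refine (hit n).trans (sup_le ?_ le_rfl)
          rintro _ ⟨d, -, rfl⟩
          rw [hn]
          exact zero_mem _
      have hD0 := key _ (fun a ha => (B : Set G).toFinite.mem_toFinset.1 ha) hDimg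
      have h1 : ρ a₀ v - v ∈ D := AddSubgroup.subset_closure ⟨a₀, ha₀, v, rfl⟩
      rw [hD0, AddSubgroup.mem_bot] at h1
      exact hv (by rw [h1, map_zero])
    · have hne : B' ≠ B := fun h => hv ((h.ge hb₀).2 a₀ ha₀)
      have h1 := hmin B' hB'le hB' hne
      have h2 : Nat.card B' * Nat.card U ≤ meas ρ B' :=
        Nat.mul_le_mul_left _ (Nat.card_le_card_of_injective (fun u : U => (⟨u, hUfix u.2⟩ : fix ρ B'))
          fun a b h => Subtype.ext (congrArg (fun w : fix ρ B' => (w : V)) h))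
      omega
  -- exponent `p`
  have hpow : ∀ b ∈ B, ∀ (n : ℕ) (v : V), ρ (b ^ n) v - v = n • (ρ b v - v) := by
    intro b hb n v
    induction n with
    | zero => rw [pow_zero, act_one, sub_self, zero_nsmul]
    | succ n ih =>
      rw [pow_succ', act_mul, show ρ (b ^ n) v = v + n • (ρ b v - v) by rw [← ih]; abel,
        map_add, map_nsmul, hquad b hb b hb v, succ_nsmul]
      abel
  let B1 : Subgroup G :=
    { carrier := {y | ∃ b ∈ B, b ^ p = y}
      one_mem' := ⟨1, one_mem _, one_pow _⟩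
      mul_mem' := by
        rintro _ _ ⟨a, ha, rfl⟩ ⟨b, hb, rfl⟩
        exact ⟨a * b, mul_mem ha hb, (show Commute a b from hBc a ha b hb).mul_pow p⟩
      inv_mem' := by
        rintro _ ⟨a, ha, rfl⟩
        exact ⟨a⁻¹, inv_mem ha, inv_pow _ _⟩ }
  let B0 : Subgroup G :=
    { carrier := {y | y ∈ B ∧ y ^ p = 1}
      one_mem' := ⟨one_mem _, one_pow _⟩
      mul_mem' := fun {a b} ha hb => ⟨mul_mem ha.1 hb.1, by
        rw [(show Commute a b from hBc a ha.1 b hb.1).mul_pow, ha.2, hb.2, one_mul]⟩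
      inv_mem' := fun {a} ha => ⟨inv_mem ha.1, by rw [inv_pow, ha.2, inv_one]⟩ }
  have hexp : ∀ b ∈ B, b ^ p = 1 := by
    by_contra hne
    push Not at hne
    obtain ⟨b₁, hb₁, hb₁p⟩ := hne
    have hB1ne : B1 ≠ ⊥ := fun h => hb₁p (Subgroup.mem_bot.1 (h.le ⟨b₁, hb₁, rfl⟩))
    have hB0ne : B0 ≠ ⊥ := by
      intro h
      obtain ⟨j, hj⟩ := hBp ⟨b₁, hb₁⟩
      have hj' : b₁ ^ p ^ j = 1 := congrArg Subtype.val hj
      have : ∀ i, b₁ ^ p ^ i = 1 → b₁ = 1 := by
        intro i
        induction i with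
        | zero => exact fun h => by simpa using h
        | succ i ih =>
          intro hi
          refine ih (Subgroup.mem_bot.1 (h.le ⟨pow_mem hb₁ _, ?_⟩))
          rw [← pow_mul, ← pow_succ]
          exact hi
      exact hb₁p (by rw [this j hj', one_pow])
    let φ : B →* B1 :=
      MonoidHom.mk' (fun b => ⟨(b : G) ^ p, b, b.2, rfl⟩) fun a b => Subtype.ext (by
        show ((a : G) * b) ^ p = _
        exact (show Commute (a : G) b from hBc _ a.2 _ b.2).mul_pow p)
    have hφs : Function.Surjective φ := by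
      rintro ⟨_, b, hb, rfl⟩
      exact ⟨⟨b, hb⟩, rfl⟩
    have hφk : Nat.card φ.ker = Nat.card B0 :=
      Nat.card_congr
        { toFun := fun x => ⟨((x : B) : G), (x : B).2, congrArg Subtype.val x.2⟩
          invFun := fun y => ⟨⟨y, y.2.1⟩, Subtype.ext y.2.2⟩
          left_inv := fun x => rfl
          right_inv := fun y => rfl }
    have hBcard : Nat.card B = Nat.card B1 * Nat.card B0 := by
      rw [← hφk, ← φ.ker.index_mul_card, Subgroup.index_ker, MonoidHom.range_eq_top.2 hφs,
        Subgroup.card_top]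
    have hB1le : B1 ≤ B := by
      rintro _ ⟨b, hb, rfl⟩
      exact pow_mem hb p
    have hB0le : B0 ≤ B := fun b hb => hb.1
    have hB1neB : B1 ≠ B := by
      intro h
      rw [h] at hBcard
      have h1 : Nat.card B0 = 1 := by
        have := Nat.card_pos (α := B)
        nlinarith [Nat.card_pos (α := B0)]
      exact hB0ne (Subgroup.eq_bot_of_card_eq _ h1)
    have hB0neB : B0 ≠ B := fun h => hb₁p (h.ge hb₁).2
    -- fixed points
    set f : V →+ V := nsmulAddMonoidHom p with hf
    have h0 : f.range ⊔ fix ρ B ≤ fix ρ B0 := by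
      refine sup_le ?_ (fix_anti ρ hB0le)
      rintro _ ⟨w, rfl⟩ b hb
      rw [hf, nsmulAddMonoidHom_apply, map_nsmul, ← sub_eq_zero, ← smul_sub,
        ← hpow b hb.1 p w, hb.2, act_one, sub_self]
    have h1 : fix ρ B1 = (fix ρ B).comap f := by
      ext w
      constructor
      · intro hw b hb
        rw [hf, nsmulAddMonoidHom_apply, map_nsmul, ← sub_eq_zero, ← smul_sub, ← hpow b hb p w,
          hw _ ⟨b, hb, rfl⟩, sub_self]
      · rintro hw _ ⟨b, hb, rfl⟩
        rw [← sub_eq_zero, hpow b hb p w, smul_sub, ← map_nsmul, sub_eq_zero]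
        exact hw b hb
    have h2 : Nat.card ↥((fix ρ B).comap f) = Nat.card f.ker * Nat.card ↥(f.range ⊓ fix ρ B) := by
      set g := f.comp ((fix ρ B).comap f).subtype with hg
      have hr : g.range = f.range ⊓ fix ρ B := by
        ext w
        constructor
        · rintro ⟨⟨u, hu⟩, rfl⟩
          exact ⟨⟨u, rfl⟩, hu⟩
        · rintro ⟨⟨u, rfl⟩, hu⟩
          exact ⟨⟨u, hu⟩, rfl⟩
      have hk : Nat.card g.ker = Nat.card f.ker :=
        Nat.card_congr
          { toFun := fun x => ⟨((x : ↥((fix ρ B).comap f)) : V), x.2⟩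
            invFun := fun y => ⟨⟨y, by
              rw [AddSubgroup.mem_comap, show f (y : V) = 0 from y.2]; exact zero_mem _⟩, y.2⟩
            left_inv := fun x => rfl
            right_inv := fun y => rfl }
      rw [← hk, ← hr, ← g.ker.index_mul_card, AddSubgroup.index_ker, mul_comm]
    have h3 : Nat.card f.ker * Nat.card f.range = Nat.card V := by
      rw [mul_comm, ← AddSubgroup.index_ker, AddSubgroup.index_mul_card]
    have h4 : Nat.card f.range * Nat.card (fix ρ B) ≤
        Nat.card ↥(f.range ⊔ fix ρ B) * Nat.card ↥(f.range ⊓ fix ρ B) :=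
      CfsgLib.LocalEven.Pair.card_mul_card_le le_sup_left le_sup_right fun _ a b => ⟨a, b⟩
    have h5 : Nat.card ↥(f.range ⊔ fix ρ B) ≤ Nat.card (fix ρ B0) :=
      Nat.card_le_card_of_injective
        (fun u : ↥(f.range ⊔ fix ρ B) => (⟨u, h0 u.2⟩ : fix ρ B0))
        fun a b h => Subtype.ext (congrArg (fun w : fix ρ B0 => (w : V)) h)
    have e1 := hmin B1 hB1le hB1ne hB1neB
    have e0 := hmin B0 hB0le hB0ne hB0neB
    rw [meas] at e1 e0 hoff
    rw [h1, h2] at e1
    have key : Nat.card V * Nat.card V ≤ Nat.card B1 * (Nat.card f.ker * Nat.card ↥(f.range ⊓ fix ρ B)) *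
        (Nat.card B0 * Nat.card (fix ρ B0)) := by
      calc Nat.card V * Nat.card V ≤ Nat.card V * (Nat.card B * Nat.card (fix ρ B)) :=
            Nat.mul_le_mul_left _ hoff
        _ = Nat.card B1 * Nat.card B0 * Nat.card f.ker * (Nat.card f.range * Nat.card (fix ρ B)) := by
            rw [← h3, hBcard]; ring
        _ ≤ Nat.card B1 * Nat.card B0 * Nat.card f.ker *
            (Nat.card (fix ρ B0) * Nat.card ↥(f.range ⊓ fix ρ B)) :=
            Nat.mul_le_mul_left _ (h4.trans (Nat.mul_le_mul_right _ h5))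
        _ = _ := by ring
    exact absurd key (not_le.2 (Nat.mul_lt_mul'' e1 e0))
  exact ⟨hquad, hexp, fun b hb v => by
    rw [← hpow b hb p v, hexp b hb, act_one, sub_self]⟩

end CfsgLib.OffenderPair
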