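import Cfsg.Agent.Lib.FusionControl.AgemoLift
import Cfsg.Agent.Lib.ConjFunctor.FixLocal

/-!
# Quadratic elements of the model fix the `p`-th powers of central elements of the Sylow group
-/

set_option autoImplicit false

namespace CfsgLib.FusionControl

open Cfsg Cfsg.FusionSystem CfsgLib.Fusion
open scoped commutatorElement

universe u

/-- Elements acting quadratically on an abelian normal `p`-subgroup fix the `p`-th powers of its
elements centralized by a Sylow subgroup. -/
theorem commute_pow_of_quadratic {H : Type*} [Group H] [Finite H] {p : ℕ} [Fact p.Prime]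
    (P : Sylow p H) {V : Subgroup H} [V.Normal] (hV : V ≤ Cfsg.pCore p H)
    (hab : ∀ a ∈ V, ∀ b ∈ V, Commute a b) {e : H} (he : ∀ u ∈ V, ⁅e, ⁅e, u⁆⁆ = 1) {v : H}
    (hv : v ∈ V) (hvP : ∀ s ∈ (P : Subgroup H), Commute s v) : Commute e (v ^ p) := by
  have hconjpow : ∀ u ∈ V, ∀ n : ℕ, e ^ n * u * (e ^ n)⁻¹ = ⁅e, u⁆ ^ n * u := by
    intro u hu n
    have hc : Commute e ⁅e, u⁆ := commutatorElement_eq_one_iff_mul_comm.1 (he u hu)
    induction n with
    | zero => simp
    | succ n ih =>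
      calc e ^ (n + 1) * u * (e ^ (n + 1))⁻¹ = e * (e ^ n * u * (e ^ n)⁻¹) * e⁻¹ := by
            rw [pow_succ']; group
        _ = e * ⁅e, u⁆ ^ n * e⁻¹ * (e * u * e⁻¹) := by rw [ih]; group
        _ = ⁅e, u⁆ ^ n * (e * u * e⁻¹) := by rw [(hc.pow_right n).eq, mul_inv_cancel_right]
        _ = ⁅e, u⁆ ^ (n + 1) * u := by
            rw [pow_succ, mul_assoc (⁅e, u⁆ ^ n)]
            congr 1
            rw [commutatorElement_def, inv_mul_cancel_right]
  have hker : e ^ p ∈ CfsgLib.ConjFunctor.chiefKernel V := by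
    intro U V' hc hU u hu
    haveI := hc.2.1
    haveI := hc.2.2.1
    have hcU : ⁅e, u⁆ ∈ U := Subgroup.commutator_le_right ⊤ U
      (Subgroup.commutator_mem_commutator (Subgroup.mem_top e) hu)
    have habU : ⁅U, U⁆ ≤ V' := by
      rw [Subgroup.commutator_le]
      intro a ha b hb
      rw [commutatorElement_eq_one_iff_mul_comm.2 (hab a (hU ha) b (hU hb)).eq]
      exact one_mem _
    have h1 : ⁅e ^ p, u⁆ = ⁅e, u⁆ ^ p := by
      rw [commutatorElement_def, hconjpow u (hU hu), mul_inv_cancel_right]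
    rw [← commutatorElement_inv, h1]
    exact inv_mem (CfsgLib.ConjFunctor.pow_mem_of_chiefFactor hc (hU.trans hV) habU hcU)
  have h2 : Commute (e ^ p) v := CfsgLib.ConjFunctor.commute_of_mem_chiefKernel P
    ((CfsgLib.Solvable.pCore_isPGroup p H).to_le hV) hv hvP hker
  have h3 : ⁅e, v⁆ ^ p = 1 := by
    have := hconjpow v hv p
    rw [h2.eq, mul_inv_cancel_right] at this
    simpa using this.symm
  have h4 : e * v ^ p * e⁻¹ = v ^ p := by
    have hcV : ⁅e, v⁆ ∈ V := Subgroup.commutator_le_right ⊤ V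
      (Subgroup.commutator_mem_commutator (Subgroup.mem_top e) hv)
    rw [← conj_pow, show e * v * e⁻¹ = ⁅e, v⁆ * v by
      rw [commutatorElement_def, inv_mul_cancel_right], (hab _ hcV v hv).mul_pow, h3, one_mul]
  exact mul_inv_eq_iff_eq_mul.1 h4

/-- A normal subgroup fixing the `p`-th powers of the central elements, from a quadratic element. -/
theorem exists_normal_fix_of_quadratic {H : Type u} [Group H] [Finite H] {p : ℕ} [Fact p.Prime]
    (P : Sylow p H) {g : H} (hgP : g ∈ (P : Subgroup H)) (hg : g ∉ Cfsg.pCore p H)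
    (hq : ⁅⁅(Subgroup.center ↥(Cfsg.pCore p H)).map (Cfsg.pCore p H).subtype, Subgroup.zpowers g⁆,
      Subgroup.zpowers g⁆ = ⊥) :
    ∃ M : Subgroup H, M.Normal ∧ ¬ M ⊓ (P : Subgroup H) ≤ Cfsg.pCore p H ∧
      ∀ v ∈ CfsgLib.ConjFunctor.coreCenter p H, (∀ s ∈ (P : Subgroup H), Commute s v) →
        ∀ m ∈ M, Commute m (v ^ p) := by
  set V := CfsgLib.ConjFunctor.coreCenter p H
  set E : Set H := {e | ∀ u ∈ V, ⁅e, ⁅e, u⁆⁆ = 1} with hE
  have hgE : g ∈ E := fun u hu => CfsgLib.ConjFunctor.commutator_comm_one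
    (U := (Subgroup.center ↥(Cfsg.pCore p H)).map (Cfsg.pCore p H).subtype)
    ⟨⟨u, hu.1⟩, Subgroup.mem_center_iff.2 fun z => Subtype.ext
      (Subgroup.mem_centralizer_iff.1 hu.2 z z.2), rfl⟩ hq
  have hEconj : ∀ (a : H), ∀ e ∈ E, a * e * a⁻¹ ∈ E := by
    intro a e he u hu
    have h1 := he (a⁻¹ * u * a)
      (by have := Subgroup.Normal.conj_mem (CfsgLib.ConjFunctor.coreCenter_normal p H) u hu a⁻¹; rwa [inv_inv] at this)
    calc ⁅a * e * a⁻¹, ⁅a * e * a⁻¹, u⁆⁆ = a * ⁅e, ⁅e, a⁻¹ * u * a⁆⁆ * a⁻¹ := by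
          simp only [commutatorElement_def]; group
      _ = 1 := by rw [h1, mul_one, mul_inv_cancel]
  refine ⟨Subgroup.closure E, ⟨fun x hx a => ?_⟩,
    fun h => hg (h ⟨Subgroup.subset_closure hgE, hgP⟩), fun v hv hvP m hm => ?_⟩
  · have h1 : (Subgroup.closure E).map (MulAut.conj a).toMonoidHom ≤ Subgroup.closure E := by
      rw [MonoidHom.map_closure, Subgroup.closure_le]
      rintro _ ⟨e, he, rfl⟩
      exact Subgroup.subset_closure (hEconj a e he)
    exact h1 ⟨x, hx, rfl⟩
  · induction hm using Subgroup.closure_induction with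
    | mem e he =>
      exact commute_pow_of_quadratic P inf_le_left (CfsgLib.ConjFunctor.coreCenter_comm p H) he hv hvP
    | one => exact Commute.one_left _
    | mul a b _ _ ha hb => exact ha.mul_left hb
    | inv a _ ha => exact ha.inv_left

variable {Ω : Type u} [Group Ω] {S T : Subgroup Ω} {F : Cfsg.FusionSystem S}
variable {E : Cfsg.FusionSystem T} {p : ℕ}

/-- A normal subgroup of the model modulo `Z` fixing powers of the central elements of the image of
the Sylow group gives one of the model fixing the powers of central elements of `S`. -/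
theorem exists_fix_of_quotient_center [Finite S] [Fact p.Prime] (hS : IsPGroup p S)
    (hE : IsLocal F p E) {Z : Subgroup Ω} (hZ : E.IsNormal Z) (hp : IsPGroup p (E.autGroup Z))
    (hlt : Z < E.core) (hC : centralizerIn T E.core ≤ E.core) (D : CoreData F E p E.core) (n : ℕ)
    [hn : ((Z.subgroupOf T).map D.ι).Normal] (M : Subgroup (D.L ⧸ (Z.subgroupOf T).map D.ι))
    [M.Normal] (hM : ¬ M ⊓ D.ι.range.map (QuotientGroup.mk' _) ≤ coreImage D Z)
    (hfix : ∀ m ∈ M, Nat.Coprime (orderOf m) p →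
      ∀ v ∈ coreImage D Z,
        (∀ s ∈ D.ι.range.map (QuotientGroup.mk' ((Z.subgroupOf T).map D.ι)), Commute s v) →
        Commute m (v ^ p ^ n)) :
    ∃ K : Subgroup D.L, K.Normal ∧
      ¬ K ⊓ D.ι.range ≤ (E.core.subgroupOf T).map D.ι ∧
      ∀ m ∈ K, Nat.Coprime (orderOf m) p →
        ∀ a ∈ Cfsg.powerClosure p n (S ⊓ Subgroup.centralizer (S : Set Ω)), ∀ haY : a ∈ E.core,
          (D.τ m : MulAut E.core) ⟨a, haY⟩ = ⟨a, haY⟩ := by
  set mk := QuotientGroup.mk' ((Z.subgroupOf T).map D.ι) with hmk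
  have := hE.finite
  have hT := hE.isPGroup hS
  refine ⟨M.comap mk, inferInstance, fun h => hM ?_, fun m hm hco a ha haY => ?_⟩
  · rintro x ⟨hxM, l, hl, rfl⟩
    exact ⟨l, h ⟨hxM, hl⟩, rfl⟩
  · set Y0 : Subgroup E.core :=
      { carrier := {y | (D.τ m : MulAut E.core) y = y}
        one_mem' := map_one (D.τ m : MulAut E.core)
        mul_mem' := fun {x y} hx hy => by
          show (D.τ m : MulAut E.core) (x * y) = x * y
          rw [map_mul, hx, hy]
        inv_mem' := fun {x} hx => by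
          show (D.τ m : MulAut E.core) x⁻¹ = x⁻¹
          rw [map_inv, hx] }
    have hle : Cfsg.powerClosure p n (S ⊓ Subgroup.centralizer (S : Set Ω)) ≤ Y0.map E.core.subtype := by
      refine (Subgroup.closure_le _).2 ?_
      rintro _ ⟨x, hx, rfl⟩
      have hxY : x ∈ E.core := center_mem_core hE hC hx.1 hx.2
      refine ⟨⟨x, hxY⟩ ^ p ^ n, ?_, rfl⟩
      set v := mk (D.ι (Subgroup.inclusion D.hle ⟨x, hxY⟩)) with hv
      have hvS : ∀ s ∈ D.ι.range.map mk, Commute s v := by
        rintro _ ⟨_, ⟨t, rfl⟩, rfl⟩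
        refine (Commute.map ?_ mk)
        refine Commute.map ?_ D.ι
        exact Subtype.ext (Subgroup.mem_centralizer_iff.1 hx.2 t (hE.le_S t.2))
      have h1 : Commute (mk m) (mk (D.ι (Subgroup.inclusion D.hle (⟨x, hxY⟩ ^ p ^ n : E.core)))) := by
        have := hfix (mk m) hm (hco.coprime_dvd_left (orderOf_map_dvd mk m)) v
          ⟨_, ⟨_, hxY, rfl⟩, rfl⟩ hvS
        rwa [map_pow (Subgroup.inclusion D.hle), map_pow, map_pow]
      set w : E.core := ⟨x, hxY⟩ ^ p ^ n
      show (D.τ m : MulAut E.core) w = w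
      refine D.fix_of_coprime_mod hT hZ hlt.le hp hco w ?_
      have h2 : mk (D.ι (Subgroup.inclusion D.hle ((D.τ m : MulAut E.core) w))) =
          mk (D.ι (Subgroup.inclusion D.hle w)) := by
        rw [← D.equiv, map_mul, map_mul, map_inv, h1.eq, mul_inv_cancel_right]
      obtain ⟨z, hz, hzv⟩ := QuotientGroup.eq.1 h2.symm
      rw [← map_inv, ← map_mul] at hzv
      have h3 : (z : Ω) = (w : Ω)⁻¹ * (((D.τ m : MulAut E.core) w : E.core) : Ω) :=
        congrArg Subtype.val (D.model.2.1.1 hzv)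
      exact h3 ▸ hz
    obtain ⟨y, hy, hya⟩ := hle ha
    have hy' : y = ⟨a, haY⟩ := Subtype.ext hya
    exact hy' ▸ hy

end CfsgLib.FusionControl
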