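import Cfsg.Agent.Lib.FusionControl.InnerStep
import Cfsg.Agent.S2800
import Cfsg.Agent.S5220
import Cfsg.Agent.Lib.FusionControl.CenterStep
import Cfsg.Agent.Lib.FusionControl.NormalStep

/-!
# Thompson-type criteria: `J` and the centre
-/

set_option autoImplicit false

namespace CfsgLib.FusionControl

open Cfsg Cfsg.FusionSystem CfsgLib.Fusion
open Cfsg.Agent.S5220 (jW jW_natural jW_ne_bot jW_map)

universe u
variable {Ω : Type u} [Group Ω] {S T : Subgroup Ω} {F : Cfsg.FusionSystem S}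
variable {E : Cfsg.FusionSystem T} {p : ℕ}

/-- The functor `Q ↦ Z(Q)`. -/
def cW (Q : Type u) [Group Q] : Subgroup Q := Subgroup.center Q

theorem cW_ne_bot [Fact p.Prime] (Q : Type u) [Group Q] [Finite Q] (hQ : IsPGroup p Q)
    (hne : Nontrivial Q) : cW Q ≠ ⊥ :=
  (Subgroup.nontrivial_iff_ne_bot _).1 hQ.center_nontrivial

theorem cW_natural (Q R : Type u) [Group Q] [Group R] [Finite Q] (_ : IsPGroup p Q) (φ : Q ≃* R) :
    (cW Q).map φ.toMonoidHom = cW R := by
  ext x
  constructor
  · rintro ⟨z, hz, rfl⟩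
    exact Subgroup.mem_center_iff.2 fun y => by
      obtain ⟨w, rfl⟩ := φ.surjective y
      show φ w * φ z = φ z * φ w
      rw [← map_mul, ← map_mul, Subgroup.mem_center_iff.1 hz w]
  · intro hx
    refine ⟨φ.symm x, Subgroup.mem_center_iff.2 fun y => φ.injective ?_, φ.apply_symm_apply x⟩
    rw [map_mul, map_mul, MulEquiv.apply_symm_apply]
    exact Subgroup.mem_center_iff.1 hx _

theorem cW_map {H : Type u} [Group H] (P : Subgroup H) :
    (cW P).map P.subtype = P ⊓ Subgroup.centralizer (P : Set H) := by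
  ext x
  constructor
  · rintro ⟨z, hz, rfl⟩
    exact ⟨z.2, Subgroup.mem_centralizer_iff.2 fun y hy =>
      congrArg Subtype.val (Subgroup.mem_center_iff.1 hz ⟨y, hy⟩)⟩
  · rintro ⟨hx, hc⟩
    exact ⟨⟨x, hx⟩, Subgroup.mem_center_iff.2 fun y =>
      Subtype.ext (Subgroup.mem_centralizer_iff.1 hc y y.2), rfl⟩

/-- `J` and, with `withC` or above a nontrivial `Z`, the centre. -/
def jcChoice (withC : Prop) (Z R : Subgroup Ω) : Set (Subgroup Ω) :=
  {U | U ∈ liftSub jW Z R ∨ ((withC ∨ Z ≠ ⊥) ∧ U ∈ liftSub cW Z R)}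

theorem isGoodChoice_jcChoice [Finite S] [Fact p.Prime] (hS : IsPGroup p S) (withC : Prop) :
    IsGoodChoice S (jcChoice withC) := by
  rintro Z R U hZR hRS (hU | ⟨-, hU⟩)
  · exact isGoodChoice_liftSub hS (W := jW) jW_ne_bot jW_natural Z R U hZR hRS hU
  · exact isGoodChoice_liftSub hS (W := cW) cW_ne_bot cW_natural Z R U hZR hRS hU

/-- The chosen subgroups over a characteristic subgroup are characteristic. -/
theorem liftSub_characteristic {W : ∀ (Q : Type u) [Group Q], Subgroup Q} [Finite S]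
    (hS : IsPGroup p S)
    (hW2 : ∀ (Q R : Type u) [Group Q] [Group R] [Finite Q], IsPGroup p Q → ∀ φ : Q ≃* R,
      (W Q).map φ.toMonoidHom = W R) {Z U : Subgroup Ω} (hZ : (Z.subgroupOf S).Characteristic)
    (hU : U ∈ liftSub W Z S) : (U.subgroupOf S).Characteristic := by
  obtain ⟨hn, rfl⟩ := hU
  rw [show (((W (S ⧸ Z.subgroupOf S)).comap (QuotientGroup.mk' (Z.subgroupOf S))).map
    S.subtype).subgroupOf S = _ from Subgroup.comap_map_eq_self_of_injective S.subtype_injective _]
  refine Subgroup.characteristic_iff_le_comap.2 fun c x hx => ?_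
  have hc : (Z.subgroupOf S).map c.toMonoidHom = Z.subgroupOf S :=
    Subgroup.characteristic_iff_map_eq.1 hZ c
  have hmap := hW2 _ _ (hS.to_quotient _) (QuotientGroup.congr _ _ c hc)
  show QuotientGroup.mk' _ (c x) ∈ W _
  rw [← hmap]
  exact ⟨_, hx, rfl⟩

theorem normalizer_of_characteristic {Q : Subgroup Ω} (hQS : Q ≤ S)
    (hQ : (Q.subgroupOf S).Characteristic) : S ≤ Subgroup.normalizer (Q : Set Ω) := by
  intro g hg
  rw [Subgroup.mem_normalizer_iff]
  intro x
  have hn : (Q.subgroupOf S).Normal := Subgroup.normal_of_characteristic _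
  constructor
  · intro hx
    exact hn.conj_mem ⟨x, hQS hx⟩ hx ⟨g, hg⟩
  · intro hx
    have h1 := hn.conj_mem' ⟨g * x * g⁻¹, hQS hx⟩ hx ⟨g, hg⟩
    have h2 : g⁻¹ * (g * x * g⁻¹) * g ∈ Q := h1
    simpa [mul_assoc] using h2

/-- The constrained step for `J` and the centre. -/
theorem hcons_thompson [Finite S] [Fact p.Prime] (hS : IsPGroup p S) (hF : F.IsSaturated p)
    (hfree : p ≠ 2 ∨ F.IsSectionFree p (Equiv.Perm (Fin 4))) (withC : Prop)
    (hC : ¬ withC → ∀ P, F.centralizerHom (S ⊓ Subgroup.centralizer (S : Set Ω)) P ⊆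
      (Cfsg.innerFusionSystem S).Hom P)
    {T : Subgroup Ω} (E : Cfsg.FusionSystem T) (Z : Subgroup Ω) (hE : IsLocal F p E)
    (hZ : E.IsNormal Z) (hp : IsPGroup p (E.autGroup Z)) (hlt : Z < E.core)
    (hCT : centralizerIn T E.core ≤ E.core)
    (hcov : Covered (Cfsg.innerFusionSystem S) (jcChoice withC) E Z) :
    E.IsSubsystemOf (Cfsg.innerFusionSystem S) := by
  refine hcons_of_step hS hF (inner_isSaturated hS) (inner_le F) (isGoodChoice_jcChoice hS withC)
    (fun {T} E Z hE hZ hp hlt D hD => ?_) E Z hE hZ hp hlt hCT hcov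
  have := hE.finite
  have hT := hE.isPGroup hS
  have hn : ((Z.subgroupOf T).map D.ι).Normal := D.normal_map hZ hlt.le
  set mk := QuotientGroup.mk' ((Z.subgroupOf T).map D.ι) with hmk
  obtain ⟨P₀, hP₀⟩ := D.model.2.2.1
  set P := P₀.mapSurjective (QuotientGroup.mk'_surjective ((Z.subgroupOf T).map D.ι)) with hPdef
  have hP : (P : Subgroup _) = D.ι.range.map mk := by
    rw [hPdef, ← hP₀]
    rfl
  have hpc : ∀ K : Subgroup (D.L ⧸ (Z.subgroupOf T).map D.ι), IsPGroup p K →
      Cfsg.HasNormalPComplement p K := fun K hK =>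
    CfsgLib.NPC.hasNormalPComplement_iff.2 ⟨⊥, inferInstance,
      by rw [Subgroup.card_bot]; exact Nat.coprime_one_left _,
      by rw [Subgroup.index_bot]; exact IsPGroup.iff_card.1 hK⟩
  refine inner_of_npc hS hE hZ hp hlt D (Cfsg.Agent.S2800.result P ?_ (hpc _ ?_) (hpc _ ?_))
  · exact hfree.imp_right fun hf h => D.not_involves hf (involves_of_quotient _ h)
  · by_cases hw : withC ∨ Z ≠ ⊥
    · obtain ⟨U, hU⟩ := liftSub_nonempty (W := cW) hZ
      refine ((isPGroup_of_inner hS hE D (hD U (Or.inr ⟨hw, hU⟩))).map mk).to_le fun x hx => ?_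
      obtain ⟨l, rfl⟩ := QuotientGroup.mk'_surjective _ x
      refine ⟨l, (mem_normalizer_liftSub cW_natural hT D.model.2.1.1 hU _ hP l).1 ?_, rfl⟩
      rw [cW_map]
      exact CfsgLib.Fusion.centralizer_le_normalizer _ hx
    · push Not at hw
      obtain ⟨hw, hZ0⟩ := hw
      set A := S ⊓ Subgroup.centralizer (S : Set Ω) with hA
      set CP : Subgroup (D.L ⧸ (Z.subgroupOf T).map D.ι) :=
        (P : Subgroup (D.L ⧸ (Z.subgroupOf T).map D.ι)) ⊓ Subgroup.centralizer
          ((P : Subgroup (D.L ⧸ (Z.subgroupOf T).map D.ι)) : Set (D.L ⧸ (Z.subgroupOf T).map D.ι))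
      set K := (Subgroup.centralizer (CP : Set (D.L ⧸ (Z.subgroupOf T).map D.ι))).comap mk
      have hK : IsPGroup p K := by
        refine isPGroup_of_inner hS hE D fun l hl => ?_
        have hYS : E.core ≤ S := D.hle.trans hE.le_S
        have hcl : centralizerIn T E.core ≤ E.core := by
          intro c hc
          obtain ⟨z, hz, hzv⟩ := D.ker (D.ι ⟨c, hc.1⟩) (Subtype.ext (MulEquiv.ext fun y =>
            Subtype.ext (by
              rw [D.τ_ι, ← Subgroup.mem_centralizer_iff.1 hc.2 y y.2, mul_inv_cancel_right]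
              rfl)))
          have h1 := congrArg Subtype.val (D.model.2.1.1 hzv)
          exact (show (z : Ω) = c from h1) ▸ z.2
        have hAY : A ≤ E.core := fun a ha => center_mem_core hE hcl ha.1 ha.2
        have hτ : IsFIso E ((D.τ l : MulAut E.core) : E.core ≃* E.core) :=
          (mem_autGroup_iff D.hle).1 (D.τ l).2
        have hSA : ∀ x ∈ S, x ∈ centralizerIn S A := fun x hx =>
          ⟨hx, Subgroup.mem_centralizer_iff.2 fun a ha =>
            (Subgroup.mem_centralizer_iff.1 ha.2 x hx).symm⟩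
        refine (mem_autGroup_iff hYS).2 (hC hw _ ⟨hE.1 _ hτ, fun y hy => hSA y (hYS hy),
          fun y => hSA _ (hE.le_S (map_mem hτ y)), (E.core.subtype.comp
            (D.τ l : MulAut E.core).toMonoidHom).comp (Subgroup.inclusion (sup_le le_rfl hAY)),
          restrict_mem (hE.1 _ hτ) _, fun y => rfl, fun a => ?_⟩)
        set aT : T := Subgroup.inclusion D.hle ⟨a, hAY a.2⟩
        have hc : mk (D.ι aT) * mk l = mk l * mk (D.ι aT) := by
          refine Subgroup.mem_centralizer_iff.1 hl _ ⟨hP.symm ▸ ⟨_, ⟨aT, rfl⟩, rfl⟩,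
            Subgroup.mem_centralizer_iff.2 fun y hy => ?_⟩
          obtain ⟨_, ⟨t, rfl⟩, rfl⟩ := hP.le hy
          rw [← map_mul, ← map_mul, ← map_mul, ← map_mul]
          exact congrArg mk (congrArg D.ι (Subtype.ext
            (Subgroup.mem_centralizer_iff.1 a.2.2 t (hE.le_S t.2))))
        rw [← map_mul, ← map_mul] at hc
        obtain ⟨z, hz, hzv⟩ := QuotientGroup.eq.1 hc
        have hz1 : z = 1 := Subtype.ext (Subgroup.mem_bot.1 (hZ0 ▸ hz))
        rw [hz1, map_one, eq_comm, inv_mul_eq_one] at hzv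
        have h2 := D.equiv l ⟨a, hAY a.2⟩
        rw [← hzv, mul_inv_cancel_right] at h2
        exact (congrArg Subtype.val (D.model.2.1.1 h2)).symm
      exact (hK.map mk).to_le (Subgroup.map_comap_eq_self_of_surjective
        (QuotientGroup.mk'_surjective _) _).ge
  · obtain ⟨U, hU⟩ := liftSub_nonempty (W := jW) hZ
    refine ((isPGroup_of_inner hS hE D (hD U (Or.inl hU))).map mk).to_le fun x hx => ?_
    obtain ⟨l, rfl⟩ := QuotientGroup.mk'_surjective _ x
    refine ⟨l, (mem_normalizer_liftSub jW_natural hT D.model.2.1.1 hU _ hP l).1 ?_, rfl⟩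
    rw [jW_map, ← CfsgLib.PLoc.joinMaxAb_zero]
    exact hx

end CfsgLib.FusionControl
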