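import Mathlib.GroupTheory.Index
import Mathlib.GroupTheory.QuotientGroup.Basic
import Mathlib.Algebra.BigOperators.Group.Finset.Basic
import Mathlib.Algebra.Group.End
import Mathlib.Algebra.Group.Subgroup.Ker
import Mathlib.Data.Fintype.BigOperators
import Mathlib.GroupTheory.OrderOfElement

/-!
# The fixed points of a group are a direct factor of those of a subgroup of coprime index
-/

set_option autoImplicit false

namespace CfsgLib.FusionControl

/-- The fixed points of `A` on an abelian group `M` are a direct factor of the fixed points of a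
subgroup `B` of index prime to the order of `M`. -/
theorem exists_factor_of_coprime {M : Type*} [CommGroup M] [Finite M] {A : Type*} [Group A]
    [Finite A] (φ : A →* MulAut M) (B : Subgroup A) (hcop : B.index.Coprime (Nat.card M))
    (C₀ C₁ : Subgroup M) (h₀ : ∀ x, x ∈ C₀ ↔ ∀ a, φ a x = x) (h₁ : ∀ x, x ∈ C₁ ↔ ∀ b ∈ B, φ b x = x) :
    ∃ K ≤ C₁, C₀ ⊓ K = ⊥ ∧ C₀ ⊔ K = C₁ := by
  classical
  letI := Fintype.ofFinite (A ⧸ B)
  have hwell : ∀ (x : C₁) (a a' : A), (QuotientGroup.leftRel B) a a' → φ a (x : M) = φ a' (x : M) := by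
    intro x a a' h
    rw [QuotientGroup.leftRel_apply] at h
    have h1 := (h₁ _).1 x.2 _ h
    conv_rhs => rw [show a' = a * (a⁻¹ * a') by simp, map_mul, MulAut.mul_apply, h1]
  set act : C₁ → A ⧸ B → M := fun x q => Quotient.liftOn' q (fun a => φ a (x : M)) (hwell x)
  have hact : ∀ (x : C₁) (a : A), act x (QuotientGroup.mk a) = φ a (x : M) := fun _ _ => rfl
  have hmul : ∀ (x y : C₁) q, act (x * y) q = act x q * act y q := by
    intro x y q
    induction q using Quotient.inductionOn'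
    exact map_mul _ _ _
  set tr : C₁ →* M := MonoidHom.mk' (fun x => ∏ q : A ⧸ B, act x q) (fun x y => by
    rw [← Finset.prod_mul_distrib]; exact Finset.prod_congr rfl fun q _ => hmul x y q)
  have htr : ∀ x, tr x ∈ C₀ := by
    intro x
    refine (h₀ _).2 fun a => ?_
    show φ a (∏ q : A ⧸ B, act x q) = _
    rw [map_prod]
    refine Fintype.prod_equiv (MulAction.toPerm a) _ _ fun q => ?_
    induction q using QuotientGroup.induction_on with
    | _ b =>
      show φ a (φ b (x : M)) = φ (a * b) (x : M)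
      rw [map_mul, MulAut.mul_apply]
  have hfix : ∀ x : C₁, (x : M) ∈ C₀ → tr x = (x : M) ^ B.index := by
    intro x hx
    show ∏ q : A ⧸ B, act x q = _
    rw [Finset.prod_congr rfl (fun q _ => (show act x q = (x : M) from
      QuotientGroup.induction_on q fun a => (hact x a).trans ((h₀ _).1 hx a)))]
    rw [Finset.prod_const, Finset.card_univ, ← Nat.card_eq_fintype_card]
    rfl
  refine ⟨tr.ker.map C₁.subtype, Subgroup.map_subtype_le _, (Subgroup.eq_bot_iff_forall _).2 ?_,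
    le_antisymm (sup_le (fun x hx => (h₁ x).2 fun b _ => (h₀ x).1 hx b) (Subgroup.map_subtype_le _)) ?_⟩
  · rintro _ ⟨hx0, x, hx, rfl⟩
    exact orderOf_eq_one_iff.1 (Nat.eq_one_of_dvd_coprimes hcop
      (orderOf_dvd_of_pow_eq_one ((hfix x hx0).symm.trans hx)) (orderOf_dvd_natCard _))
  · intro x hx
    obtain ⟨m, hm⟩ : ∃ m : ℕ, (tr ⟨x, hx⟩ ^ B.index) ^ m = tr ⟨x, hx⟩ :=
      exists_pow_eq_self_of_coprime (hcop.coprime_dvd_right (orderOf_dvd_natCard _))
    have hC : tr ⟨x, hx⟩ ^ m ∈ C₀ := pow_mem (htr _) m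
    have hC1 : tr ⟨x, hx⟩ ^ m ∈ C₁ := (h₁ _).2 fun b _ => (h₀ _).1 hC b
    rw [show x = tr ⟨x, hx⟩ ^ m * ((tr ⟨x, hx⟩ ^ m)⁻¹ * x) by simp]
    refine Subgroup.mul_mem_sup hC ⟨⟨_, hC1⟩⁻¹ * ⟨x, hx⟩, ?_, rfl⟩
    show tr (⟨_, hC1⟩⁻¹ * ⟨x, hx⟩) = 1
    rw [map_mul, map_inv, hfix ⟨_, hC1⟩ hC, inv_mul_eq_one]
    show (tr ⟨x, hx⟩ ^ m) ^ B.index = _
    rw [← pow_mul, mul_comm, pow_mul, hm]

end CfsgLib.FusionControl
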